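import Cfsg.Agent.JankoSixCover.Setup
import Cfsg.Agent.Coprime.Generation

/-!
Actions on elementary abelian sections: the decomposition under a group of order nine, the bound given by an element of
order eleven, generation by fixed points, and the representation on a section.
-/

set_option autoImplicit false
set_option maxHeartbeats 1000000
set_option linter.style.haveILetI false
set_option linter.unusedSectionVars false

namespace Cfsg.Lib.JankoSixCover

open Subgroup
open scoped commutatorElement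

universe u v

section Linear

variable {V : Type v} [AddCommGroup V]

theorem end_mul_apply (f g : AddMonoid.End V) (v : V) : (f * g) v = f (g v) := rfl

theorem end_one_apply (v : V) : (1 : AddMonoid.End V) v = v := rfl

/-- The norm of an element of order three. -/
def norm3 (g : AddMonoid.End V) (v : V) : V := v + g v + g (g v)

/-- A space is the sum of the fixed spaces of three elements when one further element has no fixed points. -/
theorem three_split [Finite V] (two : ∀ v : V, v + v = 0) (s t : AddMonoid.End V) (hs : s ^ 3 = 1) (ht : t ^ 3 = 1)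
    (hst : Commute s t) (hfpf : ∀ v, s v = v → v = 0) :
    Nat.card V = Nat.card {v : V // t v = v} * Nat.card {v : V // (t * s) v = v} *
      Nat.card {v : V // (t * (s * s)) v = v} := by
  have hs3 : ∀ v, s (s (s v)) = v := fun v => by
    have h := congrArg (fun f : AddMonoid.End V => f v) hs
    simpa [pow_succ, end_mul_apply, end_one_apply] using h
  have ht3 : ∀ v, t (t (t v)) = v := fun v => by
    have h := congrArg (fun f : AddMonoid.End V => f v) ht
    simpa [pow_succ, end_mul_apply, end_one_apply] using h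
  have hc : ∀ v, s (t v) = t (s v) := fun v => congrArg (fun f : AddMonoid.End V => f v) hst.eq
  have hsum : ∀ v, v + s v + s (s v) = 0 := fun v => hfpf _ (by rw [map_add, map_add, hs3]; abel)
  have hss : ∀ v, s (s v) = v + s v := fun v => by
    rw [eq_comm, ← sub_eq_zero, sub_eq_add_neg, neg_eq_of_add_eq_zero_left (two (s (s v)))]
    exact hsum v
  have dbl : ∀ a b : V, a + (a + b) = b := fun a b => by rw [← add_assoc, two, zero_add]
  let g0 := t
  let g1 := t * s
  let g2 := t * (s * s)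
  have e1 : ∀ v, g1 v = t (s v) := fun v => rfl
  have e2 : ∀ v, g2 v = t (s (s v)) := fun v => rfl
  have h13 : ∀ v, g1 (g1 (g1 v)) = v := fun v => by simp only [e1, hc, hs3, ht3]
  have h23 : ∀ v, g2 (g2 (g2 v)) = v := fun v => by simp only [e2, hc, hs3, ht3]
  have fixN : ∀ g : AddMonoid.End V, (∀ v, g (g (g v)) = v) → ∀ v, g (norm3 g v) = norm3 g v := fun g hg v => by
    simp only [norm3, map_add, hg]; abel
  have tot : ∀ v, norm3 g0 v + norm3 g1 v + norm3 g2 v = v := fun v => by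
    have ha : g0 v + g1 v + g2 v = 0 := by
      show t v + t (s v) + t (s (s v)) = 0
      rw [← map_add, ← map_add, hsum, map_zero]
    have hb : g0 (g0 v) + g1 (g1 v) + g2 (g2 v) = 0 := by
      show t (t v) + t (s (t (s v))) + t (s (s (t (s (s v))))) = 0
      simp only [hc]
      rw [← map_add, ← map_add, ← map_add, ← map_add, show s (s (s (s v))) = s v from hs3 (s v),
        add_right_comm, hsum, map_zero, map_zero]
    have h3 : v + v + v = v := by rw [two, zero_add]
    calc norm3 g0 v + norm3 g1 v + norm3 g2 v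
        = (v + v + v) + (g0 v + g1 v + g2 v) + (g0 (g0 v) + g1 (g1 v) + g2 (g2 v)) := by simp only [norm3]; abel
      _ = v := by rw [ha, hb, h3, add_zero, add_zero]
  -- a vector fixed by one of the three is killed by the norms of the others
  have kill : ∀ (g : AddMonoid.End V) (w : V), (g w = s w ∧ g (g w) = s (s w)) ∨ (g w = s (s w) ∧ g (g w) = s w) →
      norm3 g w = 0 := fun g w h => by
    rcases h with ⟨a, b⟩ | ⟨a, b⟩ <;> rw [norm3, b, a]
    · exact hsum w
    · rw [add_right_comm]; exact hsum w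
  have k0 : ∀ w, t w = w → norm3 g1 w = 0 ∧ norm3 g2 w = 0 := fun w hw => by
    have a : t (s w) = s w := by rw [← hc, hw]
    have b : t (s (s w)) = s (s w) := by rw [← hc, a]
    refine ⟨kill _ _ (Or.inl ⟨a, ?_⟩), kill _ _ (Or.inr ⟨b, ?_⟩)⟩
    · show t (s (t (s w))) = _
      rw [a, b]
    · show t (s (s (t (s (s w))))) = _
      rw [b, show s (s (s (s w))) = s w from hs3 _, a]
  have k1 : ∀ w, g1 w = w → norm3 g0 w = 0 ∧ norm3 g2 w = 0 := fun w hw => by
    have hw' : t (s w) = w := hw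
    have a : t w = s (s w) := by
      have := congrArg (fun r => s (s r)) hw'
      simp only [hc, hs3] at this
      simpa [hc, hs3] using this
    have a' : t (s (s w)) = s w := by rw [← hc, hw']
    refine ⟨kill _ _ (Or.inr ⟨a, ?_⟩), kill _ _ (Or.inl ⟨a', ?_⟩)⟩
    · show t (t w) = _
      rw [a, a']
    · show t (s (s (t (s (s w))))) = _
      rw [a', show s (s (s w)) = w from hs3 _, a]
  have k2 : ∀ w, g2 w = w → norm3 g0 w = 0 ∧ norm3 g1 w = 0 := fun w hw => by
    have hw' : t (s (s w)) = w := hw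
    have a : t w = s w := by
      have := congrArg s hw'
      rwa [hc, hs3] at this
    have a' : t (s w) = s (s w) := by rw [← hc, a]
    refine ⟨kill _ _ (Or.inl ⟨a, ?_⟩), kill _ _ (Or.inr ⟨a', ?_⟩)⟩
    · show t (t w) = _
      rw [a, a']
    · show t (s (t (s w))) = _
      rw [a', show s (s (s w)) = w from hs3 _, a]
  have self : ∀ (g : AddMonoid.End V) (w : V), g w = w → norm3 g w = w := fun g w h => by
    rw [norm3, h, h, two, zero_add]
  rw [← Nat.card_prod, ← Nat.card_prod]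
  refine Nat.card_congr
    { toFun := fun v => ((⟨norm3 g0 v, fixN g0 ht3 v⟩, ⟨norm3 g1 v, fixN g1 h13 v⟩), ⟨norm3 g2 v, fixN g2 h23 v⟩)
      invFun := fun p => p.1.1.1 + p.1.2.1 + p.2.1
      left_inv := tot
      right_inv := fun p => ?_ }
  obtain ⟨⟨⟨a, ha⟩, ⟨b, hb⟩⟩, ⟨c, hc'⟩⟩ := p
  have lin : ∀ (g : AddMonoid.End V) (x y : V), norm3 g (x + y) = norm3 g x + norm3 g y := fun g x y => by
    simp only [norm3, map_add]; abel
  refine Prod.ext (Prod.ext (Subtype.ext ?_) (Subtype.ext ?_)) (Subtype.ext ?_)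
  · show norm3 g0 (a + b + c) = a
    rw [lin, lin, self _ _ ha, (k1 b hb).1, (k2 c hc').1, add_zero, add_zero]
  · show norm3 g1 (a + b + c) = b
    rw [lin, lin, (k0 a ha).1, self _ _ hb, (k2 c hc').2, zero_add, add_zero]
  · show norm3 g2 (a + b + c) = c
    rw [lin, lin, (k0 a ha).2, (k1 b hb).2, self _ _ hc', zero_add, zero_add]

theorem card_two_pow [Finite V] (two : ∀ v : V, v + v = 0) : ∃ n, Nat.card V = 2 ^ n := by
  haveI : Fact (Nat.Prime 2) := ⟨Nat.prime_two⟩
  have h : IsPGroup 2 (Multiplicative V) := fun g => ⟨1, by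
    rw [pow_one, pow_two]
    exact Multiplicative.toAdd.injective (two _)⟩
  obtain ⟨n, hn⟩ := h.exists_card_eq
  exact ⟨n, by rwa [Nat.card_congr Multiplicative.toAdd] at hn⟩

/-- An element of order eleven needs a space of dimension ten. -/
theorem eleven_bound [Finite V] (two : ∀ v : V, v + v = 0) (a : AddMonoid.End V) (ha : a ^ 11 = 1) (ha1 : a ≠ 1) :
    1024 ≤ Nat.card V := by
  classical
  haveI : Fact (Nat.Prime 11) := ⟨by norm_num⟩
  haveI := Fintype.ofFinite V
  obtain ⟨n, hn⟩ := card_two_pow two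
  let K : AddSubgroup V :=
    { carrier := {v | a v = v}
      zero_mem' := map_zero a
      add_mem' := fun {p q} (hp : a p = p) (hq : a q = q) => by show a (p + q) = p + q; rw [map_add, hp, hq]
      neg_mem' := fun {p} (hp : a p = p) => by show a (-p) = -p; rw [map_neg, hp] }
  obtain ⟨m, hm⟩ := card_two_pow (V := ↥K) fun v => Subtype.ext (two v)
  let f : Function.End V := fun v => a v
  have hf : ∀ (k : ℕ) (v : V), (f ^ k : Function.End V) v = (a ^ k) v := by
    intro k
    induction k with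
    | zero => intro v; rfl
    | succ k ih =>
      intro v
      rw [pow_succ', pow_succ']
      show f ((f ^ k : Function.End V) v) = a ((a ^ k) v)
      rw [ih]
  have h1 : f ^ 11 ^ 1 = 1 := funext fun v => by rw [hf, pow_one, ha]; rfl
  have h := Equiv.Perm.card_fixedPoints_modEq h1
  rw [← Nat.card_eq_fintype_card, ← Nat.card_eq_fintype_card] at h
  have hK : Nat.card (Function.fixedPoints f) = 2 ^ m := by rw [← hm]; rfl
  rw [hn, hK] at h
  have hlt : m < n := by
    have hle : Nat.card ↥K ≤ Nat.card V := AddSubgroup.card_le_card_addGroup K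
    rw [hn, hm, Nat.pow_le_pow_iff_right one_lt_two] at hle
    refine lt_of_le_of_ne hle fun e => ha1 (AddMonoidHom.ext fun v => ?_)
    have htop := AddSubgroup.eq_top_of_card_eq K (by rw [hm, hn, e])
    exact (htop ▸ AddSubgroup.mem_top v : v ∈ K)
  rw [hn, show (1024 : ℕ) = 2 ^ 10 by norm_num]
  refine Nat.pow_le_pow_right two_pos ?_
  by_contra hlt10
  have key : ∀ n < 10, ∀ m < n, ¬ (2 ^ n % 11 = 2 ^ m % 11) := by decide
  exact key n (by omega) m hlt h

end Linear

/-- A module for the sixfold cover with the element of order three free of fixed points is large. -/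
theorem Six.big_module {G : Type u} [Group G] [Finite G] (D : Six G) {U : Type v} [AddCommGroup U] [Finite U]
    [Nontrivial U] (two : ∀ v : U, v + v = 0) (ρ : ↥D.C →* AddMonoid.End U)
    (hfpf : ∀ v, ρ ⟨D.x, D.xC⟩ v = v → v = 0) : 1024 ≤ Nat.card U := by
  classical
  haveI := Cfsg.Lib.Golay.isSimple_M22
  haveI : Fact (Nat.Prime 11) := ⟨by norm_num⟩
  haveI : (ρ.ker.map D.φ).Normal := Normal.map inferInstance D.φ D.φ_surj
  have himg : ρ.ker.map D.φ = ⊥ := by
    refine (IsSimpleGroup.eq_bot_or_eq_top_of_normal _ inferInstance).resolve_right fun h => ?_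
    have hle : commutator ↥D.C ≤ ρ.ker := by
      rw [commutator_def, commutator_le]
      intro a _ b _
      obtain ⟨a', ha', ea⟩ : D.φ a ∈ ρ.ker.map D.φ := h ▸ mem_top _
      obtain ⟨b', hb', eb⟩ : D.φ b ∈ ρ.ker.map D.φ := h ▸ mem_top _
      have hcen : ∀ w : ↥D.C, D.φ w = 1 → ∀ g : ↥D.C, Commute g w := fun w hw g => by
        obtain ⟨i, j, hij⟩ := (D.φ_ker w).mp hw
        refine Subtype.ext ?_
        show (g : G) * w = w * g
        rw [hij]
        exact (((D.memC.mp g.2).pow_right i).mul_right ((D.zc g g.2).pow_right j)).eq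
      have ha2 := hcen (a'⁻¹ * a) (by rw [map_mul, map_inv, ea, inv_mul_cancel])
      have hb2 := hcen (b'⁻¹ * b) (by rw [map_mul, map_inv, eb, inv_mul_cancel])
      have e : ⁅a, b⁆ = ⁅a', b'⁆ := by
        rw [show a = a' * (a'⁻¹ * a) by group, show b = b' * (b'⁻¹ * b) by group]
        generalize a'⁻¹ * a = p at ha2
        generalize b'⁻¹ * b = q at hb2
        simp only [commutatorElement_def, mul_inv_rev]
        calc a' * p * (b' * q) * (p⁻¹ * a'⁻¹) * (q⁻¹ * b'⁻¹)
            = a' * b' * (p * q * p⁻¹) * a'⁻¹ * q⁻¹ * b'⁻¹ := by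
              rw [show a' * p * (b' * q) = a' * (p * b') * q by group, (ha2 b').symm.eq]; group
          _ = a' * b' * q * a'⁻¹ * q⁻¹ * b'⁻¹ := by rw [(hb2 p).eq]; group
          _ = _ := by rw [show a' * b' * q * a'⁻¹ = a' * b' * (q * a'⁻¹) by group, (hb2 a'⁻¹).symm.eq]; group
      rw [e, commutatorElement_def]
      exact mul_mem (mul_mem (mul_mem ha' hb') (inv_mem ha')) (inv_mem hb')
    have hxk : (⟨D.x, D.xC⟩ : ↥D.C) ∈ ρ.ker := hle (by
      obtain ⟨w, hw, ew⟩ := (map_subtype_commutator D.C).symm ▸ D.perfect D.xC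
      rwa [show w = ⟨D.x, D.xC⟩ from Subtype.ext ew] at hw)
    obtain ⟨v, hv⟩ := exists_ne (0 : U)
    exact hv (hfpf v (by rw [MonoidHom.mem_ker.mp hxk]; rfl))
  obtain ⟨m, hm⟩ := exists_prime_orderOf_dvd_card' (G := ↥Cfsg.Spor.M22) 11 (by
    rw [Cfsg.Lib.Golay.card_M22]; norm_num)
  obtain ⟨g, rfl⟩ := D.φ_surj m
  have hm11 : D.φ g ^ 11 = 1 := hm ▸ pow_orderOf_eq_one _
  refine eleven_bound two (ρ (g ^ 12)) ?_ fun h => ?_
  · rw [← map_pow, ← pow_mul, show 12 * 11 = 11 * 12 by norm_num, pow_mul]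
    obtain ⟨i, j, hij⟩ := (D.φ_ker (g ^ 11)).mp (by rw [map_pow, hm11])
    rw [show (g ^ 11) ^ 12 = 1 from Subtype.ext (by
      rw [SubgroupClass.coe_pow, hij, (D.xz.pow_pow i j).mul_pow, ← pow_mul, ← pow_mul,
        show i * 12 = 3 * (4 * i) by ring, show j * 12 = 2 * (6 * j) by ring, pow_mul D.x, pow_mul D.z, pow_two D.z, D.zz, D.x3,
        one_pow, one_pow, mul_one]; rfl), map_one]
  · have h1 : D.φ (g ^ 12) ∈ ρ.ker.map D.φ := ⟨_, h, rfl⟩
    rw [himg, mem_bot, map_pow, pow_succ, hm11, one_mul] at h1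
    rw [h1, orderOf_one] at hm
    norm_num at hm

variable {G : Type u} [Group G] [Finite G]

/-- Generation by the fixed points of a group of order nine. -/
theorem fixed_gen {F K : Subgroup G} (hP : IsPGroup 2 ↥F) {s t : G} (hs : s ^ 3 = 1) (hs1 : s ≠ 1) (ht : t ^ 3 = 1)
    (hst : Commute s t) (hts : t ∉ zpowers s) (hsF : s ∈ normalizer (F : Set G)) (htF : t ∈ normalizer (F : Set G))
    (h0 : ∀ e ∈ F, Commute e s → e ∈ K) (h : ∀ i : ℕ, ∀ e ∈ F, Commute e (t * s ^ i) → e ∈ K) : F ≤ K := by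
  classical
  let A : Subgroup G :=
    { carrier := {a | ∃ i j : ℕ, a = s ^ i * t ^ j}
      one_mem' := ⟨0, 0, by simp⟩
      mul_mem' := by
        rintro _ _ ⟨i, j, rfl⟩ ⟨i', j', rfl⟩
        refine ⟨i + i', j + j', ?_⟩
        rw [pow_add, pow_add, mul_assoc, ← mul_assoc (t ^ j), (hst.symm.pow_pow j i').eq]
        group
      inv_mem' := by
        rintro _ ⟨i, j, rfl⟩
        refine ⟨2 * i, 2 * j, ?_⟩
        refine inv_eq_of_mul_eq_one_right ?_
        rw [mul_assoc, ← mul_assoc (t ^ j), (hst.symm.pow_pow j (2 * i)).eq, ← mul_assoc, ← mul_assoc, ← pow_add,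
          mul_assoc, ← pow_add, show i + 2 * i = 3 * i by ring, show j + 2 * j = 3 * j by ring, pow_mul, pow_mul, hs,
          ht, one_pow, one_pow, mul_one] }
  have hsA : s ∈ A := ⟨1, 0, by simp⟩
  have htA : t ∈ A := ⟨0, 1, by simp⟩
  haveI : IsMulCommutative ↥A := ⟨⟨fun a b => Subtype.ext (by
    obtain ⟨i, j, e⟩ := a.2
    obtain ⟨i', j', e'⟩ := b.2
    show (a : G) * b = b * a
    rw [e, e']
    exact (((Commute.refl s).pow_pow i i').mul_right (hst.pow_pow i j')).mul_left
      ((hst.symm.pow_pow j i').mul_right ((Commute.refl t).pow_pow j j')))⟩⟩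
  have hA3 : ∀ a ∈ A, a ^ 3 = 1 := by
    rintro _ ⟨i, j, rfl⟩
    rw [(hst.pow_pow i j).mul_pow, ← pow_mul, ← pow_mul, mul_comm i, mul_comm j, pow_mul, pow_mul, hs, ht, one_pow,
      one_pow, mul_one]
  haveI : Fact (Nat.Prime 3) := ⟨Nat.prime_three⟩
  have hA : ¬ IsCyclic ↥A := by
    intro hcyc
    obtain ⟨g, hg⟩ := hcyc.exists_generator
    have hcard : Nat.card ↥A ≤ 3 := by
      rw [← Nat.card_eq_of_bijective _ ⟨Subtype.val_injective, fun a => ⟨⟨a, hg a⟩, rfl⟩⟩, Nat.card_zpowers]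
      exact Nat.le_of_dvd (by norm_num) (orderOf_dvd_of_pow_eq_one (Subtype.ext (by
        rw [SubgroupClass.coe_pow]; exact hA3 g g.2)))
    have hle : zpowers s = A := eq_of_le_of_card_ge (zpowers_le.mpr hsA) (by
      rwa [Nat.card_zpowers, orderOf_eq_prime hs hs1])
    exact hts (hle ▸ htA)
  have hAF : A ≤ normalizer (F : Set G) := by
    rintro _ ⟨i, j, rfl⟩
    exact mul_mem (pow_mem hsF i) (pow_mem htF j)
  have hcop : (Nat.card ↥A).Coprime (Nat.card ↥F) := by
    haveI : Fact (Nat.Prime 2) := ⟨Nat.prime_two⟩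
    obtain ⟨n, hn⟩ := hP.exists_card_eq
    obtain ⟨m, hm⟩ := (show IsPGroup 3 ↥A from fun a => ⟨1, Subtype.ext (by
      rw [SubgroupClass.coe_pow, pow_one]; exact hA3 a a.2)⟩).exists_card_eq
    rw [hm, hn]
    exact Nat.Coprime.pow m n (by norm_num)
  rw [← Cfsg.Lib.Coprime.centralizerJoin_eq hA hAF hcop]
  refine iSup₂_le fun a ⟨ha, ha1⟩ e he => ?_
  obtain ⟨heF, hec⟩ := mem_inf.mp he
  have hea : Commute e a := mem_centralizer_singleton_iff.mp hec
  obtain ⟨i, j, rfl⟩ := ha
  have hmod : ∀ (w : G), w ^ 3 = 1 → ∀ n, w ^ n = w ^ (n % 3) := fun w hw n => by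
    conv_lhs => rw [← Nat.div_add_mod n 3, pow_add, pow_mul, hw, one_pow, one_mul]
  rw [hmod s hs i, hmod t ht j] at hea ha1
  rcases (show j % 3 = 0 ∨ j % 3 = 1 ∨ j % 3 = 2 by omega) with r | r | r <;> rw [r] at hea ha1
  · rw [pow_zero, mul_one] at hea ha1
    rcases (show i % 3 = 0 ∨ i % 3 = 1 ∨ i % 3 = 2 by omega) with q | q | q <;> rw [q] at hea ha1
    · exact absurd (pow_zero s) ha1
    · exact h0 e heF (by rwa [pow_one] at hea)
    · refine h0 e heF ?_
      have := hea.pow_right 2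
      rwa [← pow_mul, show 2 * 2 = 3 + 1 by norm_num, pow_succ, hs, one_mul] at this
  · rw [pow_one, (hst.pow_left _).eq] at hea
    exact h _ e heF hea
  · refine h (2 * (i % 3)) e heF ?_
    have := hea.pow_right 2
    rwa [(hst.pow_pow _ _).mul_pow, ← pow_mul, ← pow_mul, show 2 * 2 = 3 + 1 by norm_num, pow_succ t, ht, one_mul,
      (hst.pow_left _).eq, mul_comm (i % 3)] at this

/-- A section of a normalised subgroup as a space. -/
structure Quot (H E F : Subgroup G) where
  V : Type u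
  inst : AddCommGroup V
  π : G → V
  mul : ∀ a ∈ E, ∀ b ∈ E, π (a * b) = π a + π b
  surj : ∀ v, ∃ a ∈ E, π a = v
  ker : ∀ a ∈ E, π a = 0 ↔ a ∈ F
  two : ∀ v : V, v + v = 0
  fin : Finite V
  card : Nat.card V * Nat.card ↥F = Nat.card ↥E
  R : ↥H →* AddMonoid.End V
  conj : ∀ (h : ↥H), ∀ a ∈ E, R h (π a) = π ((h : G) * a * (h : G)⁻¹)

attribute [instance] Quot.inst Quot.fin

theorem exists_quot {H E F : Subgroup G} (hFE : F ≤ E) (hE : ∀ h ∈ H, ∀ a ∈ E, h * a * h⁻¹ ∈ E)
    (hF : ∀ h ∈ H, ∀ a ∈ F, h * a * h⁻¹ ∈ F) (hFn : ∀ h ∈ E, ∀ a ∈ F, h * a * h⁻¹ ∈ F)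
    (hsq : ∀ a ∈ E, a * a ∈ F) (hcomm : ∀ a ∈ E, ∀ b ∈ E, a * b * a⁻¹ * b⁻¹ ∈ F) : Nonempty (Quot H E F) := by
  classical
  let N : Subgroup ↥E := F.subgroupOf E
  haveI : N.Normal := ⟨fun a ha h => mem_subgroupOf.mpr (hFn h h.2 a (mem_subgroupOf.mp ha))⟩
  letI : CommGroup (↥E ⧸ N) :=
    { (inferInstance : Group (↥E ⧸ N)) with
      mul_comm := fun p q => by
        induction p using QuotientGroup.induction_on with | H a => ?_
        induction q using QuotientGroup.induction_on with | H b => ?_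
        rw [← QuotientGroup.mk_mul, ← QuotientGroup.mk_mul, QuotientGroup.eq]
        refine mem_subgroupOf.mpr ?_
        have h := hcomm _ (inv_mem b.2) _ (inv_mem a.2)
        show ((a : G) * b)⁻¹ * ((b : G) * a) ∈ F
        rwa [show ((a : G) * b)⁻¹ * ((b : G) * a) = (b : G)⁻¹ * (a : G)⁻¹ * ((b : G)⁻¹)⁻¹ * ((a : G)⁻¹)⁻¹ by group] }
  let p : G → Additive (↥E ⧸ N) := fun a =>
    if h : a ∈ E then Additive.ofMul ((⟨a, h⟩ : ↥E) : ↥E ⧸ N) else 0
  have hp : ∀ (a : G) (h : a ∈ E), p a = Additive.ofMul ((⟨a, h⟩ : ↥E) : ↥E ⧸ N) := fun a h => dif_pos h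
  have hsurj : ∀ v, ∃ a ∈ E, p a = v := fun v => by
    obtain ⟨a, ha⟩ := QuotientGroup.mk'_surjective N v.toMul
    exact ⟨a, a.2, by rw [hp _ a.2]; exact congrArg Additive.ofMul ha⟩
  have hmul : ∀ a ∈ E, ∀ b ∈ E, p (a * b) = p a + p b := fun a ha b hb => by
    rw [hp _ (mul_mem ha hb), hp a ha, hp b hb]; rfl
  have hker : ∀ a ∈ E, p a = 0 ↔ a ∈ F := fun a ha => by
    rw [hp a ha]
    exact (QuotientGroup.eq_one_iff _).trans mem_subgroupOf
  have heq : ∀ a ∈ E, ∀ b ∈ E, p a = p b → a⁻¹ * b ∈ F := fun a ha b hb e => by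
    rw [hp a ha, hp b hb] at e
    exact mem_subgroupOf.mp (QuotientGroup.eq.mp (Additive.ofMul.injective e))
  have hcong : ∀ h ∈ H, ∀ a ∈ E, ∀ b ∈ E, p a = p b → p (h * a * h⁻¹) = p (h * b * h⁻¹) := fun h hh a ha b hb e => by
    have h1 := (hker _ (mul_mem (inv_mem (hE h hh a ha)) (hE h hh b hb))).mpr (by
      rw [show (h * a * h⁻¹)⁻¹ * (h * b * h⁻¹) = h * (a⁻¹ * b) * h⁻¹ by group]
      exact hF h hh _ (heq a ha b hb e))
    have h2 := hmul _ (hE h hh a ha) _ (mul_mem (inv_mem (hE h hh a ha)) (hE h hh b hb))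
    rw [mul_inv_cancel_left, h1, add_zero] at h2
    exact h2.symm
  choose s hsE hs using hsurj
  let R1 : ↥H → AddMonoid.End (Additive (↥E ⧸ N)) := fun h =>
    AddMonoidHom.mk' (fun v => p ((h : G) * s v * (h : G)⁻¹)) fun v w => by
      rw [hcong h h.2 _ (hsE _) _ (mul_mem (hsE v) (hsE w)) (by rw [hs, hmul _ (hsE v) _ (hsE w), hs, hs]),
        show (h : G) * (s v * s w) * (h : G)⁻¹ = (h : G) * s v * (h : G)⁻¹ * ((h : G) * s w * (h : G)⁻¹) by group,
        hmul _ (hE h h.2 _ (hsE v)) _ (hE h h.2 _ (hsE w))]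
  have hR1 : ∀ (h : ↥H), ∀ a ∈ E, R1 h (p a) = p ((h : G) * a * (h : G)⁻¹) := fun h a ha =>
    hcong h h.2 _ (hsE _) a ha (hs _)
  refine ⟨{
    V := Additive (↥E ⧸ N), inst := inferInstance, π := p, mul := hmul, surj := fun v => ⟨s v, hsE v, hs v⟩,
    ker := hker, fin := inferInstanceAs (Finite (↥E ⧸ N))
    two := fun v => by
      obtain ⟨a, ha, rfl⟩ : ∃ a ∈ E, p a = v := ⟨s v, hsE v, hs v⟩
      rw [← hmul a ha a ha, hker _ (mul_mem ha ha)]
      exact hsq a ha
    card := by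
      rw [← Nat.card_congr (subgroupOfEquivOfLe hFE).toEquiv]
      exact (card_eq_card_quotient_mul_card_subgroup N).symm
    R :=
      { toFun := R1
        map_one' := DFunLike.ext _ _ fun v => by
          rw [end_one_apply, ← hs v, hR1 _ _ (hsE v)]
          simp
        map_mul' := fun g h => DFunLike.ext _ _ fun v => by
          rw [end_mul_apply, ← hs v, hR1 _ _ (hsE v), hR1 h _ (hsE v), hR1 g _ (hE h h.2 _ (hsE v))]
          simp [mul_assoc] }
    conj := hR1 }⟩

namespace Quot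

variable {H E F : Subgroup G} (Q : Quot H E F)

/-- A fixed vector of an element of order three is the image of a fixed element. -/
theorem fix_lift (hE2 : IsPGroup 2 ↥E) (hFE : F ≤ E) (hF : ∀ h ∈ H, ∀ a ∈ F, h * a * h⁻¹ ∈ F)
    (hFn : ∀ h ∈ E, ∀ a ∈ F, h * a * h⁻¹ ∈ F) (hE : ∀ h ∈ H, ∀ a ∈ E, h * a * h⁻¹ ∈ E)
    (a : ↥H) (ha : a ^ 3 = 1) {v : Q.V} (hv : Q.R a v = v) :
    ∃ e ∈ E, Commute e (a : G) ∧ Q.π e = v := by
  haveI : Fact (Nat.Prime 2) := ⟨Nat.prime_two⟩
  haveI : Fact (Nat.Prime 3) := ⟨Nat.prime_three⟩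
  obtain ⟨e, he, rfl⟩ := Q.surj v
  have hn : ∀ (K : Subgroup G) (g : G), (∀ w ∈ K, g * w * g⁻¹ ∈ K) → g ∈ normalizer (K : Set G) := fun K g h =>
    Subgroup.mem_normalizer_fintype fun w hw => h w hw
  have hAN : zpowers (a : G) ≤ normalizer (F : Set G) := zpowers_le.mpr (hn F _ (hF a a.2))
  have hFP : IsPGroup 2 ↥F := hE2.to_le hFE
  have ha3 : (a : G) ^ 3 = 1 := by rw [← SubgroupClass.coe_pow, ha]; rfl
  have hsol : Group.IsSolvable ↥F := by
    haveI := hFP.isNilpotent
    infer_instance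
  have hcop : (Nat.card ↥(zpowers (a : G))).Coprime (Nat.card ↥F) := by
    obtain ⟨n, hn'⟩ := hFP.exists_card_eq
    rw [hn', Nat.card_zpowers]
    refine Nat.Coprime.pow_right n ?_
    exact Nat.Coprime.coprime_dvd_left (orderOf_dvd_of_pow_eq_one ha3) (by norm_num)
  have hfix : ∀ b ∈ zpowers (a : G), b * e * b⁻¹ * e⁻¹ ∈ F := by
    intro b hb
    obtain ⟨k, rfl⟩ := (isOfFinOrder_of_finite (a : G)).mem_powers_iff_mem_zpowers.mpr hb
    have hk : Q.π ((a : G) ^ k * e * ((a : G) ^ k)⁻¹) = Q.π e := by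
      have hE' : ∀ m : ℕ, (Q.R a ^ m) (Q.π e) = Q.π e := fun m => by
        induction m with
        | zero => rfl
        | succ m ih => rw [pow_succ', end_mul_apply, ih, hv]
      have := hE' k
      rw [← map_pow, Q.conj _ e he, SubgroupClass.coe_pow] at this
      exact this
    have hmem : (a : G) ^ k * e * ((a : G) ^ k)⁻¹ ∈ E := by
      have := hE _ (a ^ k).2 e he
      rwa [SubgroupClass.coe_pow] at this
    refine (Q.ker _ (mul_mem hmem (inv_mem he))).mp ?_
    rw [Q.mul _ hmem _ (inv_mem he), hk, ← Q.mul _ he _ (inv_mem he), mul_inv_cancel, Q.ker _ (one_mem E)]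
    exact one_mem F
  obtain ⟨n, hnF, hc⟩ := Cfsg.Lib.Coprime.exists_fixed_of_commutator_mem hAN hcop (Or.inr hsol)
    (hn F e (hFn e he)) hfix
  refine ⟨e * n, mul_mem he (hFE hnF), (mem_centralizer_iff.mp hc _ (mem_zpowers _)).symm, ?_⟩
  rw [Q.mul _ he _ (hFE hnF), (Q.ker n (hFE hnF)).mpr hnF, add_zero]

end Quot

end Cfsg.Lib.JankoSixCover
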