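import Cfsg.Agent.JankoSixCover.Action
import Cfsg.Agent.LargeExtra.Coprime
import Cfsg.Prelude.Def_JankoFourType

/-!
The largest normal 2-subgroup of the centraliser of the involution is extraspecial of order 2^13.
-/

set_option autoImplicit false
set_option maxHeartbeats 1000000
set_option linter.style.haveILetI false
set_option linter.unusedSectionVars false

namespace Cfsg.Lib.JankoSixCover

open Subgroup
open Cfsg.Lib.JankoFour.Reduce (fixCard mem_fix card_modEq_fix)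

universe u

variable {G : Type u} [Group G] [Finite G]

namespace Six

variable (D : Six G)

/-- The centraliser of the involution. -/
abbrev H : Subgroup G := centralizer ({D.z} : Set G)

/-- Its largest normal 2-subgroup. -/
abbrev E : Subgroup G := Cfsg.twoCoreOfCentralizer D.z

theorem CH : D.C ≤ D.H := fun g hg => mem_centralizer_singleton_iff.mpr (D.zc g hg).eq

theorem memH {g : G} : g ∈ D.H ↔ Commute g D.z := mem_centralizer_singleton_iff

theorem E_le : D.E ≤ D.H := map_subtype_le _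

theorem E_two : IsPGroup 2 ↥D.E := Cfsg.Lib.LargeExtra.core_isP D.H

theorem E_conj {h : G} (hh : h ∈ D.H) {e : G} (he : e ∈ D.E) : h * e * h⁻¹ ∈ D.E :=
  (mem_normalizer_iff.mp (Cfsg.Lib.LargeExtra.core_normalized D.H hh) e).mp he

theorem z_mem : D.z ∈ D.E := by
  haveI : Fact (Nat.Prime 2) := ⟨Nat.prime_two⟩
  let z' : ↥D.H := ⟨D.z, D.memH.mpr (Commute.refl _)⟩
  haveI : (zpowers z').Normal := ⟨fun w hw g => by
    obtain ⟨k, rfl⟩ := mem_zpowers_iff.mp hw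
    have hc : Commute g z' := Subtype.ext (D.memH.mp g.2).eq
    rw [(hc.zpow_right k).eq, mul_inv_cancel_right]
    exact zpow_mem (mem_zpowers z') k⟩
  exact ⟨z', Cfsg.Lib.Components.le_pCore (IsPGroup.of_card (n := 1) (by
    rw [Nat.card_zpowers, pow_one, Subgroup.orderOf_mk, D.oz])) (mem_zpowers z'), rfl⟩

theorem E_inf_C {e : G} (he : e ∈ D.E) (hc : e ∈ D.C) : e ∈ zpowers D.z :=
  D.normal_two (R := D.E ⊓ D.C) inf_le_right (D.E_two.to_le inf_le_left)
    (fun g hg r hr => ⟨D.E_conj (D.CH hg) hr.1, D.C.mul_mem (D.C.mul_mem hg hr.2) (D.C.inv_mem hg)⟩) ⟨he, hc⟩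

theorem cent_E (h2 : Cfsg.IsCharacteristicTwoType G) {h : G} (hh : h ∈ D.H) (hc : ∀ e ∈ D.E, Commute e h) :
    h ∈ D.E := by
  haveI : Fact (Nat.Prime 2) := ⟨Nat.prime_two⟩
  have hN : normalizer (zpowers D.z : Set G) = D.H := by
    ext g
    rw [D.memH]
    constructor
    · intro hg
      rcases (Cfsg.Lib.LargeExtra.mem_zpowers_two D.zz).mp ((mem_normalizer_iff.mp hg D.z).mp (mem_zpowers _)) with e | e
      · exact absurd (conj_eq_one_iff.mp e) D.z_ne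
      · exact mul_inv_eq_iff_eq_mul.mp e
    · intro hg
      refine Subgroup.mem_normalizer_fintype fun w hw => ?_
      obtain ⟨k, rfl⟩ := mem_zpowers_iff.mp hw
      rw [SetLike.mem_coe, (hg.zpow_right k).eq, mul_inv_cancel_right]
      exact zpow_mem (mem_zpowers _) k
  have h0 := h2.2 (zpowers D.z) (IsPGroup.of_card (n := 1) (by rw [Nat.card_zpowers, pow_one, D.oz]))
    (fun e => D.z_ne (zpowers_eq_bot.mp e))
  have hchar : Cfsg.IsOfCharacteristicTwo ↥D.H := by rw [← hN]; exact h0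
  exact ⟨⟨h, hh⟩, hchar (mem_centralizer_iff.mpr fun e he =>
    Subtype.ext (hc e ⟨e, he, rfl⟩).eq), rfl⟩

/-- The fixed points of the fused element. -/
abbrev Ey : Subgroup G := D.E ⊓ centralizer ({D.y} : Set G)

theorem mem_Ey {e : G} : e ∈ D.Ey ↔ e ∈ D.E ∧ Commute e D.y := by
  rw [mem_inf, mem_centralizer_singleton_iff]; rfl

theorem pull_mem {e : G} (he : Commute e D.y) : D.c⁻¹ * e * D.c ∈ D.C := by
  refine D.memC.mpr (mul_inv_eq_iff_eq_mul.mp ?_)
  calc D.c⁻¹ * e * D.c * D.x * (D.c⁻¹ * e * D.c)⁻¹ = D.c⁻¹ * (e * (D.c * D.x * D.c⁻¹) * e⁻¹) * D.c := by group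
    _ = D.c⁻¹ * D.y * D.c := by rw [D.hy, he.eq, mul_inv_cancel_right]
    _ = D.x := by rw [← D.hy]; group

theorem z_conj_ne (h2 : Cfsg.IsCharacteristicTwoType G) : D.c * D.z * D.c⁻¹ ≠ D.z := by
  intro hcz
  have hcH : D.c ∈ D.H := D.memH.mpr (mul_inv_eq_iff_eq_mul.mp hcz)
  have hEy : ∀ e ∈ D.E, Commute e D.y → e ∈ zpowers D.z := fun e he hey => by
    have hr : D.c⁻¹ * e * D.c ∈ D.E := by simpa using D.E_conj (inv_mem hcH) he
    obtain ⟨k, hk⟩ := mem_zpowers_iff.mp (D.E_inf_C hr (D.pull_mem hey))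
    refine mem_zpowers_iff.mpr ⟨k, ?_⟩
    calc D.z ^ k = D.c * D.z ^ k * D.c⁻¹ := by rw [(((D.memH.mp hcH)).zpow_right k).eq, mul_inv_cancel_right]
      _ = e := by rw [hk]; group
  have hnE : ∀ g ∈ D.H, g ∈ normalizer (D.E : Set G) := fun g hg =>
    Cfsg.Lib.LargeExtra.core_normalized D.H hg
  have hle : D.E ≤ zpowers D.z := fixed_gen D.E_two D.x3 D.x_ne D.y3 D.yx.symm D.y_not (hnE _ (D.CH D.xC))
    (hnE _ (D.CH D.yC)) (fun e he hex => D.E_inf_C he (D.memC.mpr hex)) fun i e he hei => by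
      obtain ⟨m, hm, hmy⟩ := D.move i
      have h := hEy _ (D.E_conj (D.CH hm) he) (by rw [← hmy]; exact (Commute.conj_iff m).mpr hei)
      obtain ⟨k, hk⟩ := mem_zpowers_iff.mp h
      refine mem_zpowers_iff.mpr ⟨k, ?_⟩
      calc D.z ^ k = m⁻¹ * D.z ^ k * m := by rw [(((D.zc m hm)).inv_left.zpow_right k).eq, inv_mul_cancel_right]
        _ = e := by rw [hk]; group
  have hx : D.x ∈ D.E := D.cent_E h2 (D.CH D.xC) fun e he => by
    obtain ⟨k, rfl⟩ := mem_zpowers_iff.mp (hle he)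
    exact ((D.xz.zpow_right k)).symm
  rcases (Cfsg.Lib.LargeExtra.mem_zpowers_two D.zz).mp (hle hx) with e | e
  · exact D.x_ne e
  · have := D.ox
    rw [e, D.oz] at this
    norm_num at this

theorem zy_mem_C : D.c * D.z * D.c⁻¹ ∈ D.C := by
  have h : Commute (D.c⁻¹ * D.x * D.c) D.z := D.zc _ (D.pull_mem D.yx.symm)
  refine D.memC.mpr ?_
  have := (Commute.conj_iff D.c).mpr h
  rw [show D.c * (D.c⁻¹ * D.x * D.c) * D.c⁻¹ = D.x by group] at this
  exact this.symm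

theorem pull_inj (h2 : Cfsg.IsCharacteristicTwoType G) {e : G} (he : e ∈ D.E) (hey : Commute e D.y)
    (h1 : D.φ ⟨D.c⁻¹ * e * D.c, D.pull_mem hey⟩ = 1) : e = 1 := by
  obtain ⟨i, j, hij⟩ := D.ker_form (D.pull_mem hey) h1
  obtain ⟨k, hk⟩ := D.E_two ⟨e, he⟩
  have hk' : e ^ 2 ^ k = 1 := congrArg Subtype.val hk
  have hxi : D.x ^ i = 1 := by
    have hpow : (D.c⁻¹ * e * D.c) ^ (2 ^ k * 2) = 1 := by
      have h := conj_pow (i := 2 ^ k * 2) (a := D.c⁻¹) (b := e)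
      rw [inv_inv] at h
      rw [h, pow_mul, hk', one_pow]
      group
    rw [hij, (D.xz.pow_pow i j).mul_pow, ← pow_mul D.z, show j * (2 ^ k * 2) = 2 * (j * 2 ^ k) by ring,
      pow_mul D.z, pow_two D.z, D.zz, one_pow, mul_one] at hpow
    rw [← orderOf_eq_one_iff]
    refine Nat.eq_one_of_dvd_coprimes (Nat.Coprime.pow_left (k + 1) (by norm_num : Nat.Coprime 2 3))
      (orderOf_dvd_of_pow_eq_one (by rwa [pow_succ])) (orderOf_dvd_of_pow_eq_one ?_)
    rw [← pow_mul, mul_comm, pow_mul, D.x3, one_pow]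
  rw [hxi, one_mul] at hij
  rcases D.z_pow j with r | r
  · rw [r] at hij
    calc e = D.c * (D.c⁻¹ * e * D.c) * D.c⁻¹ := by group
      _ = 1 := by rw [hij]; group
  · exfalso
    have e1 : e = D.c * D.z * D.c⁻¹ := by rw [← r, ← hij]; group
    rcases (Cfsg.Lib.LargeExtra.mem_zpowers_two D.zz).mp (D.E_inf_C (e1 ▸ he) D.zy_mem_C) with q | q
    · exact D.z_ne (conj_eq_one_iff.mp q)
    · exact D.z_conj_ne h2 q

/-- The map of the fixed points into the Mathieu group. -/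
noncomputable def pull : ↥D.Ey →* ↥Cfsg.Spor.M22 :=
  D.φ.comp (MonoidHom.mk' (fun e => (⟨D.c⁻¹ * e * D.c, D.pull_mem (D.mem_Ey.mp e.2).2⟩ : ↥D.C)) fun a b =>
    Subtype.ext (by show D.c⁻¹ * ((a : G) * b) * D.c = D.c⁻¹ * a * D.c * (D.c⁻¹ * b * D.c); group))

theorem pull_injective (h2 : Cfsg.IsCharacteristicTwoType G) : Function.Injective D.pull :=
  (injective_iff_map_eq_one D.pull).mpr fun e he =>
    Subtype.ext (D.pull_inj h2 (D.mem_Ey.mp e.2).1 (D.mem_Ey.mp e.2).2 he)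

theorem zE_y : D.z ∈ D.Ey := D.mem_Ey.mpr ⟨D.z_mem, D.yz.symm⟩

theorem card_Ey_cases (h2 : Cfsg.IsCharacteristicTwoType G) :
    Nat.card ↥D.Ey ≤ 32 ∧ ∃ n, Nat.card ↥D.Ey = 2 ^ n := by
  classical
  haveI : Fact (Nat.Prime 2) := ⟨Nat.prime_two⟩
  haveI : Fact (Nat.Prime 3) := ⟨Nat.prime_three⟩
  obtain ⟨n, hn⟩ := (D.E_two.to_le (inf_le_left : D.Ey ≤ D.E)).exists_card_eq
  have hnx : D.x ∈ normalizer (D.Ey : Set G) := by
    refine Subgroup.mem_normalizer_fintype fun e he => ?_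
    obtain ⟨h1, h2'⟩ := D.mem_Ey.mp he
    refine D.mem_Ey.mpr ⟨D.E_conj (D.CH D.xC) h1, ?_⟩
    rw [show D.y = D.x * D.y * D.x⁻¹ by rw [D.yx.symm.eq, mul_inv_cancel_right]]
    exact (Commute.conj_iff D.x).mpr h2'
  have hfix : D.Ey ⊓ centralizer ({D.x} : Set G) = zpowers D.z := by
    refine le_antisymm (fun e he => D.E_inf_C (D.mem_Ey.mp (mem_inf.mp he).1).1 (mem_inf.mp he).2) ?_
    exact zpowers_le.mpr ⟨D.zE_y, D.zC⟩
  have hmod := card_modEq_fix hnx (p := 3) (n := 1) (by rw [pow_one]; exact D.x3)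
  rw [fixCard, hfix, Nat.card_zpowers, D.oz, hn] at hmod
  have hdvd : 2 ^ n ∣ 443520 := by
    rw [← hn, ← Cfsg.Lib.Golay.card_M22]
    exact card_dvd_of_injective D.pull (D.pull_injective h2)
  have hn7 : n ≤ 7 := by
    by_contra hlt
    have := dvd_trans (pow_dvd_pow 2 (show 8 ≤ n by omega)) hdvd
    norm_num at this
  have h128 : n ≠ 7 := by
    rintro rfl
    have hR : Nat.card ↥D.pull.range = 128 := by
      rw [← Nat.card_congr (MonoidHom.ofInjective (D.pull_injective h2)).toEquiv, hn]; norm_num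
    set x' : ↥D.C := ⟨D.c⁻¹ * D.x * D.c, D.pull_mem D.yx.symm⟩ with hx'
    have hx3 : D.φ x' ^ 3 = 1 := by
      rw [← map_pow, show x' ^ 3 = 1 from Subtype.ext (by
        rw [SubgroupClass.coe_pow, hx']
        show (D.c⁻¹ * D.x * D.c) ^ 3 = 1
        have h := conj_pow (i := 3) (a := D.c⁻¹) (b := D.x)
        rw [inv_inv] at h
        rw [h, D.x3, mul_one, inv_mul_cancel]), map_one]
    have h1 := two_self qmEquiv hR hx3 (Subgroup.mem_normalizer_fintype (by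
      rintro _ ⟨e, rfl⟩
      obtain ⟨he1, he2⟩ := D.mem_Ey.mp e.2
      refine ⟨⟨D.x * e * D.x⁻¹, (mem_normalizer_iff.mp hnx _).mp e.2⟩, ?_⟩
      show D.φ _ = D.φ x' * D.φ _ * (D.φ x')⁻¹
      rw [← map_mul, ← map_inv, ← map_mul]
      refine congrArg D.φ (Subtype.ext ?_)
      show D.c⁻¹ * (D.x * (e : G) * D.x⁻¹) * D.c = D.c⁻¹ * D.x * D.c * (D.c⁻¹ * e * D.c) * (D.c⁻¹ * D.x * D.c)⁻¹
      group))
    have hmem := D.ker_odd x'.2 h1 (n := 3) ⟨1, rfl⟩ (by
      have h := conj_pow (i := 3) (a := D.c⁻¹) (b := D.x)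
      rw [inv_inv] at h
      rw [hx', h, D.x3, mul_one, inv_mul_cancel])
    obtain ⟨k, hk⟩ := mem_zpowers_iff.mp hmem
    have hxk : D.x = D.y ^ k := by
      rw [← D.hy, conj_zpow, hk, hx']; group
    rcases Cfsg.Lib.JankoFour.pow_three_cases (show orderOf D.y = 3 from
      orderOf_eq_prime D.y3 fun e => D.y_not (e ▸ one_mem _))
      (hxk.symm ▸ zpow_mem (mem_zpowers D.y) k : D.x ∈ zpowers D.y) with r | r | r
    · exact D.x_ne r
    · exact D.y_not (r.symm ▸ mem_zpowers D.x)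
    · exact D.y_not (by rw [← inv_inv D.y, ← r]; exact inv_mem (mem_zpowers D.x))
  refine ⟨?_, n, hn⟩
  rw [hn, show (32 : ℕ) = 2 ^ 5 by norm_num]
  refine Nat.pow_le_pow_right two_pos ?_
  by_contra hlt
  rw [show n = 6 by omega] at hmod
  exact absurd hmod (by decide)

/-- Extraspecial of order 2^13, with 32 fixed points of the fused element. -/
theorem core_facts (h2 : Cfsg.IsCharacteristicTwoType G) :
    Cfsg.IsExtraspecial 2 ↥D.E ∧ Nat.card ↥D.E = 2 ^ 13 ∧ Nat.card ↥D.Ey = 32 ∧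
      (∀ a ∈ D.E, a * a = 1 ∨ a * a = D.z) ∧ (∀ a ∈ D.E, ∀ b ∈ D.E, a * b * a⁻¹ * b⁻¹ ∈ zpowers D.z) ∧
      (∀ c ∈ D.E, (∀ a ∈ D.E, Commute a c) → c = 1 ∨ c = D.z) := by
  classical
  haveI : Fact (Nat.Prime 2) := ⟨Nat.prime_two⟩
  set F : Subgroup G := closure (insert D.z {w | ∃ a ∈ D.E, w = a * a}) with hF
  have hFE : F ≤ D.E := (closure_le _).mpr (Set.insert_subset D.z_mem
    (by rintro _ ⟨a, ha, rfl⟩; exact mul_mem ha ha))
  have hzF : D.z ∈ F := subset_closure (Set.mem_insert _ _)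
  have hsq : ∀ a ∈ D.E, a * a ∈ F := fun a ha => subset_closure (Set.mem_insert_of_mem _ ⟨a, ha, rfl⟩)
  have hFH : ∀ h ∈ D.H, ∀ a ∈ F, h * a * h⁻¹ ∈ F := fun h hh => by
    have : F ≤ F.comap (MulAut.conj h).toMonoidHom := (closure_le _).mpr (Set.insert_subset (by
        show h * D.z * h⁻¹ ∈ F
        rw [(D.memH.mp hh).eq, mul_inv_cancel_right]; exact hzF)
      (by
        rintro _ ⟨a, ha, rfl⟩
        show h * (a * a) * h⁻¹ ∈ F
        rw [show h * (a * a) * h⁻¹ = h * a * h⁻¹ * (h * a * h⁻¹) by group]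
        exact hsq _ (D.E_conj hh ha)))
    exact fun a ha => this ha
  have hEH : ∀ h ∈ D.H, ∀ a ∈ D.E, h * a * h⁻¹ ∈ D.E := fun h hh a ha => D.E_conj hh ha
  have hFn : ∀ h ∈ D.E, ∀ a ∈ F, h * a * h⁻¹ ∈ F := fun h hh => hFH h (D.E_le hh)
  have hcomm : ∀ a ∈ D.E, ∀ b ∈ D.E, a * b * a⁻¹ * b⁻¹ ∈ F := fun a ha b hb => by
    rw [show a * b * a⁻¹ * b⁻¹ = a * a * (a⁻¹ * b * (a⁻¹ * b)) * (b⁻¹ * b⁻¹) by group]
    exact mul_mem (mul_mem (hsq a ha) (hsq _ (mul_mem (inv_mem ha) hb))) (hsq _ (inv_mem hb))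
  obtain ⟨Q⟩ := exists_quot hFE hEH hFH hFn hsq hcomm
  have hzK : zpowers D.z ≤ F := zpowers_le.mpr hzF
  set xH : ↥D.H := ⟨D.x, D.CH D.xC⟩ with hxH
  set yH : ↥D.H := ⟨D.y, D.CH D.yC⟩ with hyH
  have hx3 : xH ^ 3 = 1 := Subtype.ext (by rw [SubgroupClass.coe_pow]; exact D.x3)
  have hy3 : yH ^ 3 = 1 := Subtype.ext (by rw [SubgroupClass.coe_pow]; exact D.y3)
  have hfpf : ∀ v, Q.R xH v = v → v = 0 := fun v hv => by
    obtain ⟨e, he, hec, rfl⟩ := Q.fix_lift D.E_two hFE hFH hFn hEH xH hx3 hv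
    exact (Q.ker e he).mpr (hzK (D.E_inf_C he (D.memC.mpr hec)))
  -- the section is not trivial
  haveI : Nontrivial Q.V := by
    by_contra hV
    rw [not_nontrivial_iff_subsingleton] at hV
    have hall : ∀ e ∈ D.E, e ∈ F := fun e he => (Q.ker e he).mp (Subsingleton.elim _ _)
    let zE : ↥D.E := ⟨D.z, D.z_mem⟩
    have htop : zpowers zE ⊔ frattini ↥D.E = ⊤ := by
      refine eq_top_iff.mpr fun e _ => ?_
      have hle : F ≤ (zpowers zE ⊔ frattini ↥D.E).map D.E.subtype := (closure_le _).mpr (Set.insert_subset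
        ⟨zE, mem_sup_left (mem_zpowers zE), rfl⟩ (by
          rintro _ ⟨a, ha, rfl⟩
          refine ⟨⟨a, ha⟩ ^ 2, mem_sup_right (Cfsg.Lib.PGroups.pow_mem_frattini D.E_two _), ?_⟩
          rw [pow_two]; rfl))
      obtain ⟨w, hw, hwe⟩ := hle (hall e e.2)
      rwa [← show w = e from Subtype.ext hwe]
    have h := frattini_nongenerating htop
    have hx : D.x ∈ D.E := D.cent_E h2 (D.CH D.xC) fun e he => by
      obtain ⟨k, hk⟩ := mem_zpowers_iff.mp (show (⟨e, he⟩ : ↥D.E) ∈ zpowers zE from h ▸ mem_top _)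
      have : e = D.z ^ k := (congrArg Subtype.val hk).symm
      rw [this]
      exact ((D.xz.zpow_right k)).symm
    exact D.x_ne (orderOf_eq_one_iff.mp (Nat.eq_one_of_dvd_coprimes (by norm_num : Nat.Coprime 3 2)
      (D.ox ▸ dvd_rfl) (by
        rcases (Cfsg.Lib.LargeExtra.mem_zpowers_two D.zz).mp (D.E_inf_C hx D.xC) with r | r
        · rw [r, orderOf_one]; exact one_dvd 2
        · rw [r, D.oz])))
  have hbig : 1024 ≤ Nat.card Q.V := D.big_module Q.two (Q.R.comp (Subgroup.inclusion D.CH)) hfpf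
  -- the fixed space of the fused element
  let K : AddSubgroup Q.V :=
    { carrier := {v | Q.R yH v = v}
      zero_mem' := map_zero (Q.R yH)
      add_mem' := fun {p q} (hp : Q.R yH p = p) (hq : Q.R yH q = q) => by
        show Q.R yH (p + q) = p + q; rw [map_add, hp, hq]
      neg_mem' := fun {p} (hp : Q.R yH p = p) => by show Q.R yH (-p) = -p; rw [map_neg, hp] }
  obtain ⟨a, ha⟩ := card_two_pow (V := ↥K) fun v => Subtype.ext (Q.two v)
  have hlift : ∀ v : ↥K, ∃ e ∈ D.Ey, Q.π e = v := fun v => by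
    obtain ⟨e, he, hec, hev⟩ := Q.fix_lift D.E_two hFE hFH hFn hEH yH hy3 v.2
    exact ⟨e, D.mem_Ey.mpr ⟨he, hec⟩, hev⟩
  choose s hsE hs using hlift
  have hKle : Nat.card ↥K * Nat.card ↥(F ⊓ D.Ey) ≤ Nat.card ↥D.Ey := by
    rw [← Nat.card_prod]
    refine Nat.card_le_card_of_injective
      (fun p => (⟨s p.1 * p.2, mul_mem (hsE p.1) (mem_inf.mp p.2.2).2⟩ : ↥D.Ey)) fun p q hpq => ?_
    have e : s p.1 * (p.2 : G) = s q.1 * (q.2 : G) := congrArg Subtype.val hpq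
    have hπ : ∀ p : ↥K × ↥(F ⊓ D.Ey), Q.π (s p.1 * (p.2 : G)) = (p.1 : Q.V) := fun p => by
      rw [Q.mul _ (D.mem_Ey.mp (hsE _)).1 _ (hFE (mem_inf.mp p.2.2).1), hs,
        (Q.ker _ (hFE (mem_inf.mp p.2.2).1)).mpr (mem_inf.mp p.2.2).1, add_zero]
    have e1 : p.1 = q.1 := Subtype.ext (by rw [← hπ p, ← hπ q, e])
    rw [e1] at e
    exact Prod.ext e1 (Subtype.ext (mul_left_cancel e))
  have hFy2 : 2 ≤ Nat.card ↥(F ⊓ D.Ey) := by
    have h := card_dvd_of_le (show zpowers D.z ≤ F ⊓ D.Ey from zpowers_le.mpr ⟨hzF, D.zE_y⟩)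
    rw [Nat.card_zpowers, D.oz] at h
    exact Nat.le_of_dvd Nat.card_pos h
  have hsplit := three_split Q.two (Q.R xH) (Q.R yH) (by rw [← map_pow, hx3, map_one]) (by rw [← map_pow, hy3, map_one])
    (Commute.map (Subtype.ext D.yx.eq.symm) Q.R) hfpf
  have hconjK : ∀ i, Nat.card {v : Q.V // (Q.R yH * Q.R xH ^ i) v = v} = Nat.card ↥K := fun i => by
    obtain ⟨m, hm, hmy⟩ := D.move i
    set mH : ↥D.H := ⟨m, D.CH hm⟩
    have e : mH * (yH * xH ^ i) = yH * mH := Subtype.ext (by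
      show m * (D.y * ((xH ^ i : ↥D.H) : G)) = D.y * m
      rw [SubgroupClass.coe_pow, ← mul_inv_eq_iff_eq_mul]; exact hmy)
    have hcomm' : ∀ v, Q.R mH ((Q.R yH * Q.R xH ^ i) v) = Q.R yH (Q.R mH v) := fun v => by
      rw [← map_pow, ← map_mul, ← end_mul_apply, ← map_mul, e, map_mul, end_mul_apply]
    have hinv : ∀ v, Q.R mH⁻¹ (Q.R mH v) = v ∧ Q.R mH (Q.R mH⁻¹ v) = v := fun v => by
      rw [← end_mul_apply, ← end_mul_apply, ← map_mul, ← map_mul, inv_mul_cancel, mul_inv_cancel, map_one]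
      exact ⟨rfl, rfl⟩
    refine Nat.card_congr
      { toFun := fun v => ⟨Q.R mH v.1, ?_⟩
        invFun := fun v => ⟨Q.R mH⁻¹ v.1, ?_⟩
        left_inv := fun v => Subtype.ext (hinv v.1).1
        right_inv := fun v => Subtype.ext (hinv v.1).2 }
    · show Q.R yH (Q.R mH v.1) = Q.R mH v.1
      rw [← hcomm', v.2]
    · have hv : Q.R yH v.1 = v.1 := v.2
      have h := hcomm' (Q.R mH⁻¹ v.1)
      rw [(hinv v.1).2, hv] at h
      conv_rhs => rw [← h]
      rw [(hinv _).1]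
  have h1 := hconjK 1
  have h2' := hconjK 2
  rw [pow_one] at h1
  rw [pow_two] at h2'
  rw [h1, h2', show Nat.card {v : Q.V // Q.R yH v = v} = Nat.card ↥K from rfl, ha] at hsplit
  obtain ⟨hy32, n, hn⟩ := D.card_Ey_cases h2
  have ha4 : 4 ≤ a := by
    by_contra hlt
    have : (2 : ℕ) ^ a ≤ 2 ^ 3 := Nat.pow_le_pow_right two_pos (by omega)
    have := Nat.mul_le_mul (Nat.mul_le_mul this this) this
    omega
  have hpa : 16 ≤ 2 ^ a := le_trans (by norm_num) (Nat.pow_le_pow_right two_pos ha4)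
  have hmul : 2 ^ a * 2 ≤ 32 := le_trans (le_trans (Nat.mul_le_mul_left _ hFy2) (ha ▸ hKle)) hy32
  have ha16 : 2 ^ a = 16 := by omega
  have hK16 : Nat.card ↥K = 16 := ha.trans ha16
  rw [hK16] at hKle
  have hEy32 : Nat.card ↥D.Ey = 32 := by omega
  have hFy : F ⊓ D.Ey = zpowers D.z :=
    (eq_of_le_of_card_ge (zpowers_le.mpr (show D.z ∈ F ⊓ D.Ey from ⟨hzF, D.zE_y⟩)) (by rw [Nat.card_zpowers, D.oz]; omega)).symm
  rw [ha16] at hsplit
  -- the kernel of the section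
  have hnF : ∀ g ∈ D.H, g ∈ normalizer (F : Set G) := fun g hg =>
    Subgroup.mem_normalizer_fintype fun w hw => hFH g hg w hw
  have hFz : F = zpowers D.z := le_antisymm (fixed_gen (D.E_two.to_le hFE) D.x3 D.x_ne D.y3 D.yx.symm D.y_not
    (hnF _ (D.CH D.xC)) (hnF _ (D.CH D.yC)) (fun e he hex => D.E_inf_C (hFE he) (D.memC.mpr hex))
    fun i e he hei => by
      obtain ⟨m, hm, hmy⟩ := D.move i
      have h : m * e * m⁻¹ ∈ F ⊓ D.Ey := ⟨hFH m (D.CH hm) e he, D.mem_Ey.mpr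
        ⟨D.E_conj (D.CH hm) (hFE he), by rw [← hmy]; exact (Commute.conj_iff m).mpr hei⟩⟩
      rw [hFy] at h
      obtain ⟨k, hk⟩ := mem_zpowers_iff.mp h
      refine mem_zpowers_iff.mpr ⟨k, ?_⟩
      calc D.z ^ k = m⁻¹ * D.z ^ k * m := by rw [(((D.zc m hm)).inv_left.zpow_right k).eq, inv_mul_cancel_right]
        _ = e := by rw [hk]; group) hzK
  have hE13 : Nat.card ↥D.E = 2 ^ 13 := by
    rw [← Q.card, hsplit, hFz, Nat.card_zpowers, D.oz]; norm_num
  have hsq2 : ∀ a ∈ D.E, a * a = 1 ∨ a * a = D.z := fun a ha =>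
    (Cfsg.Lib.LargeExtra.mem_zpowers_two D.zz).mp (hFz ▸ hsq a ha)
  have hcomm2 : ∀ a ∈ D.E, ∀ b ∈ D.E, a * b * a⁻¹ * b⁻¹ ∈ zpowers D.z := fun a ha b hb => hFz ▸ hcomm a ha b hb
  -- the centre
  let Z : Subgroup G := D.E ⊓ centralizer (D.E : Set G)
  have hZmem : ∀ {w : G}, w ∈ Z ↔ w ∈ D.E ∧ ∀ a ∈ D.E, Commute a w := fun {w} => by
    rw [mem_inf, mem_centralizer_iff]; rfl
  have hzZ : zpowers D.z ≤ Z := zpowers_le.mpr (hZmem.mpr ⟨D.z_mem, fun a ha => D.memH.mp (D.E_le ha)⟩)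
  have hZH : ∀ h ∈ D.H, ∀ a ∈ Z, h * a * h⁻¹ ∈ Z := fun h hh a ha => by
    refine hZmem.mpr ⟨D.E_conj hh (hZmem.mp ha).1, fun b hb => ?_⟩
    have := (Commute.conj_iff h).mpr ((hZmem.mp ha).2 _ (D.E_conj (inv_mem hh) hb))
    rwa [show h * (h⁻¹ * b * h⁻¹⁻¹) * h⁻¹ = b by group] at this
  have hzz' : ∀ h ∈ D.H, ∀ a ∈ zpowers D.z, h * a * h⁻¹ ∈ zpowers D.z := fun h hh a ha => by
    obtain ⟨k, rfl⟩ := mem_zpowers_iff.mp ha
    rw [((D.memH.mp hh).zpow_right k).eq, mul_inv_cancel_right]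
    exact zpow_mem (mem_zpowers _) k
  obtain ⟨Q1⟩ := exists_quot hzZ hZH hzz' (fun h hh => hzz' h (D.E_le (hZmem.mp hh).1))
    (fun a ha => hFz ▸ hsq a (hZmem.mp ha).1) (fun a ha b hb => hcomm2 a (hZmem.mp ha).1 b (hZmem.mp hb).1)
  obtain ⟨Q2⟩ := exists_quot (H := D.H) (F := Z) (inf_le_left : Z ≤ D.E) hEH hZH (fun h hh => hZH h (D.E_le hh))
    (fun a ha => hzZ (hFz ▸ hsq a ha)) (fun a ha b hb => hzZ (hcomm2 a ha b hb))
  have hf1 : ∀ v, Q1.R xH v = v → v = 0 := fun v hv => by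
    obtain ⟨e, he, hec, rfl⟩ := Q1.fix_lift (D.E_two.to_le inf_le_left) hzZ hzz'
      (fun h hh => hzz' h (D.E_le (hZmem.mp hh).1)) hZH xH hx3 hv
    exact (Q1.ker e he).mpr (D.E_inf_C (hZmem.mp he).1 (D.memC.mpr hec))
  have hf2 : ∀ v, Q2.R xH v = v → v = 0 := fun v hv => by
    obtain ⟨e, he, hec, rfl⟩ := Q2.fix_lift D.E_two inf_le_left hZH (fun h hh => hZH h (D.E_le hh)) hEH xH hx3 hv
    exact (Q2.ker e he).mpr (hzZ (D.E_inf_C he (D.memC.mpr hec)))
  have hZ : Z = zpowers D.z := by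
    by_contra hne
    haveI : Nontrivial Q1.V := by
      by_contra hV
      rw [not_nontrivial_iff_subsingleton] at hV
      exact hne (le_antisymm (fun w hw => (Q1.ker w hw).mp (Subsingleton.elim _ _)) hzZ)
    have h1 : 1024 ≤ Nat.card Q1.V := D.big_module Q1.two (Q1.R.comp (Subgroup.inclusion D.CH)) hf1
    have hc1 := Q1.card
    rw [Nat.card_zpowers, D.oz] at hc1
    have htop : ∀ e ∈ D.E, e ∈ Z := by
      by_contra hno
      push Not at hno
      obtain ⟨e, he, heZ⟩ := hno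
      haveI : Nontrivial Q2.V := ⟨Q2.π e, 0, fun r => heZ ((Q2.ker e he).mp r)⟩
      have h2 : 1024 ≤ Nat.card Q2.V := D.big_module Q2.two (Q2.R.comp (Subgroup.inclusion D.CH)) hf2
      have hc2 := Q2.card
      rw [hE13] at hc2
      have := Nat.mul_le_mul h2 (le_trans (Nat.mul_le_mul_right 2 h1) hc1.le)
      omega
    have hel : ∀ a ∈ D.E, a * a = 1 := fun a ha => by
      have hxa := D.E_conj (D.CH D.xC) ha
      have hxxa := D.E_conj (D.CH D.xC) hxa
      set b := D.x * a * D.x⁻¹ with hb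
      set c := D.x * b * D.x⁻¹ with hc
      have hsum : Q.π (a * b * c) = 0 := by
        rw [Q.mul _ (mul_mem ha hxa) _ hxxa, Q.mul _ ha _ hxa]
        have e1 : Q.π b = Q.R xH (Q.π a) := (Q.conj xH a ha).symm
        have e2 : Q.π c = Q.R xH (Q.π b) := (Q.conj xH b hxa).symm
        rw [e2, e1]
        refine hfpf _ ?_
        have h3 : Q.R xH (Q.R xH (Q.R xH (Q.π a))) = Q.π a := by
          rw [← end_mul_apply, ← end_mul_apply, ← map_mul, ← map_mul,
            show xH * xH * xH = 1 by rw [← hx3]; simp [pow_succ], map_one]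
          rfl
        rw [map_add, map_add, h3]
        abel
      have hmem := (Q.ker _ (mul_mem (mul_mem ha hxa) hxxa)).mp hsum
      rw [hFz] at hmem
      have hc1' : ∀ p ∈ D.E, ∀ q ∈ D.E, Commute p q := fun p hp q hq => (hZmem.mp (htop q hq)).2 p hp
      have hprod : a * a * (b * b) * (c * c) = 1 := by
        have h := (Cfsg.Lib.LargeExtra.mem_zpowers_two D.zz).mp hmem
        have h' : a * b * c * (a * b * c) = 1 := by rcases h with r | r <;> rw [r]; exacts [one_mul 1, D.zz]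
        rwa [← pow_two, ((hc1' a ha c hxxa).mul_left (hc1' b hxa c hxxa)).mul_pow, (hc1' a ha b hxa).mul_pow,
          pow_two, pow_two, pow_two] at h'
      have e : ∀ w : G, w * w = 1 ∨ w * w = D.z → D.x * w * D.x⁻¹ * (D.x * w * D.x⁻¹) = w * w := fun w hw => by
        rw [show D.x * w * D.x⁻¹ * (D.x * w * D.x⁻¹) = D.x * (w * w) * D.x⁻¹ by group]
        rcases hw with r | r <;> rw [r]
        · group
        · rw [D.xz.eq, mul_inv_cancel_right]
      have eb : b * b = a * a := e a (hsq2 a ha)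
      have ec : c * c = a * a := (e b (hsq2 b hxa)).trans eb
      rw [eb, ec] at hprod
      rcases hsq2 a ha with r | r
      · exact r
      · rw [r, D.zz, one_mul] at hprod; exact absurd hprod D.z_ne
    have hR : Nat.card ↥D.pull.range = 32 := by
      rw [← Nat.card_congr (MonoidHom.ofInjective (D.pull_injective h2)).toEquiv, hEy32]
    refine no_thirtytwo qmEquiv hR ?_
    rintro _ ⟨e, rfl⟩
    rw [← map_mul, show e * e = 1 from Subtype.ext (hel e (D.mem_Ey.mp e.2).1), map_one]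
  have hcen : ∀ c ∈ D.E, (∀ a ∈ D.E, Commute a c) → c = 1 ∨ c = D.z := fun c hc hall =>
    (Cfsg.Lib.LargeExtra.mem_zpowers_two D.zz).mp (hZ ▸ hZmem.mpr ⟨hc, hall⟩)
  refine ⟨Cfsg.Lib.LargeExtra.isExtraspecial_of D.E_two D.z_mem D.z_ne D.zz (fun a ha => D.memH.mp (D.E_le ha))
    (fun a ha b hb => ?_) hsq2 hcen ?_, hE13, hEy32, hsq2, hcomm2, hcen⟩
  · rw [commutatorElement_def]
    exact (Cfsg.Lib.LargeExtra.mem_zpowers_two D.zz).mp (hcomm2 a ha b hb)
  · by_contra! hno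
    have hZE : Z = D.E := le_antisymm inf_le_left fun w hw => hZmem.mpr ⟨hw, fun a ha => hno a ha w hw⟩
    have := congrArg (fun S : Subgroup G => Nat.card ↥S) (hZE.symm.trans hZ)
    rw [hE13, Nat.card_zpowers, D.oz] at this
    norm_num at this

end Six

end Cfsg.Lib.JankoSixCover
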