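import Mathlib.Data.Nat.Notation

/-!
Data for the fixed points of elements of order seven and eleven of the cover on the conjugates of the scalar.
-/

set_option autoImplicit false

namespace Cfsg.Lib.JankoSixCover.Data

/-- A word of order seven. -/
def word7 : List ℕ := [0, 2, 0, 2, 1]

/-- Its map. -/
def W7 : List ℕ := [4, 8, 96, 176, 1297, 2594, 3603, 1825, 848, 416, 3216, 1248]

/-- A basis of the first kernel. -/
def UB : List ℕ := [84, 2914, 553, 168, 3507, 830]

/-- A basis of the second kernel. -/
def VB : List ℕ := [21, 42, 321, 642, 1035, 2061]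

/-- The coordinates in the two bases. -/
def PI : List ℕ := [809, 293, 2826, 3353, 2147, 3260, 872, 429, 321, 648, 2837, 3386]

/-- The element of order seven on the first kernel. -/
def W6 : List ℕ := [2, 4, 3, 16, 32, 24]

/-- The scalar on the first kernel. -/
def O6 : List ℕ := [8, 16, 32, 9, 18, 36]

/-- Words whose value has order nine and commutes with the scalar. -/
def words9 : List (List ℕ) := [[1, 0, 1, 1, 0, 0, 1, 1, 0, 1], [1, 1, 0, 1, 0, 0, 1, 0, 1, 1]]

/-- A totally singular subspace. -/
def SING : List ℕ := [7, 9, 18, 35, 1025, 2050]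

/-- Coordinates in the basis of iterates of the first vector. -/
def CA : List ℕ := [1, 571, 2, 905, 4, 237, 8, 474, 16, 948]

/-- A vector moved by one to the first vector. -/
def rA : ℕ := 440

end Cfsg.Lib.JankoSixCover.Data
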