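import Cfsg.Agent.JankoFour.Checks
import Cfsg.Agent.JankoSixCover.FixData

/-!
Finite checks: elements of order three free of fixed points commuting with the standard elements of order seven or eleven,
and a totally singular subspace.
-/

set_option autoImplicit false
set_option maxRecDepth 100000

namespace Cfsg.Lib.JankoSixCover

open Cfsg.Lib.JankoFour (mv mm idM wM pB qB)
open Cfsg.Lib.JankoFour.Data (A B C OM)
open Data

/-- The identity on six coordinates. -/
def id6 : List ℕ := [1, 2, 4, 8, 16, 32]

/-- The first polynomial. -/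
def p7 (x : ℕ) : ℕ := mv W7 (mv W7 (mv W7 x)) ^^^ mv W7 x ^^^ x

/-- The second polynomial. -/
def q7 (x : ℕ) : ℕ := mv W7 (mv W7 (mv W7 x)) ^^^ mv W7 (mv W7 x) ^^^ x

/-- A map commuting with the element of order seven with given images of two vectors. -/
def xMat (a b : ℕ) : List ℕ := [a, mv W6 a, mv W6 (mv W6 a), b, mv W6 b, mv W6 (mv W6 b)]

/-- The value of a word in two maps. -/
def vMat (X : List ℕ) : List ℕ → List ℕ
  | [] => id6
  | i :: r => mm (if i == 0 then O6 else X) (vMat X r)

/-- The cube of a map. -/
def cube (M : List ℕ) : List ℕ := mm M (mm M M)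

/-- The value has order nine and commutes with the scalar. -/
def wordOK (X w : List ℕ) : Bool :=
  (fun M => mm M O6 == mm O6 M && cube (cube M) == id6 && !(cube M == id6)) (vMat X w)

theorem seven_word : wM [A, B, C] word7 = W7 ∧ (word7.all fun i => Nat.blt i 3) = true := by decide +kernel

theorem seven_basis : (W7.all fun m => Nat.blt m 4096) = true ∧ (UB.all fun m => Nat.blt m 4096) = true ∧
    (VB.all fun m => Nat.blt m 4096) = true ∧ (W6.all fun m => Nat.blt m 64) = true ∧
    (O6.all fun m => Nat.blt m 64) = true ∧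
    ((List.range 6).all fun k => mv W7 (mv UB (2 ^ k)) == mv UB (mv W6 (2 ^ k)) &&
      mv OM (mv UB (2 ^ k)) == mv UB (mv O6 (2 ^ k)) && p7 (mv UB (2 ^ k)) == 0 && q7 (mv VB (2 ^ k)) == 0 &&
      mv PI (mv UB (2 ^ k)) == 2 ^ k) = true ∧
    ((List.range 12).all fun j => mv (UB ++ VB) (mv PI (2 ^ j)) == 2 ^ j) = true ∧
    mv W6 1 = 2 ∧ mv W6 2 = 4 ∧ mv W6 8 = 16 ∧ mv W6 16 = 32 := by decide +kernel

theorem seven_order : (idM.all fun x => (mv W7)^[7] x == x) = true ∧ mv W7 1 ≠ 1 := by decide +kernel

theorem seven_scan : ((List.range 4096).all fun x =>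
    (!(p7 x == 0) || mv UB (mv PI x % 64) == x) && (!(q7 x == 0) || mv PI x % 64 == 0)) = true := by decide +kernel

theorem seven_pairing : ((List.range 64).all fun c => c == 0 || UB.any fun u => pB u (mv VB c)) = true := by
  decide +kernel

theorem seven_cand : ((List.range 64).all fun a => (List.range 64).all fun b => (fun X =>
    !(id6.all fun u => mv X (mv X u) ^^^ mv X u ^^^ u == 0) || X == O6 || X == mm O6 O6 ||
      words9.any fun w => wordOK X w) (xMat a b)) = true := by decide +kernel

theorem seven_words : (words9.all fun w => w.all fun i => Nat.blt i 2) = true := by decide +kernel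

/-- The iterates of the first vector. -/
def eBasis (v : ℕ) : List ℕ := (List.range 10).map fun i => (mv A)^[i] v

/-- A map commuting with the element of order eleven with given image of the first vector. -/
def yMat (v : ℕ) : List ℕ := (List.range 10).map fun k => mv (eBasis v) (mv CA (2 ^ k))

theorem eleven_basis : ((List.range 10).all fun k => mv (eBasis 1) (mv CA (2 ^ k)) == 2 ^ k) = true ∧
    mv A rA ^^^ rA = 1 ∧ rA < 4096 ∧ ((List.range 12).all fun k => Nat.blt (mv A (2 ^ k) ^^^ 2 ^ k) 1024) = true ∧
    ((List.range 10).all fun k => Nat.blt (mv OM (2 ^ k)) 1024) = true := by decide +kernel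

theorem eleven_cand : ((List.range 1024).all fun v =>
    !(mv (yMat v) v ^^^ v ^^^ 1 == 0) ||
      ((List.range 10).all fun k => mv (yMat v) (mv OM (2 ^ k)) == mv OM (mv (yMat v) (2 ^ k)))) = true := by
  decide +kernel

theorem eleven_fixed : ((List.range 4096).all fun x => !(mv A x == x) || [0, 1024, 2048, 3072].contains x) = true ∧
    mv A 1024 = 1024 ∧ mv OM 1024 = 2048 ∧ mv OM 2048 = 3072 ∧ mv OM 3072 = 1024 := by decide +kernel

theorem sing_check : (SING.all fun m => Nat.blt m 4096) = true ∧
    ((List.range 64).all fun c => (c == 0 || !(mv SING c == 0)) && !(qB (mv SING c))) = true ∧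
    (SING.all fun x => SING.all fun y => !(pB x y)) = true := by decide +kernel

theorem om_poly : (idM.all fun x => mv OM (mv OM x) ^^^ mv OM x ^^^ x == 0) = true := by decide +kernel

end Cfsg.Lib.JankoSixCover
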