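import Cfsg.Agent.JankoSixCover.Geo
import Cfsg.Agent.JankoSixCover.FixChecks
import Cfsg.Agent.Classical.Orth.Orders

/-!
The coded action of the centraliser of the involution and the divisibility given by the orthogonal group.
-/

set_option autoImplicit false
set_option maxRecDepth 100000
set_option maxHeartbeats 1000000
set_option linter.style.haveILetI false
set_option linter.unusedSectionVars false

namespace Cfsg.Lib.JankoSixCover

open Subgroup
open Cfsg.Lib.JankoFour (mv mv_xor mv_zero mv_lt lin_ext idM pB qB wM)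
open Cfsg.Lib.JankoFour.Data (A B C OM)

universe u

variable {G : Type u} [Group G] [Finite G]

namespace Geo

variable {D : Six G} (P : Geo D)

/-- The coded action. -/
noncomputable def g (h : ↥D.H) (v : ℕ) : ℕ := (P.frame.surj (P.Q.R h (P.f v))).choose

theorem g_lt (h : ↥D.H) (v : ℕ) : P.g h v < 4096 := (P.frame.surj (P.Q.R h (P.f v))).choose_spec.1

theorem g_spec (h : ↥D.H) (v : ℕ) : P.f (P.g h v) = P.Q.R h (P.f v) :=
  (P.frame.surj (P.Q.R h (P.f v))).choose_spec.2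

theorem g_unique {h : ↥D.H} {v w : ℕ} (hw : w < 4096) (e : P.f w = P.Q.R h (P.f v)) : P.g h v = w :=
  P.frame.inj _ (P.g_lt h v) _ hw ((P.g_spec h v).trans e.symm)

theorem g_xor (h : ↥D.H) (a b : ℕ) : P.g h (a ^^^ b) = P.g h a ^^^ P.g h b :=
  P.g_unique (Nat.xor_lt_two_pow (n := 12) (P.g_lt h a) (P.g_lt h b))
    (by rw [P.frame.add, P.g_spec, P.g_spec, P.frame.add, map_add])

theorem g_zero (h : ↥D.H) : P.g h 0 = 0 :=
  P.g_unique (by norm_num) (by rw [P.frame.f_zero, map_zero])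

theorem g_mul (h k : ↥D.H) (v : ℕ) : P.g (h * k) v = P.g h (P.g k v) :=
  P.g_unique (P.g_lt _ _) (by rw [P.g_spec, P.g_spec, map_mul]; rfl)

theorem g_one {v : ℕ} (hv : v < 4096) : P.g 1 v = v := P.g_unique hv (by rw [map_one]; rfl)

theorem g_ext {h k : ↥D.H} (e : ∀ v < 4096, P.g h v = P.g k v) : P.Q.R h = P.Q.R k := by
  refine DFunLike.ext _ _ fun u => ?_
  obtain ⟨v, hv, rfl⟩ := P.frame.surj u
  rw [← P.g_spec, ← P.g_spec, e v hv]

theorem g_congr {h k : ↥D.H} (e : P.Q.R h = P.Q.R k) (v : ℕ) : P.g h v = P.g k v :=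
  P.g_unique (P.g_lt k v) (by rw [P.g_spec, e])

theorem g_mem {h : ↥D.H} (hh : (h : G) ∈ D.E) {v : ℕ} (hv : v < 4096) : P.g h v = v :=
  (P.g_congr ((P.ker h).mpr hh |>.trans (map_one P.Q.R).symm) v).trans (P.g_one hv)

/-- Maps agreeing on the coordinates give the same element modulo the core. -/
theorem mod_E {h k : ↥D.H} (e : ∀ v < 4096, P.g h v = P.g k v) : (h : G)⁻¹ * k ∈ D.E := by
  have h1 : P.Q.R (h⁻¹ * k) = 1 := by
    rw [map_mul, ← P.g_ext e, ← map_mul, inv_mul_cancel, map_one]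
  exact (P.ker _).mp h1

theorem g_pB (h : ↥D.H) {v w : ℕ} (hv : v < 4096) (hw : w < 4096) : pB (P.g h v) (P.g h w) = pB v w := by
  obtain ⟨a, ha, hav⟩ := P.Q.surj (P.f v)
  obtain ⟨b, hb, hbw⟩ := P.Q.surj (P.f w)
  have h1 := P.comm a ha b hb v hv w hw hav hbw
  have h2 := P.comm _ (D.E_conj h.2 ha) _ (D.E_conj h.2 hb) _ (P.g_lt h v) _ (P.g_lt h w)
    (by rw [← P.Q.conj h a ha, hav, P.g_spec]) (by rw [← P.Q.conj h b hb, hbw, P.g_spec])
  rw [Commute.conj_iff, h1] at h2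
  revert h2
  cases pB v w <;> cases pB (P.g h v) (P.g h w) <;> simp

theorem g_la {v : ℕ} (hv : v < 4096) : P.g P.la v = mv A v :=
  P.g_unique (mv_lt (n := 12) Cfsg.Lib.JankoFour.mats_lt.1 v) (P.frame.fA v hv)

theorem g_lb {v : ℕ} (hv : v < 4096) : P.g P.lb v = mv B v :=
  P.g_unique (mv_lt (n := 12) Cfsg.Lib.JankoFour.mats_lt.2.1 v) (P.frame.fB v hv)

theorem g_lc {v : ℕ} (hv : v < 4096) : P.g P.lc v = mv C v :=
  P.g_unique (mv_lt (n := 12) Cfsg.Lib.JankoFour.mats_lt.2.2.1 v) (P.frame.fC v hv)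

theorem g_xs {v : ℕ} (hv : v < 4096) : P.g P.xs v = mv OM v :=
  P.g_unique (mv_lt (n := 12) Cfsg.Lib.JankoFour.mats_lt.2.2.2.1 v) (P.frame.fW v hv)

/-- The element named by a word in the generators. -/
def wordElem : List ℕ → ↥D.H
  | [] => 1
  | i :: r => (if i = 0 then P.la else if i = 1 then P.lb else P.lc) * wordElem r

theorem wordElem_mem : ∀ w : List ℕ, (P.wordElem w : G) ∈ D.C
  | [] => one_mem _
  | i :: r => by
    refine D.C.mul_mem ?_ (wordElem_mem r)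
    split_ifs
    exacts [P.memC.1, P.memC.2.1, P.memC.2.2]

theorem g_word : ∀ w : List ℕ, (∀ i ∈ w, i < 3) → ∀ v < 4096, P.g (P.wordElem w) v = mv (wM [A, B, C] w) v
  | [], _, v, hv => by
    show P.g 1 v = mv idM v
    rw [P.g_one hv, Cfsg.Lib.JankoFour.mv_idM hv]
  | i :: r, hw, v, hv => by
    have ih := g_word r (fun j hj => hw j (List.mem_cons_of_mem _ hj)) v hv
    show P.g ((if i = 0 then P.la else if i = 1 then P.lb else P.lc) * P.wordElem r) v = _
    rw [P.g_mul, show wM [A, B, C] (i :: r) = Cfsg.Lib.JankoFour.mm ([A, B, C].getD i idM) (wM [A, B, C] r) from rfl,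
      Cfsg.Lib.JankoFour.mv_mm, ← ih]
    have hi := hw i List.mem_cons_self
    rcases (show i = 0 ∨ i = 1 ∨ i = 2 by omega) with rfl | rfl | rfl
    · exact P.g_la (P.g_lt _ _)
    · exact P.g_lb (P.g_lt _ _)
    · exact P.g_lc (P.g_lt _ _)

/-- A conjugate of the element of order three satisfies the polynomial of the scalar. -/
theorem g_poly (k : ↥D.H) {v : ℕ} (hv : v < 4096) :
    P.g (k * P.xs * k⁻¹) (P.g (k * P.xs * k⁻¹) v) ^^^ P.g (k * P.xs * k⁻¹) v ^^^ v = 0 := by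
  have hw := P.g_lt k⁻¹ v
  set w := P.g k⁻¹ v with hwdef
  have hO : ∀ t < 4096, mv OM (mv OM t) ^^^ mv OM t ^^^ t = 0 := by
    refine lin_ext (g := fun _ => 0) (f := fun t => mv OM (mv OM t) ^^^ mv OM t ^^^ t) (· ^^^ ·) 12
      (fun a b => by simp only [mv_xor]; ac_rfl) (fun a b => rfl) (by simp [mv_zero]) fun j hj => ?_
    exact beq_iff_eq.mp (List.all_eq_true.mp om_poly _ (Cfsg.Lib.JankoFour.idM_two_pow hj))
  have hv' : P.g k w = v := by rw [hwdef, ← P.g_mul, mul_inv_cancel, P.g_one hv]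
  have e1 : P.g (k * P.xs * k⁻¹) v = P.g k (mv OM w) := by rw [P.g_mul, ← hwdef, P.g_mul, P.g_xs hw]
  have hOw : mv OM w < 4096 := mv_lt (n := 12) Cfsg.Lib.JankoFour.mats_lt.2.2.2.1 w
  have e2 : P.g (k * P.xs * k⁻¹) (P.g k (mv OM w)) = P.g k (mv OM (mv OM w)) := by
    rw [← P.g_mul, inv_mul_cancel_right, P.g_mul, P.g_xs hOw]
  rw [e1, e2]
  conv_lhs => rw [← hv']
  rw [← P.g_xor, ← P.g_xor, hO w hw, P.g_zero]

include P in
theorem exists_elementary : ∃ S : Subgroup ↥D.E, Cfsg.IsElementaryAbelian 2 S ∧ Nat.card S = 2 ^ (6 + 1) := by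
  classical
  obtain ⟨hlt, hspan, hpair⟩ := sing_check
  have hcl : ∀ c, mv Data.SING c < 4096 := fun c =>
    mv_lt (n := 12) (fun m hm => by
      have := List.all_eq_true.mp hlt m hm
      simpa [Nat.blt] using this) c
  have hsp : ∀ c < 64, (c = 0 ∨ mv Data.SING c ≠ 0) ∧ qB (mv Data.SING c) = false := fun c hc => by
    simpa [bne, Bool.or_eq_true] using List.all_eq_true.mp hspan c (List.mem_range.mpr hc)
  have hp : ∀ c < 64, ∀ d < 64, pB (mv Data.SING c) (mv Data.SING d) = false := by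
    intro c hc d hd
    have hb : ∀ i < 6, mv Data.SING (2 ^ i) ∈ Data.SING := by decide +kernel
    refine lin_ext (g := fun _ => false) (f := fun c => pB (mv Data.SING c) (mv Data.SING d)) (fun a b => (a ^^ b)) 6
      (fun a b => by simp only [mv_xor, Cfsg.Lib.JankoFour.pB_xor_left]) (fun a b => rfl)
      (by simp only [mv_zero, Cfsg.Lib.JankoFour.pB_zero_left]) (fun i hi => ?_) c hc
    refine lin_ext (g := fun _ => false) (f := fun d => pB (mv Data.SING (2 ^ i)) (mv Data.SING d))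
      (fun a b => (a ^^ b)) 6 (fun a b => by simp only [mv_xor, Cfsg.Lib.JankoFour.pB_xor_right]) (fun a b => rfl)
      (by simp only [mv_zero, Cfsg.Lib.JankoFour.pB_zero]) (fun j hj => ?_) d hd
    simpa using List.all_eq_true.mp (List.all_eq_true.mp hpair _ (hb i hi)) _ (hb j hj)
  let S : Subgroup ↥D.E :=
    { carrier := {e | ∃ c < 64, P.Q.π (e : G) = P.f (mv Data.SING c)}
      one_mem' := ⟨0, by norm_num, by rw [mv_zero, P.frame.f_zero]; exact (P.Q.ker _ (one_mem _)).mpr (one_mem _)⟩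
      mul_mem' := by
        rintro a b ⟨c, hc, ea⟩ ⟨d, hd, eb⟩
        exact ⟨c ^^^ d, Nat.xor_lt_two_pow (n := 6) hc hd, by
          rw [Subgroup.coe_mul, P.Q.mul _ a.2 _ b.2, ea, eb, mv_xor, P.frame.add]⟩
      inv_mem' := by
        rintro a ⟨c, hc, ea⟩
        refine ⟨c, hc, ?_⟩
        have h := P.Q.mul _ (inv_mem a.2) _ a.2
        rw [inv_mul_cancel, (P.Q.ker _ (one_mem _)).mpr (one_mem _), ea] at h
        rw [Subgroup.coe_inv, eq_neg_of_add_eq_zero_left h.symm]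
        exact neg_eq_of_add_eq_zero_left (P.Q.two _) }
  refine ⟨S, ⟨⟨⟨fun a b => ?_⟩⟩, fun a ha => ?_⟩, ?_⟩
  · obtain ⟨c, hc, ea⟩ := a.2
    obtain ⟨d, hd, eb⟩ := b.2
    exact Subtype.ext (Subtype.ext ((P.comm _ a.1.2 _ b.1.2 _ (hcl c) _ (hcl d) ea eb).mpr (hp c hc d hd)).eq)
  · obtain ⟨c, hc, ea⟩ := ha
    refine Subtype.ext ?_
    rw [SubgroupClass.coe_pow, pow_two]
    exact (P.sq _ a.2 _ (hcl c) ea).mpr (hsp c hc).2
  · choose s hsE hs using fun c : Fin 64 => P.Q.surj (P.f (mv Data.SING c.val))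
    let F : Fin 64 × ↥(zpowers D.z) → ↥S := fun p =>
      ⟨⟨s p.1 * p.2, mul_mem (hsE p.1) ((zpowers_le.mpr D.z_mem) p.2.2)⟩, p.1.val, p.1.2, by
        show P.Q.π (s p.1 * (p.2 : G)) = _
        rw [P.Q.mul _ (hsE _) _ ((zpowers_le.mpr D.z_mem) p.2.2), hs,
          (P.Q.ker _ ((zpowers_le.mpr D.z_mem) p.2.2)).mpr p.2.2, add_zero]⟩
    have hF : Function.Bijective F := by
      refine ⟨fun p q e => ?_, fun e => ?_⟩
      · have e1 : s p.1 * (p.2 : G) = s q.1 * (q.2 : G) := congrArg (fun t : ↥S => ((t : ↥D.E) : G)) e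
        have hc : p.1 = q.1 := by
          have h2 := congrArg P.Q.π e1
          rw [P.Q.mul _ (hsE _) _ ((zpowers_le.mpr D.z_mem) p.2.2), P.Q.mul _ (hsE _) _ ((zpowers_le.mpr D.z_mem) q.2.2),
            (P.Q.ker _ ((zpowers_le.mpr D.z_mem) p.2.2)).mpr p.2.2,
            (P.Q.ker _ ((zpowers_le.mpr D.z_mem) q.2.2)).mpr q.2.2, hs, hs, add_zero, add_zero] at h2
          have h3 := P.frame.inj _ (hcl _) _ (hcl _) h2
          refine Fin.ext ?_
          rcases (hsp _ (Nat.xor_lt_two_pow (n := 6) p.1.2 q.1.2)).1 with r | r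
          · exact Nat.xor_eq_zero_iff.mp r
          · exact absurd (by rw [mv_xor, h3, Nat.xor_self]) r
        rw [hc] at e1
        exact Prod.ext hc (Subtype.ext (mul_left_cancel e1))
      · obtain ⟨c, hc, he⟩ := e.2
        have hmem : (s ⟨c, hc⟩)⁻¹ * ((e : ↥D.E) : G) ∈ zpowers D.z := by
          rw [← P.Q.ker _ (mul_mem (inv_mem (hsE _)) (e : ↥D.E).2), P.Q.mul _ (inv_mem (hsE _)) _ (e : ↥D.E).2, he,
            ← hs ⟨c, hc⟩, ← P.Q.mul _ (inv_mem (hsE _)) _ (hsE _), inv_mul_cancel, P.Q.ker _ (one_mem _)]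
          exact one_mem _
        exact ⟨(⟨c, hc⟩, ⟨_, hmem⟩), Subtype.ext (Subtype.ext (mul_inv_cancel_left _ _))⟩
    rw [← Nat.card_eq_of_bijective F hF, Nat.card_prod, Nat.card_fin, Nat.card_zpowers, D.oz]
    norm_num

include P in
/-- The index of the core divides the order of the orthogonal group. -/
theorem index_dvd (h2 : Cfsg.IsCharacteristicTwoType G) :
    (D.E.subgroupOf D.H).index ∣ 2 ^ 31 * 3 ^ 8 * 5 ^ 2 * 7 ^ 2 * 11 * 17 * 31 := by
  classical
  haveI : Fact (Nat.Prime 2) := ⟨Nat.prime_two⟩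
  obtain ⟨hext, hcard, -⟩ := D.core_facts h2
  obtain ⟨e⟩ := (Cfsg.Lib.LargeExtra.OutExtra.out_orthogonal hext 6 (by rw [hcard])).1 P.exists_elementary
  have ho : Nat.card (Cfsg.Out ↥D.E) = 2 ^ 31 * 3 ^ 8 * 5 ^ 2 * 7 ^ 2 * 11 * 17 * 31 := by
    rw [Nat.card_congr e.toEquiv, Cfsg.Lib.Classical.OrthCard.card_plus (F := ZMod 2) 5, Nat.card_zmod]
    norm_num [Cfsg.Lib.Classical.OrthCard.prodQ, Finset.prod_range_succ]
  let ψ : ↥D.H →* Cfsg.Out ↥D.E :=
    (QuotientGroup.mk' (Cfsg.Inn ↥D.E)).comp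
      { toFun := fun h =>
          { toFun := fun e => ⟨(h : G) * e * (h : G)⁻¹, D.E_conj h.2 e.2⟩
            invFun := fun e => ⟨(h : G)⁻¹ * e * (h : G), by simpa using D.E_conj (inv_mem h.2) e.2⟩
            left_inv := fun e => Subtype.ext (by simp [mul_assoc])
            right_inv := fun e => Subtype.ext (by simp [mul_assoc])
            map_mul' := fun a b => Subtype.ext (by simp [mul_assoc]) }
        map_one' := MulEquiv.ext fun e => Subtype.ext (by simp)
        map_mul' := fun h k => MulEquiv.ext fun e => Subtype.ext (by simp [mul_assoc]) }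
  have hk : ψ.ker ≤ D.E.subgroupOf D.H := by
    intro h hh
    obtain ⟨a, ha⟩ := (QuotientGroup.eq_one_iff _).mp (MonoidHom.mem_ker.mp hh)
    rw [mem_subgroupOf]
    have hmem := D.cent_E h2 (D.H.mul_mem (D.H.inv_mem (D.E_le a.2)) h.2) fun e he => by
      have h1 : (a : G) * e * (a : G)⁻¹ = (h : G) * e * (h : G)⁻¹ :=
        congrArg Subtype.val (DFunLike.congr_fun ha (⟨e, he⟩ : ↥D.E))
      show e * ((a : G)⁻¹ * h) = (a : G)⁻¹ * h * e
      calc e * ((a : G)⁻¹ * h) = (a : G)⁻¹ * ((a : G) * e * (a : G)⁻¹) * h := by group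
        _ = (a : G)⁻¹ * ((h : G) * e * (h : G)⁻¹) * h := by rw [h1]
        _ = _ := by group
    have := mul_mem a.2 hmem
    rwa [mul_inv_cancel_left] at this
  rw [← ho]
  refine (index_dvd_of_le hk).trans ?_
  rw [index_ker]
  exact card_subgroup_dvd_card _

end Geo

end Cfsg.Lib.JankoSixCover
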