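import Cfsg.Agent.JankoSixCover.Core
import Cfsg.Agent.JankoFour.Invariant
import Cfsg.Agent.JankoFour.Setting

/-!
Coordinates on the extraspecial group modulo the involution: the generators of the sixfold cover become the standard maps,
commutation and squares are given by the standard forms.
-/

set_option autoImplicit false
set_option maxRecDepth 100000
set_option maxHeartbeats 1000000
set_option linter.style.haveILetI false
set_option linter.unusedSectionVars false

namespace Cfsg.Lib.JankoSixCover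

open Subgroup
open Cfsg.Lib.JankoFour (mv Raw Frame pB qB)
open Cfsg.Lib.JankoFour.Data (gP)

universe u

variable {G : Type u} [Group G] [Finite G]

/-- Coordinates on the extraspecial group modulo the involution. -/
structure Geo (D : Six G) where
  Q : Quot D.H D.E (zpowers D.z)
  xs : ↥D.H
  xs_zp : zpowers (xs : G) = zpowers D.x
  la : ↥D.H
  lb : ↥D.H
  lc : ↥D.H
  memC : (la : G) ∈ D.C ∧ (lb : G) ∈ D.C ∧ (lc : G) ∈ D.C
  f : ℕ → Q.V
  frame : Frame (Q.R xs) (Q.R la) (Q.R lb) (Q.R lc) f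
  sq : ∀ e ∈ D.E, ∀ v < 4096, Q.π e = f v → (e * e = 1 ↔ qB v = false)
  comm : ∀ a ∈ D.E, ∀ b ∈ D.E, ∀ v < 4096, ∀ w < 4096, Q.π a = f v → Q.π b = f w → (Commute a b ↔ pB v w = false)
  ker : ∀ h : ↥D.H, Q.R h = 1 ↔ (h : G) ∈ D.E
  fpf : ∀ v, Q.R xs v = v → v = 0

theorem pow_mod_one {M : Type*} [Monoid M] {m : M} {n k : ℕ} (hm : m ^ n = 1) (hk : k % n = 1) : m ^ k = m := by
  rw [← Nat.div_add_mod k n, hk, pow_succ, pow_mul, hm, one_pow, one_mul]

theorem Six.exists_geo (D : Six G) (h2 : Cfsg.IsCharacteristicTwoType G) : Nonempty (Geo D) := by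
  classical
  haveI : Fact (Nat.Prime 2) := ⟨Nat.prime_two⟩
  obtain ⟨hext, hcard, -, hsq, hcomm, hcen⟩ := D.core_facts h2
  have hX : Cfsg.Lib.LargeExtra.X2 D.E D.z :=
    { mem := D.z_mem, ne := D.z_ne, zz := D.zz, isP := D.E_two, central := fun q hq => D.memH.mp (D.E_le hq)
      comm := fun a ha b hb => (Cfsg.Lib.LargeExtra.mem_zpowers_two D.zz).mp (hcomm a ha b hb)
      sq := hsq, cen := hcen }
  have hzle : zpowers D.z ≤ D.E := zpowers_le.mpr D.z_mem
  have hEH : ∀ h ∈ D.H, ∀ a ∈ D.E, h * a * h⁻¹ ∈ D.E := fun h hh a ha => D.E_conj hh ha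
  have hzH : ∀ h ∈ D.H, ∀ a ∈ zpowers D.z, h * a * h⁻¹ ∈ zpowers D.z := fun h hh a ha => by
    obtain ⟨k, rfl⟩ := mem_zpowers_iff.mp ha
    rw [((D.memH.mp hh).zpow_right k).eq, mul_inv_cancel_right]
    exact zpow_mem (mem_zpowers _) k
  have hzn : ∀ h ∈ D.E, ∀ a ∈ zpowers D.z, h * a * h⁻¹ ∈ zpowers D.z := fun h hh => hzH h (D.E_le hh)
  obtain ⟨Q⟩ := exists_quot hzle hEH hzH hzn
    (fun a ha => (Cfsg.Lib.LargeExtra.mem_zpowers_two D.zz).mpr (hsq a ha)) hcomm
  have two := Q.two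
  have hV : Nat.card Q.V = 4096 := by
    have h := Q.card
    rw [hcard, Nat.card_zpowers, D.oz] at h
    omega
  set xH : ↥D.H := ⟨D.x, D.CH D.xC⟩ with hxH
  have hx3 : xH ^ 3 = 1 := Subtype.ext (by rw [SubgroupClass.coe_pow]; exact D.x3)
  have hfpf : ∀ v, Q.R xH v = v → v = 0 := fun v hv => by
    obtain ⟨e, he, hec, rfl⟩ := Q.fix_lift D.E_two hzle hzH hzn hEH xH hx3 hv
    exact (Q.ker e he).mpr (D.E_inf_C he (D.memC.mpr hec))
  -- the kernel of the action
  have hconj : ∀ (h : ↥D.H), Q.R h = 1 → ∀ e ∈ D.E, (h : G) * e * (h : G)⁻¹ = e ∨ (h : G) * e * (h : G)⁻¹ = D.z * e :=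
    fun h hh e he => by
      have hc := D.E_conj h.2 he
      have hk : (h : G) * e * (h : G)⁻¹ * e⁻¹ ∈ zpowers D.z := by
        rw [← Q.ker _ (mul_mem hc (inv_mem he)), Q.mul _ hc _ (inv_mem he), ← Q.conj h e he, hh, end_one_apply,
          ← Q.mul _ he _ (inv_mem he), mul_inv_cancel, Q.ker _ (one_mem _)]
        exact one_mem _
      rcases (Cfsg.Lib.LargeExtra.mem_zpowers_two D.zz).mp hk with r | r
      · exact Or.inl (mul_inv_eq_one.mp r)
      · exact Or.inr (mul_inv_eq_iff_eq_mul.mp r)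
  have hker : ∀ h : ↥D.H, Q.R h = 1 ↔ (h : G) ∈ D.E := by
    intro h
    constructor
    · intro hh
      let N : Subgroup ↥D.H := Q.R.toHomUnits.ker
      have hNmem : ∀ {k : ↥D.H}, k ∈ N ↔ Q.R k = 1 := fun {k} => by
        rw [MonoidHom.mem_ker, Units.ext_iff, MonoidHom.coe_toHomUnits, Units.val_one]
      have hNP : IsPGroup 2 ↥N := by
        refine IsPGroup.iff_card.mpr ⟨_, Nat.eq_prime_pow_of_unique_prime_dvd Nat.card_pos.ne' fun {p} hp hdvd => ?_⟩
        by_contra hp2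
        haveI : Fact p.Prime := ⟨hp⟩
        obtain ⟨k, hk⟩ := exists_prime_orderOf_dvd_card' (G := ↥N) p hdvd
        have hkp : ((k : ↥D.H) : G) ^ p = 1 := by
          rw [← hk, ← Subgroup.orderOf_coe, ← Subgroup.orderOf_coe]; exact pow_orderOf_eq_one _
        have hodd : Odd p := hp.odd_of_ne_two hp2
        have hkE : ((k : ↥D.H) : G) ∈ D.E := D.cent_E h2 (k : ↥D.H).2 fun e he => by
          refine (mul_inv_eq_iff_eq_mul.mp ((hconj k (hNmem.mp k.2) e he).resolve_right fun r => ?_)).symm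
          have hpow : ∀ n : ℕ, ((k : ↥D.H) : G) ^ n * e * (((k : ↥D.H) : G) ^ n)⁻¹ = D.z ^ n * e := by
            intro n
            induction n with
            | zero => group
            | succ n ih =>
              calc ((k : ↥D.H) : G) ^ (n + 1) * e * (((k : ↥D.H) : G) ^ (n + 1))⁻¹
                  = ((k : ↥D.H) : G) * (((k : ↥D.H) : G) ^ n * e * (((k : ↥D.H) : G) ^ n)⁻¹) *
                    ((k : ↥D.H) : G)⁻¹ := by rw [pow_succ']; group
                _ = ((k : ↥D.H) : G) * D.z ^ n * (((k : ↥D.H) : G))⁻¹ *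
                    (((k : ↥D.H) : G) * e * ((k : ↥D.H) : G)⁻¹) := by rw [ih]; group
                _ = _ := by
                  rw [((D.memH.mp (k : ↥D.H).2).pow_right n).eq, mul_inv_cancel_right, r, pow_succ, mul_assoc]
          have h1 := hpow p
          obtain ⟨m, hm⟩ := hodd
          rw [hkp, show D.z ^ p = D.z by rw [hm, pow_succ, pow_mul, pow_two, D.zz, one_pow, one_mul]] at h1
          exact D.z_ne (mul_eq_right.mp (by rw [← h1]; group))
        obtain ⟨j, hj⟩ := D.E_two ⟨_, hkE⟩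
        have hd : orderOf ((k : ↥D.H) : G) ∣ 2 ^ j := orderOf_dvd_of_pow_eq_one (congrArg Subtype.val hj)
        rw [Subgroup.orderOf_coe, Subgroup.orderOf_coe, hk] at hd
        exact hp2 ((Nat.prime_dvd_prime_iff_eq hp Nat.prime_two).mp (hp.dvd_of_dvd_pow hd))
      exact ⟨h, Cfsg.Lib.Components.le_pCore hNP (hNmem.mpr hh), rfl⟩
    · intro hh
      refine DFunLike.ext _ _ fun v => ?_
      obtain ⟨e, he, rfl⟩ := Q.surj v
      rw [Q.conj h e he, end_one_apply]
      rcases hX.conj_cases hh he with r | r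
      · rw [r]
      · rw [r, Q.mul _ D.z_mem _ he, (Q.ker _ D.z_mem).mpr (mem_zpowers _), zero_add]
  -- lifts of the generators
  obtain ⟨g, -, ha11, ha1, hb5, hc4, hba, hcb, hac, -⟩ := Cfsg.Lib.JankoFour.exists_gens
  let ι := Subgroup.inclusion D.CH
  set w := Q.R xH with hw
  have hw3 : w ^ 3 = 1 := by rw [hw, ← map_pow, hx3, map_one]
  have hRz : ∀ j : ℕ, ∀ hj : D.z ^ j ∈ D.H, Q.R ⟨D.z ^ j, hj⟩ = 1 := fun j hj => (hker _).mpr (pow_mem D.z_mem j)
  have hkey : ∀ l l' : ↥D.C, D.φ l = D.φ l' → ∃ k : ℕ, Q.R (ι l) = Q.R (ι l') * w ^ k := by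
    intro l l' he
    obtain ⟨i, j, hij⟩ := (D.φ_ker (l'⁻¹ * l)).mp (by rw [map_mul, map_inv, he, inv_mul_cancel])
    refine ⟨i, ?_⟩
    have hzj : D.z ^ j ∈ D.H := pow_mem (D.E_le D.z_mem) j
    rw [show ι l = ι l' * (xH ^ i * ⟨D.z ^ j, hzj⟩) from Subtype.ext (by
      show (l : G) = (l' : G) * (((xH ^ i : ↥D.H) : G) * D.z ^ j)
      rw [SubgroupClass.coe_pow, ← hij]; simp [hxH]), map_mul, map_mul, hRz, mul_one, map_pow]
  have hcom : ∀ l : ↥D.C, Commute (Q.R (ι l)) w := fun l =>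
    Commute.map (Subtype.ext (D.memC.mp l.2).eq) Q.R
  have hlift : ∀ (m : Spor.M22) (n k : ℕ), m ^ n = 1 → k % n = 1 → k % 3 = 0 →
      ∃ l : ↥D.C, D.φ l = m ∧ Q.R (ι l) ^ n = 1 := by
    intro m n k hm hkn hk3
    obtain ⟨l, rfl⟩ := D.φ_surj m
    refine ⟨l ^ k, by rw [map_pow, pow_mod_one hm hkn], ?_⟩
    obtain ⟨i, hi⟩ := hkey (l ^ n) 1 (by rw [map_pow, hm, map_one])
    rw [map_one ι, map_one Q.R, one_mul, map_pow, map_pow] at hi
    rw [map_pow, map_pow, ← pow_mul, mul_comm, pow_mul, hi, ← pow_mul, ← Nat.div_add_mod k 3, hk3, add_zero,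
      show i * (3 * (k / 3)) = 3 * (i * (k / 3)) by ring, pow_mul, hw3, one_pow]
  obtain ⟨la, ea, na⟩ := hlift (g 0) 11 12 ha11 rfl rfl
  obtain ⟨lb, eb, nb⟩ := hlift (g 1) 5 6 hb5 rfl rfl
  obtain ⟨lc, ec, nc⟩ := hlift (g 2) 4 9 hc4 rfl rfl
  set a := Q.R (ι la) with hadef
  set b := Q.R (ι lb) with hbdef
  set c := Q.R (ι lc) with hcdef
  have hrel : ∀ (l t : ↥D.C) (n m s : ℕ), D.φ (t * l) = D.φ (l ^ m * t) → Q.R (ι l) ^ n = 1 →
      Q.R (ι t) ^ (s + 1) = 1 → n % 3 ≠ 0 → Q.R (ι t) * Q.R (ι l) = Q.R (ι l) ^ m * Q.R (ι t) := by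
    intro l t n m s he hl ht hn
    obtain ⟨k, hk⟩ := hkey (t * l) (l ^ m * t) he
    rw [map_mul ι, map_mul ι, map_mul Q.R, map_mul Q.R, map_pow ι, map_pow Q.R] at hk
    have hs : SemiconjBy (Q.R (ι t)) (Q.R (ι l)) (Q.R (ι l) ^ m * w ^ k) := by
      show Q.R (ι t) * Q.R (ι l) = Q.R (ι l) ^ m * w ^ k * Q.R (ι t)
      rw [hk, mul_assoc, mul_assoc, ((hcom t).pow_right k).eq]
    have h1 := (hs.pow_right n).eq
    rw [hl, mul_one, ((hcom l).pow_left m |>.pow_right k).mul_pow, ← pow_mul (Q.R (ι l)), mul_comm m n, pow_mul, hl,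
      one_pow, one_mul, ← pow_mul, mul_comm k n] at h1
    have hwk : w ^ (n * k) = 1 := by
      have h := congrArg (· * Q.R (ι t) ^ s) h1.symm
      simpa [mul_assoc, ← pow_succ', ht] using h
    rw [hk, Cfsg.Lib.JankoFour.pow_cancel hw3 hn hwk, mul_one]
  have hraw : Raw w a b c :=
    { two := two
      card := hV
      ww := fun v => hfpf _ (by
        have h := congrArg (fun f : AddMonoid.End Q.V => f v) hw3
        simp only [pow_succ, pow_zero, one_mul, AddMonoid.End.coe_mul, Function.comp_apply, AddMonoid.End.coe_one,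
          id_eq] at h
        rw [map_add, map_add, h]
        abel)
      aw := (hcom la).eq
      bw := (hcom lb).eq
      cw := (hcom lc).eq
      a11 := na
      a1 := fun h => by
        have hE : (la : G) ∈ D.E := (hker _).mp h
        have hz' := D.E_inf_C hE la.2
        refine ha1 (ea.symm.trans ((D.φ_ker la).mpr ?_))
        rcases (Cfsg.Lib.LargeExtra.mem_zpowers_two D.zz).mp hz' with r | r
        · exact ⟨0, 0, by rw [r]; simp⟩
        · exact ⟨0, 1, by rw [r]; simp⟩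
      b5 := nb
      c4 := nc
      ba := hrel la lb 11 4 4 (by rw [map_mul, map_mul, map_pow, ea, eb, hba]) na nb (by norm_num)
      cb := hrel lb lc 5 2 3 (by rw [map_mul, map_mul, map_pow, eb, ec, hcb]) nb nc (by norm_num)
      ac := by
        obtain ⟨k, hk⟩ := hkey ((la * lc) ^ 5) 1 (by rw [map_pow, map_mul, ea, ec, hac, map_one])
        rw [map_one ι, map_one Q.R, one_mul, map_pow ι, map_mul ι, map_pow Q.R, map_mul Q.R] at hk
        exact ⟨k, hk⟩ }
  obtain ⟨xs, hzp, hxfix, f, F⟩ : ∃ xs : ↥D.H, zpowers (xs : G) = zpowers D.x ∧ (∀ v, Q.R xs v = v → v = 0) ∧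
      ∃ f, Frame (Q.R xs) a b c f := by
    obtain ⟨v, hv, h | h⟩ := hraw.exists_eigen
    · exact ⟨xH, rfl, hfpf, hraw.exists_frame h hv⟩
    · refine ⟨xH * xH, ?_, fun v hv => hfpf v ?_, ?_⟩
      · refine le_antisymm (zpowers_le.mpr (mul_mem (mem_zpowers _) (mem_zpowers _))) (zpowers_le.mpr ?_)
        have h4 : ((xH * xH : ↥D.H) : G) * ((xH * xH : ↥D.H) : G) = D.x := by
          show D.x * D.x * (D.x * D.x) = D.x
          rw [← mul_assoc, show D.x * D.x * D.x = 1 by rw [← D.x3]; simp [pow_succ], one_mul]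
        have := mul_mem (mem_zpowers ((xH * xH : ↥D.H) : G)) (mem_zpowers ((xH * xH : ↥D.H) : G))
        rwa [h4] at this
      · conv_lhs => rw [← hv]
        rw [← end_mul_apply, ← map_mul, ← mul_assoc, show xH * xH * xH = 1 by rw [← hx3]; simp [pow_succ], map_one]
        rfl
      · rw [map_mul]; exact hraw.flip.exists_frame h hv
  -- commutation
  choose s hsE hs using Q.surj
  have hclass : ∀ e ∈ D.E, ∀ e' ∈ D.E, Q.π e = Q.π e' → ∀ d, (Commute d D.z) → (Commute e d ↔ Commute e' d) := by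
    intro e he e' he' hee d hd
    have hmem : e⁻¹ * e' ∈ zpowers D.z := by
      rw [← Q.ker _ (mul_mem (inv_mem he) he'), Q.mul _ (inv_mem he) _ he', ← hee,
        ← Q.mul _ (inv_mem he) _ he, inv_mul_cancel, Q.ker _ (one_mem _)]
      exact one_mem _
    obtain ⟨k, hk⟩ := mem_zpowers_iff.mp hmem
    have e1 : e' = e * D.z ^ k := by rw [hk, mul_inv_cancel_left]
    rw [e1]
    exact ⟨fun h => h.mul_left (hd.symm.zpow_left k), fun h => by
      simpa using h.mul_left ((hd.symm.zpow_left k).inv_left)⟩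
  let β : Q.V → Q.V → Bool := fun u v => decide ¬ Commute (s u) (s v)
  have hEz : ∀ e ∈ D.E, Commute e D.z := fun e he => D.memH.mp (D.E_le he)
  have hβ : ∀ p ∈ D.E, ∀ q ∈ D.E, ∀ u v, Q.π p = u → Q.π q = v → (Commute p q ↔ β u v = false) := by
    intro p hp q hq u v hu hv
    simp only [β, decide_eq_false_iff_not, not_not]
    rw [hclass p hp _ (hsE u) (by rw [hu, hs]) q (hEz q hq)]
    exact (Commute.symm_iff.trans (hclass q hq _ (hsE v) (by rw [hv, hs]) _ (hEz _ (hsE u)))).trans Commute.symm_iff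
  have b1 : ∀ u u' v, β (u + u') v = (β u v ^^ β u' v) := fun u u' v => by
    have h0 := hβ _ (mul_mem (hsE u) (hsE u')) _ (hsE v) (u + u') v (by rw [Q.mul _ (hsE u) _ (hsE u'), hs, hs]) (hs v)
    by_cases c1 : Commute (s u) (s v) <;> by_cases c2 : Commute (s u') (s v)
    · rw [h0.mp (c1.mul_left c2)]; simp [β, c1, c2]
    · have : ¬ Commute (s u * s u') (s v) := fun h => c2 (by simpa using c1.inv_left.mul_left h)
      rw [show β (u + u') v = true by simpa using fun h => this (h0.mpr h)]; simp [β, c1, c2]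
    · have : ¬ Commute (s u * s u') (s v) := fun h => c1 (by simpa using h.mul_left c2.inv_left)
      rw [show β (u + u') v = true by simpa using fun h => this (h0.mpr h)]; simp [β, c1, c2]
    · rw [h0.mp (hX.commute_mul (hsE u) (hsE u') (hsE v) c1 c2)]; simp [β, c1, c2]
  have b2 : ∀ u v, β u v = β v u := fun u v => by simp only [β, Commute.symm_iff (a := s u)]
  have b3 : ∀ v, β v v = false := fun v => by simp [β, Commute.refl]
  have hinv : ∀ (h : ↥D.H) u v, β (Q.R h u) (Q.R h v) = β u v := fun h u v => by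
    have hcu := D.E_conj h.2 (hsE u)
    have hcv := D.E_conj h.2 (hsE v)
    have h0 := hβ _ hcu _ hcv (Q.R h u) (Q.R h v) (by rw [← Q.conj h _ (hsE u), hs]) (by rw [← Q.conj h _ (hsE v), hs])
    have h1 := hβ _ (hsE u) _ (hsE v) u v (hs u) (hs v)
    rw [Commute.conj_iff] at h0
    refine Bool.eq_iff_iff.mpr ?_
    rw [← not_iff_not, Bool.not_eq_true, Bool.not_eq_true, ← h0, ← h1]
  have hpB : ∀ x < 4096, ∀ y < 4096, β (f x) (f y) = pB x y := by
    refine F.form_eq β b1 b2 b3 ?_ fun M hM u v => ?_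
    · by_contra! hno
      obtain ⟨⟨p, hp⟩, -⟩ : ∃ p : {e // e ∈ D.E}, True := ⟨⟨D.z, D.z_mem⟩, trivial⟩
      obtain ⟨e, he, -⟩ := Q.surj 0
      have hall : ∀ p ∈ D.E, ∀ q ∈ D.E, Commute p q := fun p hp q hq =>
        (hβ p hp q hq _ _ rfl rfl).mpr (by simpa using hno (Q.π p) (Q.π q))
      have hsub : ∀ p ∈ D.E, p ∈ zpowers D.z := fun p hp =>
        (Cfsg.Lib.LargeExtra.mem_zpowers_two D.zz).mpr (hcen p hp fun q hq => hall q hq p hp)
      have := card_le_of_le (show D.E ≤ zpowers D.z from hsub)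
      rw [hcard, Nat.card_zpowers, D.oz] at this
      norm_num at this
    · rcases hM with rfl | rfl | rfl | rfl <;> exact hinv _ u v
  refine ⟨{
    Q := Q, xs := xs, xs_zp := hzp, la := ι la, lb := ι lb, lc := ι lc, memC := ⟨la.2, lb.2, lc.2⟩, f := f,
    frame := F, ker := hker, fpf := hxfix
    comm := fun p hp q hq v hv w' hw' hu hv' => by rw [hβ p hp q hq _ _ hu hv', hpB v hv w' hw']
    sq := fun e he v hv hev => ?_ }⟩
  have hxv : mv Cfsg.Lib.JankoFour.Data.OM v < 4096 :=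
    Cfsg.Lib.JankoFour.mv_lt (n := 12) Cfsg.Lib.JankoFour.mats_lt.2.2.2.1 v
  set e' := (xs : G) * e * (xs : G)⁻¹ with he'def
  have he' : e' ∈ D.E := D.E_conj xs.2 he
  have hπ' : Q.π e' = f (mv Cfsg.Lib.JankoFour.Data.OM v) := by rw [F.fW v hv, ← hev, Q.conj xs e he]
  have hxs3 : (xs : G) ^ 3 = 1 := by
    obtain ⟨k, hk⟩ := mem_zpowers_iff.mp (hzp ▸ mem_zpowers (xs : G) : (xs : G) ∈ zpowers D.x)
    rw [← hk, ← zpow_natCast, ← zpow_mul, mul_comm, zpow_mul, zpow_natCast, D.x3, one_zpow]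
  set e'' := (xs : G) * e' * (xs : G)⁻¹ with he''def
  have he'' : e'' ∈ D.E := D.E_conj xs.2 he'
  have hsum : Q.π (e * e' * e'') = 0 := by
    refine hxfix _ ?_
    rw [Q.conj xs _ (mul_mem (mul_mem he he') he''),
      show (xs : G) * (e * e' * e'') * (xs : G)⁻¹ = e' * e'' * ((xs : G) * e'' * (xs : G)⁻¹) by
        simp only [he'def, he''def]; group]
    have h3 : (xs : G) * e'' * (xs : G)⁻¹ = e := by
      rw [show (xs : G) * e'' * (xs : G)⁻¹ = (xs : G) ^ 3 * e * ((xs : G) ^ 3)⁻¹ by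
        simp [he''def, he'def, pow_succ, mul_assoc], hxs3]
      group
    rw [h3, Q.mul _ (mul_mem he' he'') _ he, Q.mul _ he' _ he'', Q.mul _ (mul_mem he he') _ he'', Q.mul _ he _ he']
    abel
  have hconj2 : ∀ w : G, w * w = 1 ∨ w * w = D.z → (xs : G) * w * (xs : G)⁻¹ * ((xs : G) * w * (xs : G)⁻¹) = w * w :=
    fun w hw' => by
      rw [show (xs : G) * w * (xs : G)⁻¹ * ((xs : G) * w * (xs : G)⁻¹) = (xs : G) * (w * w) * (xs : G)⁻¹ by group]
      rcases hw' with r | r <;> rw [r]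
      · group
      · rw [(D.memH.mp xs.2).eq, mul_inv_cancel_right]
  have s1 : e' * e' = e * e := hconj2 e (hsq e he)
  have s2 : e'' * e'' = e * e := (hconj2 e' (hsq e' he')).trans s1
  -- the product of the first two has the same square as the third
  have hzc : ∀ p ∈ zpowers D.z, ∀ q ∈ D.E, Commute q p := fun p hp q hq => by
    obtain ⟨k, rfl⟩ := mem_zpowers_iff.mp hp
    exact (hEz q hq).zpow_right k
  have hprod := (Q.ker _ (mul_mem (mul_mem he he') he'')).mp hsum
  have hsame : (e * e') * (e * e') = e * e := by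
    set t := e * e' * e'' with ht
    have hee : e * e' = t * e''⁻¹ := by rw [ht, mul_inv_cancel_right]
    have htt : t * t = 1 := by
      rcases (Cfsg.Lib.LargeExtra.mem_zpowers_two D.zz).mp hprod with r | r <;> rw [r]
      exacts [one_mul 1, D.zz]
    rw [hee, show t * e''⁻¹ * (t * e''⁻¹) = t * (e''⁻¹ * t) * e''⁻¹ by group, (hzc t hprod _ (inv_mem he'')).eq,
      show t * (t * e''⁻¹) * e''⁻¹ = t * t * (e''⁻¹ * e''⁻¹) by group, htt, one_mul, ← mul_inv_rev, s2]
    rcases hsq e he with r | r <;> rw [r]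
    · exact inv_one
    · exact hX.inv_z
  have hiff : qB v = false ↔ Commute e e' := (hβ e he e' he' _ _ hev hπ').trans (by
    rw [hpB v hv _ hxv]; rfl) |>.symm
  rw [hiff]
  constructor
  · intro h1
    have h4 : e * e' * (e * e') = 1 := hsame.trans h1
    calc e * e' = (e * e')⁻¹ := (inv_eq_of_mul_eq_one_right h4).symm
      _ = e'⁻¹ * e⁻¹ := mul_inv_rev _ _
      _ = e' * e := by rw [inv_eq_of_mul_eq_one_right h1, inv_eq_of_mul_eq_one_right (s1.trans h1)]
  · intro hc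
    rw [← hsame, show e * e' * (e * e') = e * (e' * e) * e' by group, ← hc.eq,
      show e * (e * e') * e' = e * e * (e' * e') by group, s1]
    rcases hsq e he with r | r <;> rw [r]
    exacts [one_mul 1, D.zz]

end Cfsg.Lib.JankoSixCover
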