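import Mathlib.Data.Nat.Notation

/-!
Certificates for a few facts on the Mathieu group on 22 points: a conjugating representative for each involution of the
Sylow 2-subgroup and the centraliser of an element of order three.
-/

set_option autoImplicit false

namespace Cfsg.Lib.JankoSixCover.Data

/-- A representative moving the central involution to the given involution. -/
def invRep : List ℕ := [0, 2410, 2141, 0, 212, 0, 0, 0, 1726, 717, 713, 0, 0, 0, 0, 0, 271, 0, 978, 0, 2475, 0, 0, 0, 0, 0, 0, 0, 0, 0, 0, 0, 183, 655, 0, 0, 277, 0, 0, 0, 189, 938, 0, 0, 0, 0, 0, 0, 502, 0, 0, 0, 128, 0, 0, 0, 0, 0, 823, 0, 0, 0, 0, 0, 0, 902, 1233, 0, 35, 0, 0, 0, 193, 151, 838, 0, 0, 0, 0, 0, 223, 0, 372, 0, 939, 0, 0, 0, 0, 0, 0, 0, 0, 0, 0, 0, 649, 159, 0, 0, 1663, 0, 0, 0, 160, 479, 0, 0, 0, 0, 0, 0, 691, 0, 0, 0, 764, 0, 0, 0, 0, 0, 227, 0, 0, 0, 0, 0]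

/-- The centraliser of an element of order three. -/
def centThree : List (ℕ × ℕ) := [(0, 0), (4, 0), (27, 0), (32, 68), (125, 16), (183, 68), (372, 77), (574, 111), (616, 70), (649, 16), (682, 16), (754, 6), (898, 68), (909, 43), (982, 86), (1047, 84), (1119, 49), (1121, 68), (1154, 117), (1455, 115), (1548, 77), (2022, 109), (2092, 47), (2106, 95), (2114, 111), (2177, 119), (2244, 26), (2308, 115), (2338, 90), (2395, 105), (2651, 84), (2964, 68), (3081, 43), (3272, 0), (3300, 101), (3331, 43)]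

end Cfsg.Lib.JankoSixCover.Data
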