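import Cfsg.Agent.Golay.M22Nine
import Cfsg.Agent.JankoFour.ThreeClass
import Cfsg.Agent.JankoSixCover.M22Data

/-!
Facts on the Mathieu group on 22 points: the centralisers of involutions, the normaliser of a Sylow 2-subgroup, the
absence of elementary abelian subgroups of order 32 and the centraliser of an element of order three.
-/

set_option autoImplicit false
set_option maxRecDepth 100000
set_option linter.style.haveILetI false
set_option Elab.async false

namespace Cfsg.Lib.JankoSixCover

open Subgroup Cfsg.Lib.Golay.M22Mult Cfsg.Lib.PermCert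
open Data (invRep centThree)

/-- The number of the central involution of the Sylow 2-subgroup. -/
def u0 : Fin 128 := 64

/-- Membership of a representative in the centraliser. -/
def inC (i : ℕ) : Bool := i == 0 || i == 2333 || i == 3298

/-- A product commutes with a map. -/
def comm3 (a b p : ℕ) : Bool :=
  (List.range 24).all fun x => Nat.beq (ap5 a (ap5 b (ap5 p x))) (ap5 p (ap5 a (ap5 b x)))

theorem u0_facts : um u0 u0 = 0 ∧
    ((List.finRange 128).all fun a => um u0 a == um a u0) = true ∧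
    ((List.finRange 128).all fun a => a == 0 || a == u0 || (List.finRange 128).any fun b => !(um a b == um b a)) = true := by
  decide +kernel

theorem cent_check : ((List.range 3465).all fun i => sqOK (rp i) (upr u0) (upr u0) (rp i) == inC i) = true ∧
    ((List.range 3465).filter inC).length = 3 := by
  decide +kernel

theorem class_check : ((List.finRange 128).all fun u => !(um u u == 0) || u == 0 ||
    (Nat.blt (invRep.getD u.val 0) 3465 && sqOK (rp (invRep.getD u.val 0)) (upr u0) (upr u) (rp (invRep.getD u.val 0)))) = true := by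
  decide +kernel

theorem move_check : ([2333, 3298].all fun i =>
    (List.finRange 128).all fun b => !sqOK (rp i) (upr (1 : Fin 128)) (upr b) (rp i)) = true := by
  decide +kernel

theorem elem_check : ((List.finRange 128).all fun a => !(um a a == 0) || a == 0 || a == u0 ||
    Nat.blt ((List.finRange 128).countP fun c => um c c == 0 && um a c == um c a) 32) = true := by
  decide +kernel

theorem three_check : (centThree.all fun p =>
    Nat.blt p.1 3465 && Nat.blt p.2 128 && comm3 (rp p.1) (upr (Fin.ofNat 128 p.2)) (npr ((1, 0) : V3))) = true ∧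
    centThree.length = 36 ∧ centThree.Nodup := by
  decide +kernel

theorem phi_eq_one {a : Fin 128} (h : phi a = 1) : a = 0 := phi_injective (h.trans phi_zero.symm)

theorem phi_comm_iff {a b : Fin 128} : phi a * phi b = phi b * phi a ↔ um a b = um b a := by
  rw [phi_mul, phi_mul]
  exact ⟨fun h => phi_injective h, fun h => by rw [h]⟩

theorem sq_eq {a b : Fin 128} {i : Fin 3465} :
    repQ i * phi a = phi b * repQ i ↔ sqOK (rp i) (upr a) (upr b) (rp i) = true := by
  constructor
  · intro h
    refine List.all_eq_true.mpr fun x hx => ?_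
    have hx' := List.mem_range.mp hx
    have e := congrArg (fun g => ev g x) h
    simp only [ev_mul] at e
    rw [ev_phi a x hx', ev_repQ i _ (ev_phi a x hx' ▸ ev_lt _ _), ev_repQ i x hx',
      ev_phi b _ (ev_repQ i x hx' ▸ ev_lt _ _)] at e
    rw [e]
    exact Nat.beq_refl _
  · intro h
    refine ev_ext fun x hx => ?_
    rw [ev_mul, ev_mul, ev_phi a x hx, ev_repQ i _ (ev_phi a x hx ▸ ev_lt _ _), ev_repQ i x hx,
      ev_phi b _ (ev_repQ i x hx ▸ ev_lt _ _)]
    exact sqOK_spec h hx

theorem exists_decomp (g : QM) : ∃ (i : Fin 3465) (v : Fin 128), g = repQ i * phi v := by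
  obtain ⟨i, hi⟩ := repQ_bijective.2 (g : QM ⧸ syl)
  obtain ⟨v, hv⟩ := QuotientGroup.eq.mp hi
  exact ⟨i, v, by rw [hv, mul_inv_cancel_left]⟩

theorem decomp_unique {i j : Fin 3465} {v w : Fin 128} (h : repQ i * phi v = repQ j * phi w) : i = j ∧ v = w := by
  have hij : i = j := repQ_bijective.1 (QuotientGroup.eq.mpr
    (show (repQ i)⁻¹ * repQ j ∈ syl from by
      rw [show (repQ i)⁻¹ * repQ j = phi v * (phi w)⁻¹ by
        rw [inv_mul_eq_iff_eq_mul, ← mul_assoc, h, mul_inv_cancel_right]]
      exact mul_mem ⟨v, rfl⟩ (inv_mem ⟨w, rfl⟩)))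
  subst hij
  exact ⟨rfl, phi_injective (mul_left_cancel h)⟩

theorem u0_central (v : Fin 128) : phi v * phi u0 = phi u0 * phi v := by
  refine phi_comm_iff.mpr (Eq.symm ?_)
  exact beq_iff_eq.mp (List.all_eq_true.mp u0_facts.2.1 v (List.mem_finRange v))

theorem mem_cent_u0 (g : QM) : g ∈ centralizer ({phi u0} : Set QM) ↔
    ∃ (i : Fin 3465) (v : Fin 128), g = repQ i * phi v ∧ inC i.val = true := by
  have key : ∀ i : Fin 3465, repQ i * phi u0 = phi u0 * repQ i ↔ inC i.val = true := fun i => by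
    rw [sq_eq, ← beq_iff_eq.mp (List.all_eq_true.mp cent_check.1 i.val (List.mem_range.mpr i.2))]
  rw [mem_centralizer_singleton_iff]
  constructor
  · intro h
    obtain ⟨i, v, rfl⟩ := exists_decomp g
    refine ⟨i, v, rfl, (key i).mp (mul_right_cancel (b := phi v) ?_)⟩
    rw [mul_assoc, ← u0_central, ← mul_assoc, h, mul_assoc]
  · rintro ⟨i, v, rfl, hi⟩
    rw [mul_assoc, u0_central, ← mul_assoc, (key i).mpr hi, mul_assoc]

theorem card_cent_u0 : Nat.card ↥(centralizer ({phi u0} : Set QM)) = 384 := by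
  classical
  have h : Nat.card {i : Fin 3465 // inC i.val = true} = 3 := by
    rw [← cent_check.2, Nat.card_eq_fintype_card, Fintype.card_subtype]
    have hn : ((List.range 3465).filter inC).Nodup := List.Nodup.filter _ List.nodup_range
    rw [← List.toFinset_card_of_nodup hn, ← Finset.card_map Fin.valEmbedding]
    congr 1
  let F : {i : Fin 3465 // inC i.val = true} × Fin 128 → ↥(centralizer ({phi u0} : Set QM)) := fun p =>
    ⟨repQ p.1.1 * phi p.2, (mem_cent_u0 _).mpr ⟨p.1.1, p.2, rfl, p.1.2⟩⟩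
  have hF : Function.Bijective F := by
    refine ⟨fun p q e => ?_, fun g => ?_⟩
    · obtain ⟨e1, e2⟩ := decomp_unique (congrArg Subtype.val e)
      exact Prod.ext (Subtype.ext e1) e2
    · obtain ⟨i, v, e, hi⟩ := (mem_cent_u0 _).mp g.2
      exact ⟨(⟨i, hi⟩, v), Subtype.ext e.symm⟩
  rw [← Nat.card_eq_of_bijective F hF, Nat.card_prod, h, Nat.card_fin]

theorem card_cent_conj {M : Type*} [Group M] {a b : M} (h : IsConj a b) :
    Nat.card ↥(centralizer ({a} : Set M)) = Nat.card ↥(centralizer ({b} : Set M)) := by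
  obtain ⟨g, rfl⟩ := isConj_iff.mp h
  have e : centralizer ({g * a * g⁻¹} : Set M) = (centralizer ({a} : Set M)).map (MulAut.conj g).toMonoidHom := by
    ext r
    rw [mem_centralizer_singleton_iff]
    constructor
    · intro h
      refine ⟨g⁻¹ * r * g, mem_centralizer_singleton_iff.mpr ?_, by show g * (g⁻¹ * r * g) * g⁻¹ = r; group⟩
      calc g⁻¹ * r * g * a = g⁻¹ * (r * (g * a * g⁻¹)) * g := by group
        _ = g⁻¹ * (g * a * g⁻¹ * r) * g := by rw [h]
        _ = _ := by group
    · rintro ⟨s, hs, rfl⟩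
      show g * s * g⁻¹ * (g * a * g⁻¹) = g * a * g⁻¹ * (g * s * g⁻¹)
      rw [SetLike.mem_coe, mem_centralizer_singleton_iff] at hs
      calc g * s * g⁻¹ * (g * a * g⁻¹) = g * (s * a) * g⁻¹ := by group
        _ = g * (a * s) * g⁻¹ := by rw [hs]
        _ = _ := by group
  rw [e, card_map_of_injective (MulAut.conj g).injective]

/-- The Sylow 2-subgroup as a Sylow subgroup. -/
noncomputable def sylTwo : Sylow 2 QM :=
  haveI : Fact (Nat.Prime 2) := ⟨Nat.prime_two⟩
  Sylow.ofCard syl (by
    rw [card_syl, card_QM, show (443520 : ℕ) = 2 ^ 7 * 3465 by norm_num,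
      Nat.factorization_mul (by norm_num) (by norm_num), Finsupp.add_apply,
      Nat.factorization_eq_zero_of_not_dvd (by norm_num : ¬ 2 ∣ 3465),
      Nat.prime_two.factorization_pow, Finsupp.single_eq_same]
    norm_num)

theorem exists_conj_into_syl {R : Subgroup QM} (hR : IsPGroup 2 ↥R) :
    ∃ g : QM, ∀ r ∈ R, g * r * g⁻¹ ∈ syl := by
  haveI : Fact (Nat.Prime 2) := ⟨Nat.prime_two⟩
  obtain ⟨T, hT⟩ := hR.exists_le_sylow
  obtain ⟨g, hg⟩ := MulAction.exists_smul_eq QM T sylTwo
  refine ⟨g, fun r hr => ?_⟩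
  have h : g * r * g⁻¹ ∈ (sylTwo : Subgroup QM) := by
    rw [← hg]; exact ⟨r, hT hr, rfl⟩
  exact h

theorem qm_cent_invol {v : QM} (hv : v * v = 1) (hv1 : v ≠ 1) :
    Nat.card ↥(centralizer ({v} : Set QM)) = 384 := by
  haveI : Fact (Nat.Prime 2) := ⟨Nat.prime_two⟩
  obtain ⟨g, hg⟩ := exists_conj_into_syl (R := zpowers v) (IsPGroup.of_card (n := 1) (by
    rw [Nat.card_zpowers, orderOf_eq_prime (by rw [pow_two]; exact hv) hv1, pow_one]))
  obtain ⟨u, hu⟩ := hg v (mem_zpowers v)
  have huu : um u u = 0 := phi_eq_one (by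
    rw [← phi_mul, hu, show g * v * g⁻¹ * (g * v * g⁻¹) = g * (v * v) * g⁻¹ by group, hv, mul_one, mul_inv_cancel])
  have hu0 : u ≠ 0 := fun e => hv1 (by
    rw [e, phi_zero, eq_comm, conj_eq_one_iff] at hu; exact hu)
  have h := List.all_eq_true.mp class_check u (List.mem_finRange u)
  simp only [huu, beq_self_eq_true, Bool.not_true, Bool.false_or, Bool.or_eq_true, Bool.and_eq_true, Nat.blt,
    Nat.ble_eq, beq_iff_eq] at h
  obtain ⟨h1, h2⟩ := h.resolve_left hu0
  have e := sq_eq.mpr (show sqOK (rp (⟨_, h1⟩ : Fin 3465).val) (upr u0) (upr u) (rp (⟨_, h1⟩ : Fin 3465).val) = true from h2)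
  rw [← card_cent_u0]
  refine card_cent_conj ?_
  refine IsConj.trans (isConj_iff.mpr ⟨g, hu.symm⟩) (IsConj.symm (isConj_iff.mpr ⟨repQ ⟨_, h1⟩, ?_⟩))
  rw [e, mul_inv_cancel_right]

theorem qm_two_self {g : QM} (hg : g ^ 3 = 1) (hn : ∀ s ∈ syl, g * s * g⁻¹ ∈ syl) : g = 1 := by
  have hc : g ∈ centralizer ({phi u0} : Set QM) := by
    obtain ⟨w, hw⟩ := hn (phi u0) ⟨u0, rfl⟩
    have hwc : ∀ b : Fin 128, um w b = um b w := fun b => by
      refine phi_comm_iff.mp ?_
      let f : ↥syl → ↥syl := fun s => ⟨g * s * g⁻¹, hn s s.2⟩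
      have hf : Function.Surjective f := Finite.surjective_of_injective fun a b h =>
        Subtype.ext (mul_left_cancel (mul_right_cancel (congrArg Subtype.val h)))
      obtain ⟨⟨s, a, rfl⟩, hs⟩ := hf ⟨phi b, b, rfl⟩
      rw [← (show g * phi a * g⁻¹ = phi b from congrArg Subtype.val hs), hw,
        show g * phi u0 * g⁻¹ * (g * phi a * g⁻¹) = g * (phi u0 * phi a) * g⁻¹ by group,
        show g * phi a * g⁻¹ * (g * phi u0 * g⁻¹) = g * (phi a * phi u0) * g⁻¹ by group, u0_central]
    have h := List.all_eq_true.mp u0_facts.2.2 w (List.mem_finRange w)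
    simp only [Bool.or_eq_true, List.any_eq_true, Bool.not_eq_true', beq_eq_false_iff_ne, beq_iff_eq] at h
    rcases h with (e | e) | ⟨b, -, hb⟩
    · exfalso
      rw [e, phi_zero, eq_comm, conj_eq_one_iff] at hw
      exact absurd (phi_eq_one hw) (by decide)
    · rw [mem_centralizer_singleton_iff]
      rw [e] at hw
      exact mul_inv_eq_iff_eq_mul.mp hw.symm
    · exact absurd (hwc b) hb
  obtain ⟨i, v, rfl, hi⟩ := (mem_cent_u0 g).mp hc
  have hmem : ∀ b, ∃ d, repQ i * phi b = phi d * repQ i := fun b => by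
    have h : repQ i * phi b * (repQ i)⁻¹ ∈ syl := by
      have hs : (phi v)⁻¹ * phi b * phi v ∈ syl :=
        mul_mem (mul_mem (inv_mem ⟨v, rfl⟩) ⟨b, rfl⟩) ⟨v, rfl⟩
      have h := hn _ hs
      rwa [show repQ i * phi v * ((phi v)⁻¹ * phi b * phi v) * (repQ i * phi v)⁻¹ = repQ i * phi b * (repQ i)⁻¹ by
        group] at h
    obtain ⟨d, hd⟩ := h
    exact ⟨d, by rw [hd, inv_mul_cancel_right]⟩
  simp only [inC, Bool.or_eq_true, beq_iff_eq] at hi
  rcases hi with (e | e) | e
  · have hr : repQ i = 1 := ev_ext fun x hx => by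
      rw [ev_repQ i x hx, ev_one hx, e]
      exact rep_zero ⟨x, hx⟩
    rw [hr, one_mul] at hg ⊢
    have h2 : phi v ^ 2 ^ 7 = 1 := by
      have := pow_card_eq_one' (x := (⟨phi v, v, rfl⟩ : ↥syl))
      rw [card_syl] at this
      exact congrArg Subtype.val this
    rw [← orderOf_eq_one_iff]
    exact Nat.eq_one_of_dvd_coprimes (Nat.Coprime.pow_left 7 (by norm_num : Nat.Coprime 2 3))
      (orderOf_dvd_of_pow_eq_one h2) (orderOf_dvd_of_pow_eq_one hg)
  all_goals
    exfalso
    obtain ⟨d, hd⟩ := hmem 1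
    rw [sq_eq, e] at hd
    have h := List.all_eq_true.mp (List.all_eq_true.mp move_check i.val (by simp [e])) d (List.mem_finRange d)
    rw [e] at h
    rw [hd] at h
    exact Bool.false_ne_true h

theorem qm_no_thirtytwo {R : Subgroup QM} (hc : Nat.card ↥R = 32) (he : ∀ a ∈ R, a * a = 1) : False := by
  classical
  haveI : Fact (Nat.Prime 2) := ⟨Nat.prime_two⟩
  obtain ⟨g, hg⟩ := exists_conj_into_syl (R := R) (IsPGroup.of_card (n := 5) (by rw [hc]; norm_num))
  choose u hu using fun r : ↥R => hg r r.2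
  have hinj : Function.Injective u := fun r s e => Subtype.ext (mul_left_cancel (mul_right_cancel (
    (hu r).symm.trans (e ▸ hu s))))
  have hinvol : ∀ r : ↥R, um (u r) (u r) = 0 := fun r => phi_eq_one (by
    rw [← phi_mul, hu, show g * r * g⁻¹ * (g * r * g⁻¹) = g * (r * r) * g⁻¹ by group, he r r.2, mul_one, mul_inv_cancel])
  have hcomm : ∀ r s : ↥R, um (u r) (u s) = um (u s) (u r) := fun r s => phi_comm_iff.mp (by
    have hrs : (r : QM) * s = s * r := by
      have h : (r : QM) * s * ((r : QM) * s) = 1 := he _ (mul_mem r.2 s.2)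
      have h1 := he _ r.2
      have h2 := he _ s.2
      calc (r : QM) * s = (r : QM) * s * ((r : QM) * s * ((r : QM) * s))⁻¹ := by rw [h, inv_one, mul_one]
        _ = (s : QM)⁻¹ * (r : QM)⁻¹ := by group
        _ = s * r := by rw [inv_eq_of_mul_eq_one_right h1, inv_eq_of_mul_eq_one_right h2]
    rw [hu, hu, show g * r * g⁻¹ * (g * s * g⁻¹) = g * (r * s) * g⁻¹ by group, hrs]
    group)
  obtain ⟨r, hr⟩ : ∃ r, u r ∉ ({0, u0} : Finset (Fin 128)) := by
    by_contra! h
    have := Nat.card_le_card_of_injective (fun r => (⟨u r, h r⟩ : ↥({0, u0} : Finset (Fin 128))))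
      fun a b e => hinj (congrArg Subtype.val e)
    rw [hc, Nat.card_eq_fintype_card, Fintype.card_coe] at this
    exact absurd this (by decide)
  simp only [Finset.mem_insert, Finset.mem_singleton, not_or] at hr
  have h := List.all_eq_true.mp elem_check (u r) (List.mem_finRange _)
  simp only [hinvol, beq_self_eq_true, Bool.not_true, Bool.false_or, Bool.or_eq_true, beq_iff_eq, Nat.blt,
    Nat.ble_eq] at h
  rcases h with (h | h) | h
  · exact hr.1 h
  · exact hr.2 h
  · have hle : Nat.card ↥R ≤ (List.finRange 128).countP fun c => um c c == 0 && um (u r) c == um c (u r) := by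
      rw [List.countP_eq_length_filter, ← List.toFinset_card_of_nodup (List.Nodup.filter _ (List.nodup_finRange 128)),
        ← Fintype.card_coe, ← Nat.card_eq_fintype_card]
      refine Nat.card_le_card_of_injective (fun s => ⟨u s, ?_⟩) fun a b e => hinj (congrArg Subtype.val e)
      simp [hinvol, hcomm]
    omega

theorem qm_three_cent : 36 ≤ Nat.card ↥(centralizer ({psi (Multiplicative.ofAdd ((1, 0) : V3))} : Set QM)) := by
  classical
  obtain ⟨hall, hlen, hnd⟩ := three_check
  have hmem : ∀ p : ↥centThree.toFinset, p.1.1 < 3465 ∧ p.1.2 < 128 ∧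
      comm3 (rp p.1.1) (upr (Fin.ofNat 128 p.1.2)) (npr ((1, 0) : V3)) = true := fun p => by
    have h := List.all_eq_true.mp hall p.1 (List.mem_toFinset.mp p.2)
    simp only [Bool.and_eq_true, Nat.blt, Nat.ble_eq] at h
    exact ⟨h.1.1, h.1.2, h.2⟩
  let F : ↥centThree.toFinset → ↥(centralizer ({psi (Multiplicative.ofAdd ((1, 0) : V3))} : Set QM)) := fun p =>
    ⟨repQ ⟨p.1.1, (hmem p).1⟩ * phi (Fin.ofNat 128 p.1.2), mem_centralizer_singleton_iff.mpr (ev_ext fun x hx => by
      have e : ∀ y < 24, ev (repQ ⟨p.1.1, (hmem p).1⟩ * phi (Fin.ofNat 128 p.1.2)) y =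
          ap5 (rp p.1.1) (ap5 (upr (Fin.ofNat 128 p.1.2)) y) := fun y hy => by
        rw [ev_mul, ev_phi _ y hy, ev_repQ _ _ (ev_phi _ y hy ▸ ev_lt _ _)]
      show ev (_ * psiFun _) x = ev (psiFun _ * _) x
      rw [ev_mul (repQ _ * phi _) (psiFun _), ev_mul (psiFun _) (repQ _ * phi _), ev_psi _ x hx,
        e _ (ev_psi _ x hx ▸ ev_lt _ _), ev_psi _ _ (ev_lt _ _), e x hx]
      exact Nat.eq_of_beq_eq_true (List.all_eq_true.mp (hmem p).2.2 x (List.mem_range.mpr hx)))⟩
  have hF : Function.Injective F := fun p q e => by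
    obtain ⟨e1, e2⟩ := decomp_unique (congrArg Subtype.val e)
    have h2 := congrArg Fin.val e2
    simp only [Fin.val_ofNat, Nat.mod_eq_of_lt (hmem p).2.1, Nat.mod_eq_of_lt (hmem q).2.1] at h2
    exact Subtype.ext (Prod.ext (Fin.mk.inj_iff.mp e1) h2)
  have h := Nat.card_le_card_of_injective F hF
  rwa [Nat.card_eq_fintype_card, Fintype.card_coe, List.toFinset_card_of_nodup hnd, hlen] at h

section Transfer

set_option linter.unusedSectionVars false
variable {M : Type*} [Group M] [Finite M] (e : QM ≃* M)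

include e

theorem cent_invol {v : M} (hv : v * v = 1) (hv1 : v ≠ 1) : Nat.card ↥(centralizer ({v} : Set M)) = 384 := by
  rw [← qm_cent_invol (v := e.symm v) (by rw [← map_mul, hv, map_one]) fun h => hv1 (by
    simpa using congrArg e h)]
  refine Nat.card_congr
    { toFun := fun g => ⟨e.symm g, mem_centralizer_singleton_iff.mpr (by
        rw [← map_mul, ← map_mul, mem_centralizer_singleton_iff.mp g.2])⟩
      invFun := fun g => ⟨e g, mem_centralizer_singleton_iff.mpr (e.symm.injective (by
        rw [map_mul, map_mul, e.symm_apply_apply, mem_centralizer_singleton_iff.mp g.2]))⟩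
      left_inv := fun g => Subtype.ext (e.apply_symm_apply _)
      right_inv := fun g => Subtype.ext (e.symm_apply_apply _) }

theorem two_self {R : Subgroup M} (hR : Nat.card ↥R = 128) {g : M} (hg : g ^ 3 = 1)
    (hn : g ∈ normalizer (R : Set M)) : g = 1 := by
  haveI : Fact (Nat.Prime 2) := ⟨Nat.prime_two⟩
  obtain ⟨k, hk⟩ := exists_conj_into_syl (R := R.map e.symm.toMonoidHom) (IsPGroup.of_card (n := 7) (by
    rw [card_map_of_injective e.symm.injective, hR]; norm_num))
  have heq : (R.map e.symm.toMonoidHom).map (MulAut.conj k).toMonoidHom = syl := by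
    refine eq_of_le_of_card_ge ?_ (by
      rw [card_syl, card_map_of_injective (MulAut.conj k).injective, card_map_of_injective e.symm.injective, hR])
    rintro _ ⟨r, hr, rfl⟩
    exact hk r hr
  have h := qm_two_self (g := k * e.symm g * k⁻¹) (by rw [conj_pow, ← map_pow, hg, map_one, mul_one, mul_inv_cancel])
    fun s hs => by
      rw [← heq] at hs ⊢
      obtain ⟨_, ⟨r, hr, rfl⟩, rfl⟩ := hs
      refine ⟨e.symm (g * r * g⁻¹), ⟨_, (mem_normalizer_iff.mp hn r).mp hr, rfl⟩, ?_⟩
      show k * e.symm (g * r * g⁻¹) * k⁻¹ = k * e.symm g * k⁻¹ * (k * e.symm r * k⁻¹) * (k * e.symm g * k⁻¹)⁻¹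
      rw [map_mul, map_mul, map_inv]; group
  rw [conj_eq_one_iff] at h
  simpa using congrArg e h

theorem no_thirtytwo {R : Subgroup M} (hc : Nat.card ↥R = 32) (he : ∀ a ∈ R, a * a = 1) : False :=
  qm_no_thirtytwo (R := R.map e.symm.toMonoidHom) (by rw [card_map_of_injective e.symm.injective, hc]) (by
    rintro _ ⟨r, hr, rfl⟩
    show e.symm r * e.symm r = 1
    rw [← map_mul, he r hr, map_one])

theorem three_cent {g : M} (hg : g ^ 3 = 1) (hg1 : g ≠ 1) : 36 ≤ Nat.card ↥(centralizer ({g} : Set M)) := by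
  have hne : psi (Multiplicative.ofAdd ((1, 0) : V3)) ≠ 1 := fun h => by
    have h' := psi_injective (h.trans (map_one psi).symm)
    exact absurd (congrArg Multiplicative.toAdd h') (by decide)
  have h3 : psi (Multiplicative.ofAdd ((1, 0) : V3)) ^ 3 = 1 := by
    rw [← map_pow, ← ofAdd_nsmul, Cfsg.Lib.JankoFour.V3_three, ofAdd_zero, map_one]
  refine le_trans qm_three_cent (le_of_eq ?_)
  rw [card_cent_conj (Cfsg.Lib.JankoFour.sylow_three_class e hg hg1 (by rw [← map_pow, h3, map_one])
    fun h => hne (e.injective (h.trans (map_one e).symm)))]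
  refine Nat.card_congr
    { toFun := fun g => ⟨e g, mem_centralizer_singleton_iff.mpr (by
        rw [← map_mul, ← map_mul, mem_centralizer_singleton_iff.mp g.2])⟩
      invFun := fun g => ⟨e.symm g, mem_centralizer_singleton_iff.mpr (e.injective (by
        rw [map_mul, map_mul, e.apply_symm_apply, mem_centralizer_singleton_iff.mp g.2]))⟩
      left_inv := fun g => Subtype.ext (e.symm_apply_apply _)
      right_inv := fun g => Subtype.ext (e.apply_symm_apply _) }

theorem no_nine {g : M} (hg : g ^ 9 = 1) : g ^ 3 = 1 := by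
  haveI : Fact (Nat.Prime 3) := ⟨Nat.prime_three⟩
  have hM : (Nat.card M).factorization 3 = 2 := by
    rw [← Nat.card_congr e.toEquiv, card_QM, show (443520 : ℕ) = 3 ^ 2 * 49280 by norm_num,
      Nat.factorization_mul (by norm_num) (by norm_num), Finsupp.add_apply,
      Nat.factorization_eq_zero_of_not_dvd (by norm_num : ¬ 3 ∣ 49280),
      Nat.prime_three.factorization_pow, Finsupp.single_eq_same, add_zero]
  let S : Sylow 3 M := Sylow.ofCard (psi.range.map e.toMonoidHom)
    (by rw [card_map_of_injective e.injective, Cfsg.Lib.JankoFour.card_psi, hM]; rfl)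
  have hg9 : IsPGroup 3 ↥(zpowers g) := fun x => ⟨2, by
    obtain ⟨k, hk⟩ := mem_zpowers_iff.mp x.2
    refine Subtype.ext ?_
    rw [SubgroupClass.coe_pow, ← hk, ← zpow_natCast (g ^ k), ← zpow_mul, mul_comm, zpow_mul, zpow_natCast]
    show (g ^ (3 ^ 2)) ^ k = 1
    rw [show (3 : ℕ) ^ 2 = 9 by norm_num, hg, one_zpow]⟩
  obtain ⟨T, hT⟩ := hg9.exists_le_sylow
  obtain ⟨k, hk⟩ := MulAction.exists_smul_eq M T S
  have h : k * g * k⁻¹ ∈ (S : Subgroup M) := by rw [← hk]; exact ⟨g, hT (mem_zpowers g), rfl⟩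
  obtain ⟨_, ⟨v, rfl⟩, he⟩ := h
  have h3 : (k * g * k⁻¹) ^ 3 = 1 := by
    rw [← he]
    show (e (psi v)) ^ 3 = 1
    rw [← map_pow, ← map_pow, show v ^ 3 = 1 from Multiplicative.toAdd.injective (by
      rw [toAdd_pow]; exact Cfsg.Lib.JankoFour.V3_three _), map_one, map_one]
  rwa [conj_pow, conj_eq_one_iff] at h3

end Transfer

/-- The certified group is the frozen one. -/
noncomputable def qmEquiv : QM ≃* ↥Cfsg.Spor.M22 := MulEquiv.subgroupCongr Cfsg.Lib.Golay.M22_eq.symm

end Cfsg.Lib.JankoSixCover
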