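import Cfsg.Agent.JankoSixCover.Weak
import Cfsg.Agent.JankoFour.Reduce.Types

/-!
The subgroup of order three is normal in the centraliser of the involution modulo its core, so the group has Janko-four
type.
-/

set_option autoImplicit false
set_option maxRecDepth 100000
set_option maxHeartbeats 1000000
set_option linter.style.haveILetI false
set_option linter.unusedSectionVars false

namespace Cfsg.Lib.JankoSixCover

open Subgroup
open scoped commutatorElement

universe u

variable {G : Type u} [Group G] [Finite G]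

/-- A subgroup of a point stabiliser whose nontrivial elements fix only that point. -/
theorem free_dvd {Γ : Type*} [Group Γ] [Finite Γ] (N P : Subgroup Γ) (hPN : P ≤ N)
    (hfix : ∀ s ∈ P, s ≠ 1 → ∀ k : Γ, k⁻¹ * s * k ∈ N → k ∈ N) :
    Nat.card ↥P ∣ N.index + (Nat.card ↥P - 1) := by
  classical
  haveI := Fintype.ofFinite ↥P
  haveI := Fintype.ofFinite (Γ ⧸ N)
  haveI := Fintype.ofFinite (MulAction.orbitRel.Quotient ↥P (Γ ⧸ N))
  have hB := MulAction.sum_card_fixedBy_eq_card_orbits_mul_card_group ↥P (Γ ⧸ N)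
  rw [Fintype.sum_eq_add_sum_compl (1 : ↥P)] at hB
  have h1 : Fintype.card (MulAction.fixedBy (Γ ⧸ N) (1 : ↥P)) = N.index := by
    rw [index_eq_card, ← Nat.card_eq_fintype_card]
    exact Nat.card_congr (Equiv.subtypeUnivEquiv fun x => one_smul _ x)
  have h2 : ∀ s ∈ ({1}ᶜ : Finset ↥P), Fintype.card (MulAction.fixedBy (Γ ⧸ N) s) = 1 := by
    intro s hs
    rw [Finset.mem_compl, Finset.mem_singleton] at hs
    refine Fintype.card_eq_one_iff.mpr ⟨⟨((1 : Γ) : Γ ⧸ N), ?_⟩, ?_⟩
    · show (((s : Γ) * 1 : Γ) : Γ ⧸ N) = ((1 : Γ) : Γ ⧸ N)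
      rw [mul_one, QuotientGroup.eq, mul_one]
      exact inv_mem (hPN s.2)
    · rintro ⟨x, hx⟩
      obtain ⟨k, rfl⟩ := QuotientGroup.mk_surjective x
      have hx' : (((s : Γ) * k : Γ) : Γ ⧸ N) = (k : Γ ⧸ N) := hx
      refine Subtype.ext (QuotientGroup.eq.mpr ?_)
      rw [mul_one]
      refine inv_mem (hfix s s.2 (fun e => hs (Subtype.ext e)) k ?_)
      have h := inv_mem (QuotientGroup.eq.mp hx')
      rwa [show ((((s : Γ) * k)⁻¹ * k))⁻¹ = k⁻¹ * (s : Γ) * k by group] at h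
  rw [h1, Finset.sum_congr rfl h2, Finset.sum_const, smul_eq_mul, mul_one, Finset.card_compl, Finset.card_singleton,
    ← Nat.card_eq_fintype_card, ← Nat.card_eq_fintype_card] at hB
  exact ⟨_, hB.trans (mul_comm _ _)⟩

theorem arith_step : ((List.range 24).all fun i => [1, 5, 17, 31, 85, 155, 527, 2635].all fun b =>
    !(2 ^ i * b % 2079 == 1) || (i == 0 && b == 1)) = true ∧
    ((List.range 2636).all fun b => !(2635 % b == 0) || [1, 5, 17, 31, 85, 155, 527, 2635].contains b) = true := by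
  decide +kernel

theorem arith {n : ℕ} (hn : n ∣ 2 ^ 23 * 3 ^ 5 * 5 * 7 * 17 * 31) (h27 : n % 27 = 1) (h7 : n % 7 = 1)
    (h11 : n % 11 = 1) : n = 1 := by
  have hc3 : n.Coprime (3 ^ 5) := Nat.Coprime.pow_right 5 ((Nat.prime_three.coprime_iff_not_dvd.mpr (by omega)).symm)
  have hc7 : n.Coprime 7 := ((by norm_num : Nat.Prime 7).coprime_iff_not_dvd.mpr (by omega)).symm
  have h1 : n ∣ 2 ^ 23 * 2635 := by
    have h2 : n ∣ 3 ^ 5 * (7 * (2 ^ 23 * 2635)) := by
      rw [show (3 : ℕ) ^ 5 * (7 * (2 ^ 23 * 2635)) = 2 ^ 23 * 3 ^ 5 * 5 * 7 * 17 * 31 by norm_num]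
      exact hn
    exact hc7.dvd_of_dvd_mul_left (hc3.dvd_of_dvd_mul_left h2)
  obtain ⟨a, b, ha, hb, rfl⟩ := exists_dvd_and_dvd_of_dvd_mul h1
  obtain ⟨i, hi, rfl⟩ := (Nat.dvd_prime_pow Nat.prime_two).mp ha
  have hbl : b ∈ [1, 5, 17, 31, 85, 155, 527, 2635] := by
    have h := List.all_eq_true.mp arith_step.2 b (List.mem_range.mpr (Nat.lt_succ_of_le (Nat.le_of_dvd (by norm_num) hb)))
    simpa [Nat.mod_eq_zero_of_dvd hb, Nat.dvd_iff_mod_eq_zero] using h
  have h := List.all_eq_true.mp (List.all_eq_true.mp arith_step.1 i (List.mem_range.mpr (by omega))) b hbl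
  simp only [Bool.or_eq_true, Bool.not_eq_true', beq_eq_false_iff_ne, Bool.and_eq_true, beq_iff_eq] at h
  rcases h with h | ⟨rfl, rfl⟩
  · omega
  · rfl

namespace Six

variable (D : Six G)

include D in
theorem type_four (h2 : Cfsg.IsCharacteristicTwoType G) : Cfsg.IsOfJankoFourType G := by
  classical
  obtain ⟨hext, hcardE, hEy, -⟩ := D.core_facts h2
  obtain ⟨P⟩ := D.exists_geo h2
  haveI hnE : (D.E.subgroupOf D.H).Normal :=
    ⟨fun a ha h => mem_subgroupOf.mpr (D.E_conj h.2 (mem_subgroupOf.mp ha))⟩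
  set q := P.q with hq
  set x1 := q P.xs with hx1
  have hxsC : (P.xs : G) ∈ D.C := P.mem_C_iff.mpr (Commute.refl _)
  have hxsE : (P.xs : G) ∉ D.E := by
    intro h
    have hx : D.x ∈ D.E := (zpowers_le.mpr h) (P.xs_zp.symm ▸ mem_zpowers D.x)
    rcases (Cfsg.Lib.LargeExtra.mem_zpowers_two D.zz).mp (D.E_inf_C hx D.xC) with e | e
    · exact D.x_ne e
    · have := D.ox; rw [e, D.oz] at this; norm_num at this
  have hx13 : x1 ^ 3 = 1 := by rw [hx1, ← map_pow, P.xs3, map_one]
  have hx1ne : x1 ≠ 1 := fun e => hxsE (P.q_eq_one.mp e)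
  haveI : Fact (Nat.Prime 3) := ⟨Nat.prime_three⟩
  have hXcard : Nat.card ↥P.Xb = 3 := by rw [Nat.card_zpowers]; exact orderOf_eq_prime hx13 hx1ne
  set N := normalizer (P.Xb : Set D.Hb) with hN
  have hXcases : ∀ w ∈ P.Xb, w = 1 ∨ w = x1 ∨ w = x1⁻¹ := fun w hw =>
    Cfsg.Lib.JankoFour.pow_three_cases (orderOf_eq_prime hx13 hx1ne) hw
  have memN : ∀ {w : D.Hb}, w ∈ N ↔ w * x1 * w⁻¹ ∈ P.Xb := fun {w} => by
    refine ⟨fun h => (mem_normalizer_iff.mp h x1).mp (mem_zpowers _), fun h => ?_⟩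
    refine Subgroup.mem_normalizer_fintype fun a ha => ?_
    rcases hXcases a ha with rfl | rfl | rfl
    · simp
    · exact h
    · rw [← conj_inv]; exact inv_mem h
  -- the centraliser of the subgroup of order three
  set C' := D.C.subgroupOf D.H with hC'
  set Cb := C'.map q with hCb
  have hCbcent : Cb = centralizer ({x1} : Set D.Hb) := by
    refine le_antisymm ?_ fun w hw => ?_
    · rintro _ ⟨k, hk, rfl⟩
      exact mem_centralizer_singleton_iff.mpr (P.q_comm_C (mem_subgroupOf.mp hk)).eq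
    · obtain ⟨h, rfl⟩ := QuotientGroup.mk'_surjective (D.E.subgroupOf D.H) w
      obtain ⟨k, hk, he⟩ := P.lift_C (mem_centralizer_singleton_iff.mp hw : Commute (q h) x1)
      exact ⟨k, mem_subgroupOf.mpr hk, he⟩
  have hC'card : Nat.card ↥C' = 2661120 := by
    rw [hC', Nat.card_congr (subgroupOfEquivOfLe D.CH).toEquiv, D.cardC]
  have hCbcard : Nat.card ↥Cb = 1330560 := by
    have h := card_eq_card_quotient_mul_card_subgroup (q.subgroupMap C').ker
    rw [Nat.card_congr (QuotientGroup.quotientKerEquivOfSurjective _ (q.subgroupMap_surjective C')).toEquiv,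
      hC'card] at h
    have hk : Nat.card ↥(q.subgroupMap C').ker = 2 := by
      rw [← D.oz, ← Nat.card_zpowers]
      refine Nat.card_congr
        { toFun := fun k => ⟨((k : ↥C') : ↥D.H), D.E_inf_C (P.q_eq_one.mp (congrArg Subtype.val (MonoidHom.mem_ker.mp k.2)))
            (mem_subgroupOf.mp (k : ↥C').2)⟩
          invFun := fun e => ⟨⟨⟨e, D.E_le ((zpowers_le.mpr D.z_mem) e.2)⟩,
              mem_subgroupOf.mpr ((zpowers_le.mpr D.zC) e.2)⟩,
            MonoidHom.mem_ker.mpr (Subtype.ext (P.q_eq_one.mpr ((zpowers_le.mpr D.z_mem) e.2)))⟩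
          left_inv := fun k => rfl
          right_inv := fun e => rfl }
    rw [hk] at h
    rw [hCb]
    omega
  obtain ⟨w0, hw0, hw0z⟩ := D.exists_inverting
  have hw0H : w0 ∈ D.H := D.memH.mpr hw0z
  set w1 := q ⟨w0, hw0H⟩ with hw1
  have hw1x : w1 * x1 * w1⁻¹ = x1⁻¹ := by
    rw [hw1, hx1, ← map_inv, ← map_mul, ← map_mul, ← map_inv]
    congr 1
    obtain ⟨k, hk⟩ := mem_zpowers_iff.mp (P.xs_zp ▸ mem_zpowers (P.xs : G) : (P.xs : G) ∈ zpowers D.x)
    refine Subtype.ext ?_
    show w0 * (P.xs : G) * w0⁻¹ = (P.xs : G)⁻¹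
    rw [← hk, ← conj_zpow, hw0, inv_zpow]
  have hCbN : Cb ≤ N := fun k hk => by
    rw [hCbcent, mem_centralizer_singleton_iff] at hk
    rw [memN, hk, mul_inv_cancel_right]
    exact mem_zpowers _
  have hNcases : ∀ k ∈ N, k ∈ Cb ∨ k * x1 * k⁻¹ = x1⁻¹ := fun k hk => by
    rcases hXcases _ (memN.mp hk) with e | e | e
    · exact absurd (conj_eq_one_iff.mp e) hx1ne
    · left; rw [hCbcent, mem_centralizer_singleton_iff]; exact mul_inv_eq_iff_eq_mul.mp e
    · exact Or.inr e
  have hne_inv : x1⁻¹ ≠ x1 := fun e => hx1ne (by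
    calc x1 = x1 ^ 3 * (x1⁻¹ * x1⁻¹) := by group
      _ = 1 := by
        rw [hx13, one_mul]
        nth_rewrite 1 [e]
        exact mul_inv_cancel x1)
  have hidx2 : (Cb.subgroupOf N).index = 2 := by
    refine index_eq_two_iff_exists_notMem_and.mpr ⟨⟨w1, memN.mpr (hw1x ▸ inv_mem (mem_zpowers _))⟩, fun h => ?_,
      fun b => ?_⟩
    · have h' := mem_subgroupOf.mp h
      rw [hCbcent, mem_centralizer_singleton_iff] at h'
      have h'' : w1 * x1 = x1 * w1 := h'
      rw [h'', mul_inv_cancel_right] at hw1x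
      exact hne_inv hw1x.symm
    · rcases hNcases b b.2 with e | e
      · exact Or.inr (mem_subgroupOf.mpr e)
      · refine Or.inl (mem_subgroupOf.mpr ?_)
        rw [hCbcent, mem_centralizer_singleton_iff]
        show (b : D.Hb) * w1 * x1 = x1 * ((b : D.Hb) * w1)
        rw [← mul_inv_eq_iff_eq_mul]
        calc (b : D.Hb) * w1 * x1 * ((b : D.Hb) * w1)⁻¹ = (b : D.Hb) * (w1 * x1 * w1⁻¹) * (b : D.Hb)⁻¹ := by group
          _ = x1 := by rw [hw1x, ← conj_inv, e, inv_inv]
  have hNcard : Nat.card ↥N = 2661120 := by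
    have h := (Cb.subgroupOf N).card_mul_index
    rw [Nat.card_congr (subgroupOfEquivOfLe hCbN).toEquiv, hCbcard, hidx2] at h
    omega
  -- orbits
  have hback : ∀ h : ↥D.H, q (h * P.xs * h⁻¹) ∈ P.Xb → q h ∈ N := fun h hh => by
    rw [memN, hx1, ← map_inv, ← map_mul, ← map_mul]; exact hh
  have hodd : ∀ (s k : D.Hb) (p : ℕ), Odd p → s ^ p = 1 → k⁻¹ * s * k ∈ N → Commute (k * x1 * k⁻¹) s := by
    intro s k p hp hs hk
    have hw : k⁻¹ * s * k ∈ Cb := by
      refine (hNcases _ hk).resolve_right fun e => hne_inv ?_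
      set w := k⁻¹ * s * k with hwdef
      have hwp : w ^ p = 1 := by
        rw [hwdef]
        have h := conj_pow (i := p) (a := k⁻¹) (b := s)
        rw [inv_inv] at h
        rw [h, hs, mul_one, inv_mul_cancel]
      have hpow : ∀ j : ℕ, w ^ j * x1 * (w ^ j)⁻¹ = if Even j then x1 else x1⁻¹ := by
        intro j
        induction j with
        | zero => simp
        | succ j ih =>
          rw [show w ^ (j + 1) * x1 * (w ^ (j + 1))⁻¹ = w * (w ^ j * x1 * (w ^ j)⁻¹) * w⁻¹ by rw [pow_succ']; group, ih]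
          by_cases hj : Even j
          · rw [if_pos hj, if_neg (by simp [Nat.even_add_one, hj]), e]
          · rw [if_neg hj, if_pos (by simp [Nat.even_add_one, hj]), ← conj_inv, e, inv_inv]
      have := hpow p
      rw [hwp, if_neg (Nat.not_even_iff_odd.mpr hp)] at this
      simpa using this.symm
    rw [hCbcent, mem_centralizer_singleton_iff] at hw
    show k * x1 * k⁻¹ * s = s * (k * x1 * k⁻¹)
    calc k * x1 * k⁻¹ * s = k * (x1 * (k⁻¹ * s * k)) * k⁻¹ := by group
      _ = k * (k⁻¹ * s * k * x1) * k⁻¹ := by rw [hw]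
      _ = _ := by group
  have hone : ∀ (g : ↥D.H) (p : ℕ), (g : G) ∈ D.C → p.Prime → Odd p → q g ^ p = 1 → q g ≠ 1 →
      (∀ h : ↥D.H, Commute (q (h * P.xs * h⁻¹)) (q g) → q (h * P.xs * h⁻¹) ∈ P.Xb) → p ∣ N.index + (p - 1) := by
    intro g p hgC hp hpo hgp hg1 hkey
    haveI : Fact p.Prime := ⟨hp⟩
    have hcard : Nat.card ↥(zpowers (q g)) = p := by rw [Nat.card_zpowers]; exact orderOf_eq_prime hgp hg1
    have hmem : q g ∈ N := hCbN ⟨g, mem_subgroupOf.mpr hgC, rfl⟩
    have h := free_dvd N (zpowers (q g)) (zpowers_le.mpr hmem) fun s hs hs1 k hk => by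
      have hsp : s ^ p = 1 := by
        obtain ⟨i, rfl⟩ := mem_zpowers_iff.mp hs
        rw [← zpow_natCast, ← zpow_mul, mul_comm, zpow_mul, zpow_natCast, hgp, one_zpow]
      obtain ⟨h, rfl⟩ := QuotientGroup.mk'_surjective (D.E.subgroupOf D.H) k
      have hc := hodd s _ p hpo hsp hk
      have hgen : zpowers s = zpowers (q g) := eq_of_le_of_card_ge (zpowers_le.mpr hs) (by
        rw [hcard, Nat.card_zpowers, orderOf_eq_prime hsp hs1])
      obtain ⟨i, hi⟩ := mem_zpowers_iff.mp (hgen.symm ▸ mem_zpowers (q g) : q g ∈ zpowers s)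
      refine hback h (hkey h ?_)
      rw [map_mul, map_mul, map_inv, ← hi]
      exact hc.zpow_right i
    rwa [hcard] at h
  have h7 : N.index % 7 = 1 := by
    have hw7 : ∀ v < 4096, P.g (P.wordElem Data.word7) v = Cfsg.Lib.JankoFour.mv Data.W7 v := fun v hv => by
      rw [P.g_word _ (fun i hi => by simpa [Nat.blt] using List.all_eq_true.mp seven_word.2 i hi) v hv, seven_word.1]
    obtain ⟨ho, hne⟩ := seven_order
    have hp7 : q (P.wordElem Data.word7) ^ 7 = 1 := by
      rw [← map_pow, ← map_one q]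
      refine P.q_eq_of_g fun v hv => ?_
      rw [P.g_one hv]
      have hit : ∀ n, P.g (P.wordElem Data.word7 ^ n) v = (Cfsg.Lib.JankoFour.mv Data.W7)^[n] v := by
        intro n
        induction n with
        | zero => rw [pow_zero, P.g_one hv]; rfl
        | succ n ih => rw [pow_succ', P.g_mul, hw7 _ (P.g_lt _ _), ih, Function.iterate_succ_apply']
      rw [hit]
      exact Cfsg.Lib.JankoFour.lin_ext (g := id) (· ^^^ ·) 12 (f := (Cfsg.Lib.JankoFour.mv Data.W7)^[7])
        (fun a b => by simp only [Function.iterate_succ_apply', Function.iterate_zero_apply, Cfsg.Lib.JankoFour.mv_xor])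
        (fun a b => rfl) (by simp [Cfsg.Lib.JankoFour.mv_zero]) (fun j hj =>
          beq_iff_eq.mp (List.all_eq_true.mp ho _ (Cfsg.Lib.JankoFour.idM_two_pow hj))) v hv
    have h := hone _ 7 (P.wordElem_mem _) (by norm_num) ⟨3, rfl⟩ hp7 (fun e => hne (by
      rw [← hw7 1 (by norm_num), P.g_of_q (e.trans (map_one q).symm) (by norm_num), P.g_one (by norm_num)]))
      fun h => P.conj_commuting_seven h2
    omega
  have h11 : N.index % 11 = 1 := by
    have hA : ∀ v < 4096, (Cfsg.Lib.JankoFour.mv Cfsg.Lib.JankoFour.Data.A)^[11] v = v := by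
      refine Cfsg.Lib.JankoFour.lin_ext (g := id) (· ^^^ ·) 12
        (fun a b => by simp only [Function.iterate_succ_apply', Function.iterate_zero_apply, Cfsg.Lib.JankoFour.mv_xor])
        (fun a b => rfl) (by simp [Cfsg.Lib.JankoFour.mv_zero]) ?_
      decide +kernel
    have hp11 : q P.la ^ 11 = 1 := by
      rw [← map_pow, ← map_one q]
      refine P.q_eq_of_g fun v hv => ?_
      rw [P.g_one hv]
      have hit : ∀ n, P.g (P.la ^ n) v = (Cfsg.Lib.JankoFour.mv Cfsg.Lib.JankoFour.Data.A)^[n] v := by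
        intro n
        induction n with
        | zero => rw [pow_zero, P.g_one hv]; rfl
        | succ n ih => rw [pow_succ', P.g_mul, P.g_la (P.g_lt _ _), ih, Function.iterate_succ_apply']
      rw [hit, hA v hv]
    have h := hone P.la 11 P.memC.1 (by norm_num) ⟨5, rfl⟩ hp11 (fun e => by
      have h1 := P.g_la (v := 1) (by norm_num)
      rw [P.g_of_q (e.trans (map_one q).symm) (by norm_num), P.g_one (by norm_num)] at h1
      exact absurd h1 (by decide +kernel)) fun h => P.conj_commuting_eleven h2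
    omega
  have h27 : N.index % 27 = 1 := by
    let ι : ↥D.S0 →* ↥D.H := Subgroup.inclusion (D.S0C.trans D.CH)
    let S := ((q).comp ι).range
    have hinj : Function.Injective (q.comp ι) := (injective_iff_map_eq_one _).mpr fun w hw => by
      have hE : (w : G) ∈ D.E := P.q_eq_one.mp hw
      refine Subtype.ext ?_
      rcases (Cfsg.Lib.LargeExtra.mem_zpowers_two D.zz).mp (D.E_inf_C hE (D.S0C w.2)) with e | e
      · exact e
      · exfalso
        have h3 := D.S0_exp w.2
        rw [e, pow_succ, pow_two, D.zz, one_mul] at h3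
        exact D.z_ne h3
    have hScard : Nat.card ↥S = 27 := by
      rw [← Nat.card_congr (MonoidHom.ofInjective hinj).toEquiv, D.S0card]
    have h := free_dvd N S (by rintro _ ⟨w, rfl⟩; exact hCbN ⟨ι w, mem_subgroupOf.mpr (D.S0C w.2), rfl⟩) ?_
    · rw [hScard] at h; omega
    rintro _ ⟨w, rfl⟩ hs1 k hk
    obtain ⟨h, rfl⟩ := QuotientGroup.mk'_surjective (D.E.subgroupOf D.H) k
    have hs3 : q (ι w) ^ 3 = 1 := by
      rw [← map_pow, show ι w ^ 3 = 1 from Subtype.ext (by
        rw [SubgroupClass.coe_pow]; exact D.S0_exp w.2), map_one]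
    have hc := hodd (q (ι w)) _ 3 ⟨1, rfl⟩ hs3 hk
    have hc' : Commute (q (h * P.xs * h⁻¹)) (q (ι w)) := by rw [map_mul, map_mul, map_inv]; exact hc
    refine hback h ?_
    rcases (D.three_class (D.S0C w.2) (by
      rw [show (9 : ℕ) = 3 * 3 by norm_num, pow_mul, D.S0_exp w.2, one_pow])).2 with hx | ⟨m, hm, hmy⟩
    · refine P.conj_commuting h2 ?_
      rw [← P.xs_zp] at hx
      obtain ⟨i, hi⟩ := mem_zpowers_iff.mp hx
      have hs : q (ι w) = x1 ^ i := by
        rw [hx1, ← map_zpow]; exact congrArg q (Subtype.ext (by rw [SubgroupClass.coe_zpow]; exact hi.symm))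
      have hgen : zpowers (q (ι w)) = P.Xb := eq_of_le_of_card_ge
        (zpowers_le.mpr (hs ▸ zpow_mem (mem_zpowers _) i)) (by
          rw [hXcard, Nat.card_zpowers, orderOf_eq_prime hs3 hs1])
      obtain ⟨j, hj⟩ := mem_zpowers_iff.mp (hgen.symm ▸ mem_zpowers x1 : x1 ∈ zpowers (q (ι w)))
      rw [show q P.xs = x1 from rfl, ← hj]
      exact hc'.zpow_right j
    · set mH : ↥D.H := ⟨m, D.CH hm⟩
      have hmx : Commute (q mH) x1 := P.q_comm_C hm
      have hy : q ⟨D.y, D.CH D.yC⟩ = q mH * q (ι w) * (q mH)⁻¹ := by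
        rw [← map_inv, ← map_mul, ← map_mul]; exact congrArg q (Subtype.ext hmy.symm)
      have hres := P.conj_commuting_y h2 (h := mH * h) (by
        show Commute (q (mH * h * P.xs * (mH * h)⁻¹)) _
        rw [show mH * h * P.xs * (mH * h)⁻¹ = mH * (h * P.xs * h⁻¹) * mH⁻¹ by group, map_mul, map_mul, map_inv]
        show Commute _ (q ⟨D.y, D.CH D.yC⟩)
        rw [hy]
        exact (Commute.conj_iff _).mpr hc')
      have hres' : q mH * q (h * P.xs * h⁻¹) * (q mH)⁻¹ ∈ P.Xb := by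
        rw [← map_inv, ← map_mul, ← map_mul, show mH * (h * P.xs * h⁻¹) * mH⁻¹ = mH * h * P.xs * (mH * h)⁻¹ by group]
        exact hres
      obtain ⟨i, hi⟩ := mem_zpowers_iff.mp hres'
      refine mem_zpowers_iff.mpr ⟨i, ?_⟩
      calc q P.xs ^ i = (q mH)⁻¹ * q P.xs ^ i * q mH := by
            rw [(hmx.inv_left.zpow_right i).eq, inv_mul_cancel_right]
        _ = _ := by rw [hi]; group
  have hindex : (D.E.subgroupOf D.H).index = N.index * 2661120 := by
    rw [index_eq_card, ← N.card_mul_index, hNcard, mul_comm]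
  have hn : N.index = 1 := by
    refine arith ?_ h27 h7 h11
    have h := P.index_dvd h2
    rw [hindex, show 2 ^ 31 * 3 ^ 8 * 5 ^ 2 * 7 ^ 2 * 11 * 17 * 31 = 2 ^ 23 * 3 ^ 5 * 5 * 7 * 17 * 31 * 2661120 by
      norm_num] at h
    exact Nat.dvd_of_mul_dvd_mul_right (by norm_num) h
  have hNtop : N = ⊤ := index_eq_one.mp hn
  haveI hXn : P.Xb.Normal := normalizer_eq_top_iff.mp hNtop
  have hHbcard : Nat.card D.Hb = 2661120 := by rw [← index_eq_card, hindex, hn, one_mul]
  have hCbidx : Cb.index = 2 := by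
    have := Cb.card_mul_index
    rw [hCbcard, hHbcard] at this
    omega
  haveI hCbn : Cb.Normal := normal_of_index_eq_two hCbidx
  -- the conditions
  let t := D.z
  refine ⟨t, ?_⟩
  haveI : (P.Xb.comap q).Normal := hXn.comap q
  haveI : (Cb.comap q).Normal := hCbn.comap q
  have hqs : Function.Surjective q := QuotientGroup.mk'_surjective _
  have hxCb : x1 ∈ Cb := ⟨P.xs, mem_subgroupOf.mpr hxsC, rfl⟩
  have hC'le : C' ≤ Cb.comap q := fun k hk => ⟨k, hk, rfl⟩
  refine Cfsg.Lib.JankoFour.Reduce.type_of_index_two D.z D.oz (D.E.subgroupOf D.H) (P.Xb.comap q) (Cb.comap q) ?_ ?_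
    ?_ ?_ ?_ ?_ ?_ ?_ ?_ ?_
  · exact fun k hk => show q k ∈ P.Xb from (P.q_eq_one.mpr (mem_subgroupOf.mp hk)).symm ▸ one_mem _
  · exact comap_mono (zpowers_le.mpr hxCb)
  · rw [index_comap_of_surjective _ hqs, hCbidx]
  · exact Cfsg.Lib.LargeFischer.isExtraspecial_congr (subgroupOfEquivOfLe D.E_le).symm hext
  · rw [Nat.card_congr (subgroupOfEquivOfLe D.E_le).toEquiv, hcardE]
  · have h1 := (P.Xb.comap q).card_mul_index
    rw [index_comap_of_surjective _ hqs] at h1
    have h3 := P.Xb.card_mul_index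
    rw [hXcard] at h3
    have h4 := (D.E.subgroupOf D.H).card_mul_index
    have h5 : (D.E.subgroupOf D.H).index = Nat.card D.Hb := index_eq_card _
    rw [h5, ← h3] at h4
    refine Nat.eq_of_mul_eq_mul_right (Nat.pos_of_ne_zero P.Xb.index_ne_zero_of_finite) ?_
    rw [h1, ← h4]; ring
  · intro m hm
    obtain ⟨k, hk, he⟩ : q m ∈ Cb := hm
    have hperfC : k ∈ ⁅C', C'⁆ := by
      have h1 : (k : G) ∈ ⁅D.C, D.C⁆ := D.perfect (mem_subgroupOf.mp hk)
      rw [show D.C = C'.map D.H.subtype from (map_subgroupOf_eq_of_le D.CH).symm, ← map_commutator] at h1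
      obtain ⟨k', hk', e⟩ := h1
      rwa [← show k' = k from Subtype.ext e]
    rw [show m = k * (k⁻¹ * m) by group]
    refine mul_mem (mem_sup_left (commutator_mono hC'le hC'le hperfC)) (mem_sup_right ?_)
    exact mem_subgroupOf.mpr (P.q_eq_one.mp (by rw [map_mul, map_inv, he, inv_mul_cancel]))
  · intro k hk
    refine mem_subgroupOf.mpr (D.cent_E h2 k.2 fun e he => ?_)
    exact congrArg Subtype.val (mem_centralizer_iff.mp hk ⟨e, D.E_le he⟩ (mem_subgroupOf.mpr he))
  · intro c hc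
    show q c ∈ Cb
    have hξ : ∀ a ∈ Cb, ∃ ξ ∈ P.Xb, q c * a * (q c)⁻¹ = ξ * a := by
      rintro _ ⟨k, hk, rfl⟩
      refine ⟨_, hc k (hC'le hk), ?_⟩
      rw [map_mul, map_mul, map_mul, map_inv, map_inv]; group
    have hcen : ∀ ξ ∈ P.Xb, ∀ a ∈ Cb, Commute ξ a := by
      intro ξ hξ a ha
      rw [hCbcent, mem_centralizer_singleton_iff] at ha
      obtain ⟨i, rfl⟩ := mem_zpowers_iff.mp hξ
      exact ((Commute.zpow_right (show Commute a x1 from ha) i)).symm
    have hcomm : ∀ a ∈ ⁅Cb, Cb⁆, Commute (q c) a := by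
      have hle : ⁅Cb, Cb⁆ ≤ centralizer ({q c} : Set D.Hb) := commutator_le.mpr fun a ha b hb => by
        obtain ⟨ξ, hξX, e1⟩ := hξ a ha
        obtain ⟨η, hηX, e2⟩ := hξ b hb
        rw [mem_centralizer_singleton_iff, eq_comm, ← mul_inv_eq_iff_eq_mul]
        rw [show q c * ⁅a, b⁆ * (q c)⁻¹ = ⁅q c * a * (q c)⁻¹, q c * b * (q c)⁻¹⁆ by
          simp only [commutatorElement_def]; group, e1, e2]
        have c1 : Commute η a := hcen η hηX a ha
        have c2 : Commute ξ b := hcen ξ hξX b hb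
        have c3 : Commute ξ η := hcen ξ hξX η (zpowers_le.mpr hxCb hηX)
        simp only [commutatorElement_def, mul_inv_rev]
        calc ξ * a * (η * b) * (a⁻¹ * ξ⁻¹) * (b⁻¹ * η⁻¹)
            = ξ * (a * η) * b * a⁻¹ * (ξ⁻¹ * b⁻¹) * η⁻¹ := by group
          _ = ξ * (η * a) * b * a⁻¹ * (b⁻¹ * ξ⁻¹) * η⁻¹ := by rw [c1.eq, c2.inv_left.inv_right.eq]
          _ = (ξ * η) * (a * b * a⁻¹ * b⁻¹) * (η * ξ)⁻¹ := by group
          _ = _ := by
            rw [← c3.eq, ((hcen ξ hξX _ ?_).mul_left (hcen η hηX _ ?_)).eq, mul_inv_cancel_right] <;>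
              exact mul_mem (mul_mem (mul_mem ha hb) (inv_mem ha)) (inv_mem hb)
      exact fun a ha => (mem_centralizer_singleton_iff.mp (hle ha)).symm
    have hx1c : x1 ∈ ⁅Cb, Cb⁆ := by
      have hmem : (P.xs : G) ∈ ⁅D.C, D.C⁆ := D.perfect hxsC
      rw [show D.C = C'.map D.H.subtype from (map_subgroupOf_eq_of_le D.CH).symm, ← map_commutator] at hmem
      obtain ⟨k', hk', e⟩ := hmem
      rw [hCb, ← map_commutator]
      exact ⟨k', hk', by rw [show k' = P.xs from Subtype.ext e]⟩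
    rw [hCbcent, mem_centralizer_singleton_iff]
    exact (hcomm x1 hx1c).eq
  · let M := Cb.comap q
    let f : ↥D.C →* ↥M ⧸ (P.Xb.comap q).subgroupOf M :=
      (QuotientGroup.mk' _).comp ((Subgroup.inclusion D.CH).codRestrict M fun k => hC'le (mem_subgroupOf.mpr k.2))
    have hfs : Function.Surjective f := by
      intro v
      obtain ⟨⟨m, hm⟩, rfl⟩ := QuotientGroup.mk'_surjective _ v
      obtain ⟨k, hk, he⟩ : q m ∈ Cb := hm
      refine ⟨⟨(k : G), mem_subgroupOf.mp hk⟩, QuotientGroup.eq.mpr (mem_subgroupOf.mpr ?_)⟩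
      show q (k⁻¹ * m) ∈ P.Xb
      rw [map_mul, map_inv, he, inv_mul_cancel]; exact one_mem _
    have hfk : f.ker = D.φ.ker := by
      ext k
      rw [MonoidHom.mem_ker, MonoidHom.mem_ker]
      show (QuotientGroup.mk' _) _ = 1 ↔ _
      rw [← MonoidHom.mem_ker, QuotientGroup.ker_mk', mem_subgroupOf, D.φ_ker]
      show q ⟨(k : G), D.CH k.2⟩ ∈ P.Xb ↔ _
      constructor
      · intro hk
        obtain ⟨i, hi⟩ := mem_zpowers_iff.mp hk
        rw [← map_zpow, ← inv_mul_eq_one, ← map_inv, ← map_mul, P.q_eq_one] at hi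
        have hE : ((P.xs : G) ^ i)⁻¹ * (k : G) ∈ D.E := by simpa using hi
        have hz := D.E_inf_C hE (mul_mem (inv_mem (zpow_mem hxsC i)) k.2)
        obtain ⟨j, hj⟩ := (isOfFinOrder_of_finite D.z).mem_powers_iff_mem_zpowers.mpr hz
        obtain ⟨i', hi'⟩ := (isOfFinOrder_of_finite D.x).mem_powers_iff_mem_zpowers.mpr
          (P.xs_zp ▸ zpow_mem (mem_zpowers _) i : (P.xs : G) ^ i ∈ zpowers D.x)
        refine ⟨i', j, ?_⟩
        change D.x ^ i' = _ at hi'
        change D.z ^ j = _ at hj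
        rw [hi', hj, mul_inv_cancel_left]
      · rintro ⟨i, j, hij⟩
        have hzj : D.z ^ j ∈ D.E := pow_mem D.z_mem j
        obtain ⟨i', hi'⟩ := mem_zpowers_iff.mp (P.xs_zp.symm ▸ npow_mem_zpowers D.x i :
          D.x ^ i ∈ zpowers (P.xs : G))
        refine mem_zpowers_iff.mpr ⟨i', ?_⟩
        rw [← map_zpow, ← inv_mul_eq_one, ← map_inv, ← map_mul, P.q_eq_one]
        show ((P.xs ^ i' : ↥D.H) : G)⁻¹ * (k : G) ∈ D.E
        rw [SubgroupClass.coe_zpow, hi', hij, inv_mul_cancel_left]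
        exact hzj
    exact ⟨((QuotientGroup.quotientKerEquivOfSurjective f hfs).symm.trans
      (QuotientGroup.quotientMulEquivOfEq hfk)).trans (QuotientGroup.quotientKerEquivOfSurjective D.φ D.φ_surj)⟩

end Six

end Cfsg.Lib.JankoSixCover
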