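import Cfsg.Agent.JankoSixCover.M22Facts
import Cfsg.Agent.JankoFour.Reduce.Core
import Cfsg.Prelude.Def_CaseTheorems

/-!
The centraliser of an element of order three which is a perfect sixfold cover of the Mathieu group on 22 points, in a
group which is not 3-normal: the fused element of order three and the inverting element.
-/

set_option autoImplicit false
set_option maxHeartbeats 1000000
set_option linter.style.haveILetI false
set_option linter.unusedSectionVars false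

namespace Cfsg.Lib.JankoSixCover

open Subgroup
open scoped commutatorElement

universe u

variable {G : Type u} [Group G] [Finite G]

/-- The data read off from the hypotheses. -/
structure Six (G : Type u) [Group G] where
  x : G
  z : G
  y : G
  c : G
  ox : orderOf x = 3
  oz : orderOf z = 2
  zC : z ∈ centralizer ({x} : Set G)
  zc : ∀ g ∈ centralizer ({x} : Set G), Commute g z
  φ : ↥(centralizer ({x} : Set G)) →* ↥Cfsg.Spor.M22
  φ_surj : Function.Surjective φ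
  φ_ker : ∀ g : ↥(centralizer ({x} : Set G)), φ g = 1 ↔ ∃ i j : ℕ, (g : G) = x ^ i * z ^ j
  cardC : Nat.card ↥(centralizer ({x} : Set G)) = 2661120
  perfect : centralizer ({x} : Set G) ≤ ⁅centralizer ({x} : Set G), centralizer ({x} : Set G)⁆
  yC : y ∈ centralizer ({x} : Set G)
  y_not : y ∉ zpowers x
  hy : c * x * c⁻¹ = y
  move : ∀ i : ℕ, ∃ m ∈ centralizer ({x} : Set G), m * (y * x ^ i) * m⁻¹ = y
  S0 : Subgroup G
  S0C : S0 ≤ centralizer ({x} : Set G)
  S0card : Nat.card ↥S0 = 27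

namespace Six

variable (D : Six G)

/-- The centraliser of the element of order three. -/
abbrev C : Subgroup G := centralizer ({D.x} : Set G)

theorem x3 : D.x ^ 3 = 1 := D.ox ▸ pow_orderOf_eq_one D.x

theorem x_ne : D.x ≠ 1 := fun e => by simpa [e] using D.ox

theorem zz : D.z * D.z = 1 := by rw [← pow_two]; exact D.oz ▸ pow_orderOf_eq_one D.z

theorem z_ne : D.z ≠ 1 := fun e => by simpa [e] using D.oz

theorem xC : D.x ∈ D.C := mem_centralizer_singleton_iff.mpr rfl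

theorem memC {g : G} : g ∈ D.C ↔ Commute g D.x := mem_centralizer_singleton_iff

theorem xz : Commute D.x D.z := (D.zc D.x D.xC)

theorem ker_form {g : G} (hg : g ∈ D.C) (h : D.φ ⟨g, hg⟩ = 1) : ∃ i j : ℕ, g = D.x ^ i * D.z ^ j :=
  (D.φ_ker ⟨g, hg⟩).mp h

theorem z_pow (j : ℕ) : D.z ^ j = 1 ∨ D.z ^ j = D.z := by
  induction j with
  | zero => exact Or.inl (pow_zero _)
  | succ j ih =>
    rcases ih with e | e <;> rw [pow_succ, e]
    exacts [Or.inr (one_mul _), Or.inl D.zz]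

theorem x_pow (i : ℕ) : D.x ^ i = 1 ∨ D.x ^ i = D.x ∨ D.x ^ i = D.x⁻¹ := by
  rcases Cfsg.Lib.JankoFour.pow_three_cases D.ox (npow_mem_zpowers D.x i) with e | e | e
  exacts [Or.inl e, Or.inr (Or.inl e), Or.inr (Or.inr e)]

/-- An element of odd order in the kernel lies in the subgroup of order three. -/
theorem ker_odd {g : G} (hg : g ∈ D.C) (h : D.φ ⟨g, hg⟩ = 1) {n : ℕ} (hn : Odd n) (hgn : g ^ n = 1) :
    g ∈ zpowers D.x := by
  obtain ⟨i, j, rfl⟩ := D.ker_form hg h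
  rcases D.z_pow j with e | e
  · rw [e, mul_one]; exact npow_mem_zpowers D.x i
  · exfalso
    rw [e, (D.xz.pow_left i).mul_pow] at hgn
    have hz : D.z ^ n = D.z := by
      obtain ⟨k, rfl⟩ := hn
      rw [pow_succ, pow_mul, pow_two, D.zz, one_pow, one_mul]
    rw [hz] at hgn
    have h3 : ((D.x ^ i) ^ n * D.z) ^ 3 = 1 := by rw [hgn, one_pow]
    rw [((D.xz.pow_left i).pow_left n).mul_pow, ← pow_mul, ← pow_mul, show i * (n * 3) = 3 * (i * n) by ring, pow_mul, D.x3, one_pow,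
      one_mul, pow_succ, pow_two, D.zz, one_mul] at h3
    exact D.z_ne h3

/-- A normal subgroup of the centraliser which is a 2-group lies in the subgroup of order two. -/
theorem normal_two {R : Subgroup G} (hR : R ≤ D.C) (hP : IsPGroup 2 ↥R)
    (hn : ∀ g ∈ D.C, ∀ r ∈ R, g * r * g⁻¹ ∈ R) : R ≤ zpowers D.z := by
  haveI : Fact (Nat.Prime 2) := ⟨Nat.prime_two⟩
  haveI := Cfsg.Lib.Golay.isSimple_M22
  let RC : Subgroup ↥D.C := R.subgroupOf D.C
  haveI : RC.Normal := ⟨fun r hr g => mem_subgroupOf.mpr (hn g g.2 r (mem_subgroupOf.mp hr))⟩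
  have hRP : IsPGroup 2 ↥RC := hP.of_equiv (subgroupOfEquivOfLe hR).symm
  have himg : RC.map D.φ = ⊥ := by
    refine (IsSimpleGroup.eq_bot_or_eq_top_of_normal _ (Normal.map inferInstance D.φ D.φ_surj)).resolve_right fun h => ?_
    obtain ⟨n, hn⟩ := (hRP.map D.φ).exists_card_eq
    rw [h, card_top, Cfsg.Lib.Golay.card_M22] at hn
    have h11 : 11 ∣ 2 ^ n := hn ▸ (by norm_num)
    exact absurd ((Nat.prime_dvd_prime_iff_eq (by norm_num) Nat.prime_two).mp
      ((by norm_num : Nat.Prime 11).dvd_of_dvd_pow h11)) (by norm_num)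
  intro r hr
  have h1 : D.φ ⟨r, hR hr⟩ = 1 := by
    have : D.φ ⟨r, hR hr⟩ ∈ RC.map D.φ := ⟨⟨r, hR hr⟩, mem_subgroupOf.mpr hr, rfl⟩
    rwa [himg, mem_bot] at this
  obtain ⟨i, j, hij⟩ := D.ker_form (hR hr) h1
  obtain ⟨k, hk⟩ := hP ⟨r, hr⟩
  have hk' : r ^ 2 ^ k = 1 := congrArg Subtype.val hk
  have hxi : D.x ^ i = 1 := by
    have h2 : r ^ (2 ^ k * 2) = 1 := by rw [pow_mul, hk', one_pow]
    rw [hij, (D.xz.pow_pow i j).mul_pow, ← pow_mul D.z, show j * (2 ^ k * 2) = 2 * (j * 2 ^ k) by ring,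
      pow_mul D.z, pow_two, D.zz, one_pow, mul_one] at h2
    rw [← orderOf_eq_one_iff]
    refine Nat.eq_one_of_dvd_coprimes (Nat.Coprime.pow_left (k + 1) (by norm_num : Nat.Coprime 2 3))
      (orderOf_dvd_of_pow_eq_one (by rwa [pow_succ])) (orderOf_dvd_of_pow_eq_one ?_)
    rw [← pow_mul, mul_comm, pow_mul, D.x3, one_pow]
  rw [hij, hxi, one_mul]
  exact npow_mem_zpowers D.z j

theorem y3 : D.y ^ 3 = 1 := by
  rw [← D.hy, conj_pow, D.x3, mul_one, mul_inv_cancel]

theorem yx : Commute D.y D.x := D.memC.mp D.yC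

theorem yz : Commute D.y D.z := D.zc _ D.yC

theorem φy_ne : D.φ ⟨D.y, D.yC⟩ ≠ 1 := fun h => D.y_not (D.ker_odd D.yC h (n := 3) ⟨1, rfl⟩ D.y3)

theorem φy3 : D.φ ⟨D.y, D.yC⟩ ^ 3 = 1 := by
  rw [← map_pow, show (⟨D.y, D.yC⟩ : ↥D.C) ^ 3 = 1 from Subtype.ext (by rw [SubgroupClass.coe_pow]; exact D.y3),
    map_one]

/-- Elements of order dividing nine have order dividing three and are fused to the given element. -/
theorem three_class {w : G} (hw : w ∈ D.C) (h9 : w ^ 9 = 1) :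
    w ^ 3 = 1 ∧ (w ∈ zpowers D.x ∨ ∃ m ∈ D.C, m * w * m⁻¹ = D.y) := by
  by_cases hφ : D.φ ⟨w, hw⟩ = 1
  · have hwx := D.ker_odd hw hφ (n := 9) ⟨4, rfl⟩ h9
    refine ⟨?_, Or.inl hwx⟩
    obtain ⟨k, rfl⟩ := mem_zpowers_iff.mp hwx
    rw [← zpow_natCast, ← zpow_mul, mul_comm, zpow_mul, zpow_natCast, D.x3, one_zpow]
  have hφ3 : D.φ ⟨w, hw⟩ ^ 3 = 1 := no_nine qmEquiv (by
    rw [← map_pow, show (⟨w, hw⟩ : ↥D.C) ^ 9 = 1 from Subtype.ext (by rw [SubgroupClass.coe_pow]; exact h9), map_one])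
  obtain ⟨k, hk⟩ := isConj_iff.mp (Cfsg.Lib.JankoFour.M22_three_class hφ3 hφ D.φy3 D.φy_ne)
  obtain ⟨m, rfl⟩ := D.φ_surj k
  have h1 : D.φ ((⟨D.y, D.yC⟩ : ↥D.C)⁻¹ * (m * ⟨w, hw⟩ * m⁻¹)) = 1 := by
    rw [map_mul, map_inv, map_mul, map_mul, map_inv, hk, inv_mul_cancel]
  obtain ⟨i, j, hij⟩ := (D.φ_ker _).mp h1
  have he : (m : G) * w * (m : G)⁻¹ = D.y * (D.x ^ i * D.z ^ j) := by
    rw [← inv_mul_eq_iff_eq_mul]; exact hij
  have hcz : Commute (D.y * D.x ^ i) (D.z ^ j) := (D.yz.pow_right j).mul_left (D.xz.pow_pow i j)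
  have hyi : (D.y * D.x ^ i) ^ 3 = 1 := by
    rw [(D.yx.pow_right i).mul_pow, D.y3, ← pow_mul, mul_comm, pow_mul, D.x3, one_pow, one_mul]
  have hj : D.z ^ j = 1 := by
    rcases D.z_pow j with e | e
    · exact e
    · exfalso
      have h' := conj_pow (i := 9) (a := (m : G)) (b := w)
      rw [he, h9, mul_one, mul_inv_cancel, ← mul_assoc, hcz.mul_pow, show (9 : ℕ) = 3 * 3 by norm_num, pow_mul, hyi,
        one_pow, one_mul, e, show 3 * 3 = 2 * 4 + 1 by norm_num, pow_succ, pow_mul, pow_two, D.zz, one_pow,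
        one_mul] at h'
      exact D.z_ne h'
  rw [hj, mul_one] at he
  refine ⟨?_, Or.inr ?_⟩
  · have h' := conj_pow (i := 3) (a := (m : G)) (b := w)
    rw [he, hyi] at h'
    exact conj_eq_one_iff.mp h'.symm
  · obtain ⟨n, hn, hne⟩ := D.move i
    exact ⟨n * m, mul_mem hn m.2, by rw [← hne, ← he]; group⟩

theorem S0_exp {w : G} (hw : w ∈ D.S0) : w ^ 3 = 1 := by
  have h27 : w ^ 27 = 1 := by
    have h := pow_card_eq_one' (x := (⟨w, hw⟩ : ↥D.S0))
    rw [D.S0card] at h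
    exact congrArg Subtype.val h
  have h9 : (w ^ 3) ^ 3 = 1 := (D.three_class (pow_mem (D.S0C hw) 3) (by rw [← pow_mul]; exact h27)).1
  exact (D.three_class (D.S0C hw) (by rw [← pow_mul] at h9; exact h9)).1

/-- The only central involution. -/
theorem center_invol {w : G} (hw : w ∈ D.C) (hc : ∀ g ∈ D.C, Commute g w) (h2 : w * w = 1) (h1 : w ≠ 1) : w = D.z := by
  haveI := Cfsg.Lib.Golay.isSimple_M22
  have h : D.φ ⟨w, hw⟩ = 1 := Cfsg.Lib.JankoFour.M22_center fun m => by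
    obtain ⟨a, rfl⟩ := D.φ_surj m
    rw [← map_mul, ← map_mul]
    exact congrArg D.φ (Subtype.ext (hc a a.2).symm.eq)
  obtain ⟨i, j, rfl⟩ := D.ker_form hw h
  have hx : D.x ^ i = 1 := by
    have e : (D.x ^ i * D.z ^ j) ^ 2 = 1 := by rw [pow_two]; exact h2
    rw [(D.xz.pow_pow i j).mul_pow, ← pow_mul D.z, mul_comm j 2, pow_mul D.z, pow_two D.z, D.zz, one_pow, mul_one] at e
    calc D.x ^ i = (D.x ^ i) ^ 2 * ((D.x ^ i) ^ 2) := by
          rw [← pow_add, show 2 + 2 = 3 + 1 by norm_num, pow_succ, ← pow_mul, mul_comm i 3, pow_mul, D.x3, one_pow,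
            one_mul]
      _ = 1 := by rw [e, one_mul]
  rw [hx, one_mul] at h1 ⊢
  exact (D.z_pow j).resolve_left h1

/-- An element inverting the element of order three; it commutes with the involution. -/
theorem exists_inverting : ∃ w : G, w * D.x * w⁻¹ = D.x⁻¹ ∧ Commute w D.z := by
  have h9 : D.y⁻¹ ^ 9 = 1 := by rw [inv_pow, show (9 : ℕ) = 3 * 3 by norm_num, pow_mul, D.y3, one_pow, inv_one]
  obtain ⟨m, hm, hmy⟩ := ((D.three_class (inv_mem D.yC) h9).2).resolve_left fun h => D.y_not (inv_mem_iff.mp h)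
  set w := D.c⁻¹ * m * D.c with hw
  have hwx : w * D.x * w⁻¹ = D.x⁻¹ := by
    have hm' : m * D.y * m⁻¹ = D.y⁻¹ := by simpa [mul_assoc] using congrArg (·⁻¹) hmy
    calc w * D.x * w⁻¹ = D.c⁻¹ * (m * (D.c * D.x * D.c⁻¹) * m⁻¹) * D.c := by rw [hw]; group
      _ = D.c⁻¹ * (D.c * D.x * D.c⁻¹)⁻¹ * D.c := by rw [D.hy, hm']
      _ = D.x⁻¹ := by group
  have hC : ∀ g, g ∈ D.C → w⁻¹ * g * w ∈ D.C ∧ w * g * w⁻¹ ∈ D.C := fun g hg => by
    have hx' : w⁻¹ * D.x * w = D.x⁻¹ := by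
      conv_lhs => rw [← inv_inv D.x, ← hwx]
      group
    constructor <;> refine D.memC.mpr (mul_inv_eq_iff_eq_mul.mp ?_)
    · calc w⁻¹ * g * w * D.x * (w⁻¹ * g * w)⁻¹ = w⁻¹ * (g * (w * D.x * w⁻¹) * g⁻¹) * w := by group
        _ = w⁻¹ * D.x⁻¹ * w := by rw [hwx, (D.memC.mp hg).inv_right.eq, mul_inv_cancel_right]
        _ = (w⁻¹ * D.x * w)⁻¹ := by group
        _ = D.x := by rw [hx', inv_inv]
    · calc w * g * w⁻¹ * D.x * (w * g * w⁻¹)⁻¹ = w * (g * (w⁻¹ * D.x * w) * g⁻¹) * w⁻¹ := by group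
        _ = w * D.x⁻¹ * w⁻¹ := by rw [hx', (D.memC.mp hg).inv_right.eq, mul_inv_cancel_right]
        _ = D.x := by rw [← conj_inv, hwx, inv_inv]
  refine ⟨w, hwx, mul_inv_eq_iff_eq_mul.mp (D.center_invol (hC D.z D.zC).2 (fun g hg => ?_) ?_ ?_)⟩
  · have h := D.zc _ (hC g hg).1
    show g * (w * D.z * w⁻¹) = w * D.z * w⁻¹ * g
    calc g * (w * D.z * w⁻¹) = w * (w⁻¹ * g * w * D.z) * w⁻¹ := by group
      _ = w * (D.z * (w⁻¹ * g * w)) * w⁻¹ := by rw [h.eq]
      _ = _ := by group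
  · rw [show w * D.z * w⁻¹ * (w * D.z * w⁻¹) = w * (D.z * D.z) * w⁻¹ by group, D.zz, mul_one, mul_inv_cancel]
  · rw [Ne, conj_eq_one_iff]; exact D.z_ne

end Six

/-- The element of order three has a conjugate outside its group in the centraliser. -/
theorem exists_six (x : G) (hx : orderOf x = 3)
    (hperf : ⁅(⊤ : Subgroup ↥(centralizer ({x} : Set G))), (⊤ : Subgroup ↥(centralizer ({x} : Set G)))⁆ = ⊤)
    (hZ : IsCyclic ↥(center ↥(centralizer ({x} : Set G))))
    (hZc : Nat.card ↥(center ↥(centralizer ({x} : Set G))) = 6)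
    (e : ↥(centralizer ({x} : Set G)) ⧸ center ↥(centralizer ({x} : Set G)) ≃* ↥Cfsg.Spor.M22)
    (S : Sylow 3 G) (g : G)
    (hng : ((center ↥(S : Subgroup G)).map (S : Subgroup G).subtype).map (MulAut.conj g).toMonoidHom ≤ (S : Subgroup G))
    (hne : ((center ↥(S : Subgroup G)).map (S : Subgroup G).subtype).map (MulAut.conj g).toMonoidHom ≠
      ((center ↥(S : Subgroup G)).map (S : Subgroup G).subtype)) : ∃ D : Six G, D.x = x := by
  classical
  haveI : Fact (Nat.Prime 3) := ⟨Nat.prime_three⟩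
  haveI : Fact (Nat.Prime 2) := ⟨Nat.prime_two⟩
  set C := centralizer ({x} : Set G) with hC
  have hxC : x ∈ C := mem_centralizer_singleton_iff.mpr rfl
  have x3 : x ^ 3 = 1 := hx ▸ pow_orderOf_eq_one x
  set xC : ↥C := ⟨x, hxC⟩ with hxCdef
  have hxc : xC ∈ center ↥C := mem_center_iff.mpr fun a =>
    Subtype.ext (mem_centralizer_singleton_iff.mp a.2)
  obtain ⟨zZ, hzZ⟩ := exists_prime_orderOf_dvd_card' (G := ↥(center ↥C)) 2 ⟨3, by rw [hZc]⟩
  set z : G := ((zZ : ↥C) : G) with hzdef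
  have hoz : orderOf z = 2 := by rw [hzdef, Subgroup.orderOf_coe, Subgroup.orderOf_coe, hzZ]
  have hzC : z ∈ C := (zZ : ↥C).2
  have hzc : ∀ a ∈ C, Commute a z := fun a ha => congrArg Subtype.val (mem_center_iff.mp zZ.2 ⟨a, ha⟩)
  have hcen : ∀ a : ↥C, a ∈ center ↥C → ∃ i j : ℕ, (a : G) = x ^ i * z ^ j := by
    have hord : orderOf ((⟨xC, hxc⟩ : ↥(center ↥C)) * zZ) = 6 := by
      have hc : Commute (⟨xC, hxc⟩ : ↥(center ↥C)) zZ := Subtype.ext (mem_center_iff.mp zZ.2 xC)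
      have hox : orderOf (⟨xC, hxc⟩ : ↥(center ↥C)) = 3 := by
        rw [Subgroup.orderOf_mk, hxCdef, Subgroup.orderOf_mk, hx]
      rw [hc.orderOf_mul_eq_mul_orderOf_of_coprime (by rw [hox, hzZ]; norm_num), hox, hzZ]
    intro a ha
    have htop : zpowers ((⟨xC, hxc⟩ : ↥(center ↥C)) * zZ) = ⊤ :=
      eq_top_of_card_eq _ (by rw [Nat.card_zpowers, hord, hZc])
    obtain ⟨k, hk⟩ := (isOfFinOrder_of_finite _).mem_powers_iff_mem_zpowers.mpr
      (htop ▸ mem_top (⟨a, ha⟩ : ↥(center ↥C)))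
    refine ⟨k, k, ?_⟩
    have h := congrArg (fun w : ↥(center ↥C) => ((w : ↥C) : G)) hk
    simp only [SubgroupClass.coe_pow, Subgroup.coe_mul] at h
    rw [← h, (hzc x hxC).mul_pow]
  let φ : ↥C →* ↥Cfsg.Spor.M22 := e.toMonoidHom.comp (QuotientGroup.mk' (center ↥C))
  have hφs : Function.Surjective φ := e.surjective.comp (QuotientGroup.mk'_surjective _)
  have hφk : ∀ a : ↥C, φ a = 1 ↔ ∃ i j : ℕ, (a : G) = x ^ i * z ^ j := fun a => by
    show e (QuotientGroup.mk' _ a) = 1 ↔ _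
    rw [MulEquiv.map_eq_one_iff, ← MonoidHom.mem_ker, QuotientGroup.ker_mk']
    refine ⟨hcen a, fun ⟨i, j, h⟩ => ?_⟩
    rw [show a = xC ^ i * (zZ : ↥C) ^ j from Subtype.ext (by rw [h]; simp [hxCdef, hzdef])]
    exact mul_mem (pow_mem hxc i) (pow_mem zZ.2 j)
  have hcard : Nat.card ↥C = 2661120 := by
    rw [card_eq_card_quotient_mul_card_subgroup (center ↥C), hZc, Nat.card_congr e.toEquiv,
      Cfsg.Lib.Golay.card_M22]
  have hcomtop : commutator ↥C = ⊤ := by rw [_root_.commutator_def]; exact hperf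
  have hperfG : C ≤ ⁅C, C⁆ := by
    intro a ha
    have h : (⟨a, ha⟩ : ↥C) ∈ (commutator ↥C) := hcomtop ▸ mem_top _
    have h2 := mem_map_of_mem C.subtype h
    rwa [map_subtype_commutator] at h2
  -- the Sylow subgroup of the centraliser
  let T : Sylow 3 ↥C := default
  have hT27 : Nat.card ↥(T : Subgroup ↥C) = 27 := by
    rw [Sylow.card_eq_multiplicity, hcard, show (2661120 : ℕ) = 3 ^ 3 * 98560 by norm_num,
      Nat.factorization_mul (by norm_num) (by norm_num), Finsupp.add_apply,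
      Nat.factorization_eq_zero_of_not_dvd (by norm_num : ¬ 3 ∣ 98560),
      Nat.prime_three.factorization_pow, Finsupp.single_eq_same]
    norm_num
  have hxT : xC ∈ (T : Subgroup ↥C) := by
    obtain ⟨T', hT'⟩ := IsPGroup.exists_le_sylow (p := 3) (P := zpowers xC)
      (IsPGroup.of_card (n := 1) (by rw [Nat.card_zpowers, hxCdef, Subgroup.orderOf_mk, hx, pow_one]))
    obtain ⟨k, hk⟩ := MulAction.exists_smul_eq ↥C T' T
    rw [← hk]
    refine ⟨xC, hT' (mem_zpowers xC), ?_⟩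
    show k * xC * k⁻¹ = xC
    rw [mem_center_iff.mp hxc k, mul_inv_cancel_right]
  have hTna : ¬ IsMulCommutative ↥(T : Subgroup ↥C) := by
    intro h
    have h3 := Cfsg.Lib.JankoFour.Reduce.transfer_three hcomtop (T : Subgroup ↥C) hxT
      (fun a => mem_center_iff.mp hxc a) (Subtype.ext (by rw [SubgroupClass.coe_pow]; exact x3))
      (fun e => absurd (hx.symm.trans (by rw [show x = 1 from congrArg Subtype.val e, orderOf_one] : orderOf x = 1)) (by norm_num))
    have := (T : Subgroup ↥C).card_mul_index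
    rw [hT27, hcard] at this
    omega
  set S0 : Subgroup G := (T : Subgroup ↥C).map C.subtype with hS0
  have hS0C : S0 ≤ C := map_subtype_le _
  have hS0c : Nat.card ↥S0 = 27 := by rw [hS0, card_map_of_injective C.subtype_injective, hT27]
  have hxS0 : x ∈ S0 := ⟨xC, hxT, rfl⟩
  have hS0P : IsPGroup 3 ↥S0 := IsPGroup.of_card (n := 3) (by rw [hS0c]; norm_num)
  have hS0na : ∃ a ∈ S0, ∃ b ∈ S0, ¬ Commute a b := by
    by_contra! h
    exact hTna ⟨⟨fun a b => Subtype.ext (Subtype.ext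
      (h _ ⟨_, a.2, rfl⟩ _ ⟨_, b.2, rfl⟩))⟩⟩
  have hcenS0 : ∀ a ∈ S0, (∀ b ∈ S0, Commute b a) → a ∈ zpowers x := by
    intro a ha hab
    set Z := center ↥S0
    have hxZ : (⟨x, hxS0⟩ : ↥S0) ∈ Z := mem_center_iff.mpr fun b =>
      Subtype.ext (mem_centralizer_singleton_iff.mp (hS0C b.2))
    have hdvd : Nat.card ↥Z ∣ 3 ^ 3 := by
      rw [show (3 : ℕ) ^ 3 = 27 by norm_num, ← hS0c]; exact card_subgroup_dvd_card Z
    obtain ⟨k, hk3, hk⟩ := (Nat.dvd_prime_pow Nat.prime_three).mp hdvd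
    have hk1 : k ≤ 1 := by
      by_contra hlt
      obtain ⟨b, hb, d, hd, hbd⟩ := hS0na
      refine hbd (congrArg Subtype.val (show (⟨b, hb⟩ : ↥S0) * ⟨d, hd⟩ = ⟨d, hd⟩ * ⟨b, hb⟩ from ?_))
      have hq : Nat.card (↥S0 ⧸ Z) ∣ 3 := by
        have h := card_eq_card_quotient_mul_card_subgroup Z
        rw [hS0c, hk] at h
        refine Dvd.intro (3 ^ (k - 2)) (Nat.eq_of_mul_eq_mul_right (show 0 < 9 by norm_num) ?_)
        rw [mul_assoc, show 3 ^ (k - 2) * 9 = 3 ^ k by
          rw [show (9 : ℕ) = 3 ^ 2 by norm_num, ← pow_add]; congr 1; omega, ← h]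
      haveI : IsCyclic (↥S0 ⧸ Z) := by
        rcases (Nat.dvd_prime Nat.prime_three).mp hq with h | h
        · haveI := (Nat.card_eq_one_iff_unique.mp h).1
          exact isCyclic_of_subsingleton
        · exact isCyclic_of_prime_card h
      exact commutative_of_cyclic_center_quotient (QuotientGroup.mk' Z) (by rw [QuotientGroup.ker_mk']) _ _
    have haZ : (⟨a, ha⟩ : ↥S0) ∈ Z := mem_center_iff.mpr fun b => Subtype.ext (hab b b.2).eq
    have hle : zpowers (⟨x, hxS0⟩ : ↥S0) = Z := eq_of_le_of_card_ge (zpowers_le.mpr hxZ) (by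
      rw [hk, Nat.card_zpowers, Subgroup.orderOf_mk, hx]
      calc 3 ^ k ≤ 3 ^ 1 := Nat.pow_le_pow_right (by norm_num) hk1
        _ = 3 := pow_one 3)
    rw [← hle] at haZ
    obtain ⟨n, hn⟩ := mem_zpowers_iff.mp haZ
    exact mem_zpowers_iff.mpr ⟨n, by simpa using congrArg Subtype.val hn⟩
  -- it is a Sylow subgroup of the group
  have hNX : ∀ k ∈ normalizer (zpowers x : Set G), k * x * k⁻¹ = x ∨ k * x * k⁻¹ = x⁻¹ := by
    intro k hk
    rcases Cfsg.Lib.JankoFour.pow_three_cases hx ((mem_normalizer_iff.mp hk x).mp (mem_zpowers x)) with h | h | h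
    · rw [conj_eq_one_iff] at h
      rw [h, orderOf_one] at hx
      norm_num at hx
    · exact Or.inl h
    · exact Or.inr h
  have h81 : ¬ 3 ^ (3 + 1) ∣ Nat.card G := fun h => by
    have h1 := Sylow.prime_pow_dvd_card_normalizer h (H := S0) (by rw [hS0c]; norm_num)
    set N := normalizer (zpowers x : Set G)
    have hle : normalizer (S0 : Set G) ≤ N := by
      intro k hk
      have hmem : k * x * k⁻¹ ∈ zpowers x := by
        refine hcenS0 _ ((mem_normalizer_iff.mp hk x).mp hxS0) fun b hb => ?_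
        have hb' : k⁻¹ * b * k ∈ S0 := (mem_normalizer_iff''.mp hk b).mp hb
        have hc : Commute (k⁻¹ * b * k) x := mem_centralizer_singleton_iff.mp (hS0C hb')
        show b * (k * x * k⁻¹) = k * x * k⁻¹ * b
        calc b * (k * x * k⁻¹) = k * (k⁻¹ * b * k * x) * k⁻¹ := by group
          _ = k * (x * (k⁻¹ * b * k)) * k⁻¹ := by rw [hc.eq]
          _ = _ := by group
      have hmap : (zpowers x).map (MulAut.conj k).toMonoidHom = zpowers x :=
        eq_of_le_of_card_ge (by rw [MonoidHom.map_zpowers, zpowers_le]; exact hmem)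
          (le_of_eq (card_map_of_injective (MulAut.conj k).injective).symm)
      refine mem_normalizer_iff.mpr fun w => ⟨fun hw => hmap ▸ ⟨w, hw, rfl⟩, fun hw => ?_⟩
      rw [← hmap] at hw
      obtain ⟨v, hv, hvw⟩ := hw
      rwa [← (MulAut.conj k).injective hvw]
    have h2 : 81 ∣ Nat.card ↥N := dvd_trans (by norm_num; exact h1) (card_dvd_of_le hle)
    have hCN : C ≤ N := fun k hk => mem_normalizer_iff.mpr fun w => by
      have hk' : Commute k x := mem_centralizer_singleton_iff.mp hk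
      constructor
      · rintro hw
        obtain ⟨n, rfl⟩ := mem_zpowers_iff.mp hw
        rw [(hk'.zpow_right n).eq, mul_inv_cancel_right]; exact zpow_mem (mem_zpowers x) n
      · rintro hw
        obtain ⟨n, hn⟩ := mem_zpowers_iff.mp hw
        rw [show w = x ^ n by
          rw [eq_mul_inv_iff_mul_eq, ← (hk'.zpow_right n).eq] at hn
          exact (mul_left_cancel hn).symm]
        exact zpow_mem (mem_zpowers x) n
    have hidx : C.relIndex N ∣ 2 := by
      by_cases hall : ∀ k ∈ N, k * x * k⁻¹ = x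
      · rw [show C = N from le_antisymm hCN fun k hk =>
          mem_centralizer_singleton_iff.mpr (mul_inv_eq_iff_eq_mul.mp (hall k hk)), relIndex_self]
        exact one_dvd 2
      · push Not at hall
        obtain ⟨k, hk, hkx⟩ := hall
        rw [relIndex, (index_eq_two_iff_exists_notMem_and (H := C.subgroupOf N)).mpr ?_]
        refine ⟨⟨k⁻¹, inv_mem hk⟩, fun hh => hkx ?_, fun b => ?_⟩
        · have hc : Commute k⁻¹ x := mem_centralizer_singleton_iff.mp (mem_subgroupOf.mp hh)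
          rw [show k * x = x * k by simpa using hc.inv_left.eq, mul_inv_cancel_right]
        · rcases hNX b b.2 with hb | hb
          · exact Or.inr (mem_subgroupOf.mpr (mem_centralizer_singleton_iff.mpr (mul_inv_eq_iff_eq_mul.mp hb)))
          · left
            have hk' := (hNX k hk).resolve_left hkx
            refine mem_subgroupOf.mpr (mem_centralizer_singleton_iff.mpr ?_)
            show (b : G) * k⁻¹ * x = x * ((b : G) * k⁻¹)
            rw [← mul_inv_eq_iff_eq_mul]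
            calc (b : G) * k⁻¹ * x * ((b : G) * k⁻¹)⁻¹ = (b : G) * (k⁻¹ * x * k) * (b : G)⁻¹ := by group
              _ = (b : G) * x⁻¹ * (b : G)⁻¹ := by
                  have : x = k * x⁻¹ * k⁻¹ := by rw [← conj_inv, hk', inv_inv]
                  conv_lhs => rw [this]
                  group
              _ = x := by rw [← conj_inv, hb, inv_inv]
    have := (C.subgroupOf N).card_mul_index
    rw [Nat.card_congr (subgroupOfEquivOfLe hCN).toEquiv, ← relIndex] at this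
    obtain ⟨m, hm⟩ := h2
    rw [hcard, hm] at this
    rcases (Nat.dvd_prime Nat.prime_two).mp hidx with r | r <;> rw [r] at this <;> omega
  obtain ⟨T0, hT0⟩ := hS0P.exists_le_sylow
  have hT0eq : (T0 : Subgroup G) = S0 := (eq_of_le_of_card_ge hT0 (by
    obtain ⟨n, hn⟩ := IsPGroup.iff_card.mp T0.isPGroup'
    rw [hn, hS0c, show (27 : ℕ) = 3 ^ 3 by norm_num]
    refine Nat.pow_le_pow_right (by norm_num) ?_
    by_contra hlt
    exact h81 (dvd_trans (pow_dvd_pow 3 (by omega : 3 + 1 ≤ n)) (hn ▸ card_subgroup_dvd_card _)))).symm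
  -- the fused element
  obtain ⟨k, hk⟩ := MulAction.exists_smul_eq G T0 S
  have hmemS : ∀ w, w ∈ (S : Subgroup G) ↔ k⁻¹ * w * k ∈ S0 := fun w => by
    rw [← hk, Sylow.coe_subgroup_smul, ← hT0eq]
    constructor
    · rintro ⟨v, hv, rfl⟩
      show k⁻¹ * (k * v * k⁻¹) * k ∈ _
      rwa [show k⁻¹ * (k * v * k⁻¹) * k = v by group]
    · intro hw; exact ⟨_, hw, by show k * (k⁻¹ * w * k) * k⁻¹ = w; group⟩
  set ZS := (center ↥(S : Subgroup G)).map (S : Subgroup G).subtype with hZS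
  have hZSeq : ZS = zpowers (k * x * k⁻¹) := by
    refine le_antisymm ?_ (zpowers_le.mpr ?_)
    · rintro _ ⟨a, ha, rfl⟩
      have h1 : k⁻¹ * (a : G) * k ∈ zpowers x := by
        refine hcenS0 _ ((hmemS _).mp a.2) fun b hb => ?_
        have hb' : k * b * k⁻¹ ∈ (S : Subgroup G) := (hmemS _).mpr (by simpa [mul_assoc] using hb)
        have hc : k * b * k⁻¹ * (a : G) = (a : G) * (k * b * k⁻¹) :=
          congrArg Subtype.val (mem_center_iff.mp ha ⟨_, hb'⟩)
        show b * (k⁻¹ * (a : G) * k) = k⁻¹ * (a : G) * k * b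
        calc b * (k⁻¹ * (a : G) * k) = k⁻¹ * (k * b * k⁻¹ * (a : G)) * k := by group
          _ = _ := by rw [hc]; group
      obtain ⟨n, hn⟩ := mem_zpowers_iff.mp h1
      refine mem_zpowers_iff.mpr ⟨n, ?_⟩
      rw [conj_zpow, hn]
      show k * (k⁻¹ * (a : G) * k) * k⁻¹ = (a : G)
      group
    · refine ⟨⟨k * x * k⁻¹, (hmemS _).mpr (by simpa [mul_assoc] using hxS0)⟩, mem_center_iff.mpr fun b => ?_, rfl⟩
      refine Subtype.ext ?_
      show (b : G) * (k * x * k⁻¹) = k * x * k⁻¹ * b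
      have hc : Commute (k⁻¹ * b * k) x := mem_centralizer_singleton_iff.mp (hS0C ((hmemS _).mp b.2))
      calc (b : G) * (k * x * k⁻¹) = k * (k⁻¹ * b * k * x) * k⁻¹ := by group
        _ = k * (x * (k⁻¹ * b * k)) * k⁻¹ := by rw [hc.eq]
        _ = _ := by group
  set c := k⁻¹ * g * k with hcdef
  set y := c * x * c⁻¹ with hydef
  have hyS0 : y ∈ S0 := by
    have h := (hmemS _).mp (hng ⟨k * x * k⁻¹, hZSeq.symm ▸ mem_zpowers _, rfl⟩)
    rw [show y = k⁻¹ * (MulAut.conj g).toMonoidHom (k * x * k⁻¹) * k by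
      show _ = k⁻¹ * (g * (k * x * k⁻¹) * g⁻¹) * k
      rw [hydef, hcdef]; group]
    exact h
  have hynot : y ∉ zpowers x := fun h => hne (by
    refine eq_of_le_of_card_ge ?_ (le_of_eq (card_map_of_injective (MulAut.conj g).injective).symm)
    rw [hZSeq, MonoidHom.map_zpowers, zpowers_le]
    obtain ⟨n, hn⟩ := mem_zpowers_iff.mp h
    refine mem_zpowers_iff.mpr ⟨n, ?_⟩
    rw [conj_zpow, hn]
    show k * (c * x * c⁻¹) * k⁻¹ = g * (k * x * k⁻¹) * g⁻¹
    rw [hcdef]; group)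
  have hy3 : y ^ 3 = 1 := by rw [hydef, conj_pow, x3, mul_one, mul_inv_cancel]
  -- a commutator with it
  obtain ⟨t, htS, l, hl3, htl⟩ : ∃ t ∈ S0, ∃ l : ℕ, l % 3 ≠ 0 ∧ t * y * t⁻¹ = y * x ^ l := by
    obtain ⟨t, ht, hty⟩ : ∃ t ∈ S0, ¬ Commute t y := by
      by_contra! h
      exact hynot (hcenS0 y hyS0 fun b hb => h b hb)
    set Z := zpowers x
    have hq : ∀ a ∈ S0, ∀ b ∈ S0, b⁻¹ * a * b * a⁻¹ ∈ zpowers x := by
      intro a ha b hb
      let Zc : Subgroup ↥S0 := center ↥S0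
      have hxZ : (⟨x, hxS0⟩ : ↥S0) ∈ Zc := mem_center_iff.mpr fun b =>
        Subtype.ext (mem_centralizer_singleton_iff.mp (hS0C b.2))
      have h3 : 3 ∣ Nat.card ↥Zc := by
        rw [← hx, ← Subgroup.orderOf_mk x hxS0]
        exact (orderOf_dvd_of_mem_zpowers (mem_zpowers _)).trans
          (by rw [← Nat.card_zpowers]; exact card_dvd_of_le (zpowers_le.mpr hxZ))
      have hq9 : Nat.card (↥S0 ⧸ Zc) ∣ 9 := by
        have h := card_eq_card_quotient_mul_card_subgroup Zc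
        obtain ⟨d, hd⟩ := h3
        rw [hS0c, hd] at h
        exact ⟨d, by nlinarith⟩
      obtain ⟨n, hn2, hn⟩ := (Nat.dvd_prime_pow Nat.prime_three).mp ((show (3 : ℕ) ^ 2 = 9 by norm_num) ▸ hq9)
      have hcomm : ∀ p q : ↥S0 ⧸ Zc, p * q = q * p := by
        interval_cases n
        · haveI := (Nat.card_eq_one_iff_unique.mp (by rw [hn]; norm_num : Nat.card (↥S0 ⧸ Zc) = 1)).1
          exact fun p q => Subsingleton.elim _ _
        · haveI := isCyclic_of_prime_card (α := ↥S0 ⧸ Zc) (p := 3) (by rw [hn]; norm_num)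
          exact fun p q => IsCyclic.commGroup.mul_comm p q
        · exact (IsPGroup.isMulCommutative_of_card_eq_prime_sq hn).is_comm.comm
      have hz : (⟨b, hb⟩ : ↥S0)⁻¹ * ⟨a, ha⟩ * ⟨b, hb⟩ * (⟨a, ha⟩ : ↥S0)⁻¹ ∈ Zc := by
        rw [← QuotientGroup.eq_one_iff, QuotientGroup.mk_mul, QuotientGroup.mk_mul, QuotientGroup.mk_mul,
          QuotientGroup.mk_inv, QuotientGroup.mk_inv, mul_assoc (_⁻¹) _ (QuotientGroup.mk _),
          hcomm (QuotientGroup.mk ⟨a, ha⟩), inv_mul_cancel_left, mul_inv_cancel]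
      exact hcenS0 _ (mul_mem (mul_mem (mul_mem (inv_mem hb) ha) hb) (inv_mem ha)) fun d hd =>
        congrArg Subtype.val (mem_center_iff.mp hz ⟨d, hd⟩)
    obtain ⟨l, hl⟩ := (isOfFinOrder_of_finite x).mem_powers_iff_mem_zpowers.mpr (hq t ht y hyS0)
    change x ^ l = _ at hl
    have htl : t * y * t⁻¹ = y * x ^ l := by rw [hl]; group
    refine ⟨t, ht, l, fun hl3 => hty ?_, htl⟩
    rw [← Nat.div_add_mod l 3, hl3, add_zero, pow_mul, x3, one_pow, mul_one] at htl
    exact mul_inv_eq_iff_eq_mul.mp htl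
  have hmove : ∀ i : ℕ, ∃ m ∈ C, m * (y * x ^ i) * m⁻¹ = y := by
    intro i
    have hct : Commute t x := mem_centralizer_singleton_iff.mp (hS0C htS)
    have hpow : ∀ n : ℕ, t ^ n * y * (t ^ n)⁻¹ = y * x ^ (l * n) := by
      intro n
      induction n with
      | zero => simp
      | succ n ih =>
        calc t ^ (n + 1) * y * (t ^ (n + 1))⁻¹ = t * (t ^ n * y * (t ^ n)⁻¹) * t⁻¹ := by rw [pow_succ']; group
          _ = t * y * t⁻¹ * (t * x ^ (l * n) * t⁻¹) := by rw [ih]; group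
          _ = _ := by rw [htl, (hct.pow_right (l * n)).eq, mul_inv_cancel_right, mul_assoc, ← pow_add]; ring_nf
    refine ⟨(t ^ (l * i))⁻¹, inv_mem (pow_mem (hS0C htS) _), ?_⟩
    have he : x ^ (l * (l * i)) = x ^ i := by
      rw [← mul_assoc, ← Nat.div_add_mod (l * l) 3, show (l * l) % 3 = 1 by
        rw [Nat.mul_mod]; rcases (show l % 3 = 1 ∨ l % 3 = 2 by omega) with r | r <;> rw [r],
        add_mul, mul_assoc, pow_add, pow_mul, x3, one_pow, one_mul, one_mul]
    rw [← he, ← hpow (l * i)]; group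
  exact ⟨{ x := x, z := z, y := y, c := c, ox := hx, oz := hoz, zC := hzC, zc := hzc, φ := φ, φ_surj := hφs
           φ_ker := hφk, cardC := hcard, perfect := hperfG, yC := hS0C hyS0, y_not := hynot, hy := rfl, move := hmove
           S0 := S0, S0C := hS0C, S0card := hS0c }, rfl⟩

end Cfsg.Lib.JankoSixCover
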