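import Cfsg.Agent.JankoSixCover.Frames

/-!
In the centraliser of the involution modulo its core the subgroup of order three is centralised by every conjugate of
itself commuting with a nontrivial element of a Sylow 3-subgroup or with given elements of order seven and eleven.
-/

set_option autoImplicit false
set_option maxRecDepth 100000
set_option maxHeartbeats 1000000
set_option linter.style.haveILetI false
set_option linter.unusedSectionVars false

namespace Cfsg.Lib.JankoSixCover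

open Subgroup
open Cfsg.Lib.JankoFour (mv mm mv_xor mv_zero mv_lt mv_mm lin_ext idM pB)
open Cfsg.Lib.JankoFour.Data (A OM)

universe u

variable {G : Type u} [Group G] [Finite G]

theorem mv_two_pow : ∀ (L : List ℕ) (k : ℕ), mv L (2 ^ k) = L.getD k 0 := by
  intro L
  induction L with
  | nil => intro k; simp [mv]
  | cons m r ih =>
    intro k
    cases k with
    | zero => simp [mv, mv_zero]
    | succ k =>
      have h1 : 2 ^ (k + 1) % 2 = 0 := by rw [pow_succ]; simp
      have h2 : 2 ^ (k + 1) / 2 = 2 ^ k := by rw [pow_succ]; simp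
      simp [mv, h1, h2, ih]

theorem mv_id6 {c : ℕ} (hc : c < 64) : mv id6 c = c :=
  lin_ext (f := mv id6) (g := id) (· ^^^ ·) 6 (mv_xor _) (fun a b => rfl) (mv_zero _) (by decide +kernel) c hc

/-- The centraliser modulo its core. -/
abbrev Six.Hb (D : Six G) [(D.E.subgroupOf D.H).Normal] : Type u := ↥D.H ⧸ D.E.subgroupOf D.H

namespace Geo

variable {D : Six G} (P : Geo D) [hn : (D.E.subgroupOf D.H).Normal]

/-- The projection. -/
abbrev q (_ : Geo D) : ↥D.H →* D.Hb := QuotientGroup.mk' (D.E.subgroupOf D.H)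

theorem q_eq_one {h : ↥D.H} : P.q h = 1 ↔ (h : G) ∈ D.E := by
  rw [← MonoidHom.mem_ker, QuotientGroup.ker_mk', mem_subgroupOf]

theorem q_eq_of_g {h k : ↥D.H} (e : ∀ v < 4096, P.g h v = P.g k v) : P.q h = P.q k := by
  rw [← inv_mul_eq_one, ← map_inv, ← map_mul, P.q_eq_one]
  exact P.mod_E e

theorem g_of_q {h k : ↥D.H} (e : P.q h = P.q k) {v : ℕ} (hv : v < 4096) : P.g h v = P.g k v := by
  rw [← inv_mul_eq_one, ← map_inv, ← map_mul, P.q_eq_one] at e
  conv_rhs => rw [← mul_inv_cancel_left h k, P.g_mul, P.g_mem (by exact e) hv]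

/-- The image of the subgroup of order three. -/
abbrev Xb : Subgroup D.Hb := zpowers (P.q P.xs)

theorem xs3 : P.xs ^ 3 = 1 := by
  refine Subtype.ext ?_
  obtain ⟨k, hk⟩ := mem_zpowers_iff.mp (P.xs_zp ▸ mem_zpowers (P.xs : G) : (P.xs : G) ∈ zpowers D.x)
  rw [SubgroupClass.coe_pow, ← hk, ← zpow_natCast, ← zpow_mul, mul_comm, zpow_mul, zpow_natCast, D.x3, one_zpow]
  rfl

theorem mem_C_iff {k : G} : k ∈ D.C ↔ Commute k (P.xs : G) := by
  rw [D.memC]
  constructor
  · intro h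
    obtain ⟨n, hn'⟩ := mem_zpowers_iff.mp (P.xs_zp ▸ mem_zpowers (P.xs : G) : (P.xs : G) ∈ zpowers D.x)
    rw [← hn']; exact h.zpow_right n
  · intro h
    obtain ⟨n, hn'⟩ := mem_zpowers_iff.mp (P.xs_zp.symm ▸ mem_zpowers D.x : D.x ∈ zpowers (P.xs : G))
    rw [← hn']; exact h.zpow_right n

theorem q_comm_C {k : ↥D.H} (hk : (k : G) ∈ D.C) : Commute (P.q k) (P.q P.xs) :=
  Commute.map (Subtype.ext (P.mem_C_iff.mp hk).eq) P.q

/-- A fixed element of an element of order three lifts. -/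
theorem lift_comm (a : ↥D.H) (ha : a ^ 3 = 1) {h : ↥D.H} (hc : Commute (P.q h) (P.q a)) :
    ∃ k : ↥D.H, Commute (k : G) (a : G) ∧ P.q k = P.q h := by
  haveI : Fact (Nat.Prime 2) := ⟨Nat.prime_two⟩
  have hN : ∀ g ∈ D.H, g ∈ normalizer (D.E : Set G) := fun g hg => Cfsg.Lib.LargeExtra.core_normalized D.H hg
  have hsol : Group.IsSolvable ↥D.E := by
    haveI := D.E_two.isNilpotent
    infer_instance
  have ha3 : (a : G) ^ 3 = 1 := by rw [← SubgroupClass.coe_pow, ha]; rfl
  have hcop : (Nat.card ↥(zpowers (a : G))).Coprime (Nat.card ↥D.E) := by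
    obtain ⟨n, hn'⟩ := D.E_two.exists_card_eq
    rw [hn', Nat.card_zpowers]
    exact Nat.Coprime.pow_right n (Nat.Coprime.coprime_dvd_left (orderOf_dvd_of_pow_eq_one ha3) (by norm_num))
  have hfix : ∀ b ∈ zpowers (a : G), b * (h : G) * b⁻¹ * (h : G)⁻¹ ∈ D.E := by
    intro b hb
    obtain ⟨k, rfl⟩ := (isOfFinOrder_of_finite (a : G)).mem_powers_iff_mem_zpowers.mpr hb
    have h1 : P.q (a ^ k * h * (a ^ k)⁻¹ * h⁻¹) = 1 := by
      rw [map_mul, map_mul, map_mul, map_inv, map_inv, map_pow, (hc.pow_right k).symm.eq, mul_inv_cancel_right,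
        mul_inv_cancel]
    have h2 := P.q_eq_one.mp h1
    simpa using h2
  obtain ⟨n, hnE, hcn⟩ := Cfsg.Lib.Coprime.exists_fixed_of_commutator_mem
    (zpowers_le.mpr (hN _ a.2)) hcop (Or.inr hsol) (hN _ h.2) hfix
  refine ⟨h * ⟨n, D.E_le hnE⟩, ?_, ?_⟩
  · show (h : G) * n * (a : G) = (a : G) * ((h : G) * n)
    exact (mem_centralizer_iff.mp hcn _ (mem_zpowers _)).symm
  rw [map_mul, (P.q_eq_one (h := ⟨n, D.E_le hnE⟩)).mpr hnE, mul_one]

theorem lift_C {h : ↥D.H} (hc : Commute (P.q h) (P.q P.xs)) : ∃ k : ↥D.H, (k : G) ∈ D.C ∧ P.q k = P.q h := by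
  obtain ⟨k, hk, he⟩ := P.lift_comm P.xs P.xs3 hc
  exact ⟨k, P.mem_C_iff.mpr hk, he⟩

/-- A conjugate of the element of order three commuting with it lies in its subgroup. -/
theorem conj_commuting (h2 : Cfsg.IsCharacteristicTwoType G) {h : ↥D.H}
    (hc : Commute (P.q (h * P.xs * h⁻¹)) (P.q P.xs)) : P.q (h * P.xs * h⁻¹) ∈ P.Xb := by
  obtain ⟨k, hk, hq⟩ := P.lift_C hc
  set a' := h * P.xs * h⁻¹ with ha'
  have ha3 : a' ^ 3 = 1 := by rw [ha', conj_pow, P.xs3, mul_one, mul_inv_cancel]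
  have hk3 : (k : G) ^ 3 ∈ zpowers D.z := by
    refine D.E_inf_C ?_ (pow_mem hk 3)
    rw [← SubgroupClass.coe_pow, ← P.q_eq_one, map_pow, hq, ← map_pow, ha3, map_one]
  have hk12 : (k : G) ^ 12 = 1 := by
    obtain ⟨i, hi⟩ := mem_zpowers_iff.mp hk3
    rw [show (12 : ℕ) = 3 * 4 by norm_num, pow_mul, ← hi, ← zpow_natCast, ← zpow_mul, mul_comm, zpow_mul,
      zpow_natCast, show D.z ^ 4 = 1 by simp [pow_succ, D.zz],
      one_zpow]
  set k' : ↥D.H := k ^ 4 with hk'
  have hk'C : (k' : G) ∈ D.C := by rw [hk', SubgroupClass.coe_pow]; exact pow_mem hk 4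
  have hq' : P.q k' = P.q a' := by
    rw [hk', map_pow, hq, ← map_pow, pow_succ, ha3, one_mul]
  have h9 : (k' : G) ^ 9 = 1 := by
    rw [hk', SubgroupClass.coe_pow, ← pow_mul, show 4 * 9 = 12 * 3 by norm_num, pow_mul, hk12, one_pow]
  rcases (D.three_class hk'C h9).2 with hx | ⟨m, hm, hmy⟩
  · rw [← hq']
    rw [← P.xs_zp] at hx
    obtain ⟨i, hi⟩ := mem_zpowers_iff.mp hx
    exact mem_zpowers_iff.mpr ⟨i, by rw [← map_zpow]; exact congrArg P.q (Subtype.ext (by simpa using hi))⟩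
  · exfalso
    -- the fused element has fixed vectors
    obtain ⟨-, -, hEy, -⟩ := D.core_facts h2
    obtain ⟨e, he, hez⟩ : ∃ e ∈ D.Ey, e ∉ zpowers D.z := by
      by_contra! hno
      have := card_le_of_le (show D.Ey ≤ zpowers D.z from hno)
      rw [hEy, Nat.card_zpowers, D.oz] at this
      omega
    obtain ⟨v, hv, hev⟩ := P.frame.surj (P.Q.π e)
    obtain ⟨he1, he2⟩ := D.mem_Ey.mp he
    set mH : ↥D.H := ⟨m, D.CH hm⟩
    set yH : ↥D.H := ⟨D.y, D.CH D.yC⟩
    have hy : yH = mH * k' * mH⁻¹ := Subtype.ext hmy.symm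
    have hgy : P.g yH v = v := P.g_unique hv (by
      rw [hev, P.Q.conj yH e he1]
      congr 1
      show e = D.y * e * D.y⁻¹
      rw [he2.symm.eq, mul_inv_cancel_right])
    have hqy : P.q yH = P.q (mH * h * P.xs * (mH * h)⁻¹) := by
      rw [hy, map_mul, map_mul, hq', ← map_mul, ← map_mul, ha']
      congr 1; group
    have hp := P.g_poly (mH * h) hv
    rw [← P.g_of_q hqy hv, hgy, ← P.g_of_q hqy hv, hgy, Nat.xor_self, Nat.zero_xor] at hp
    rw [hp, P.frame.f_zero] at hev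
    exact hez ((P.Q.ker e he1).mp hev.symm)

theorem card_cent_y (h2 : Cfsg.IsCharacteristicTwoType G) :
    Nat.card ↥(centralizer ({P.q ⟨D.y, D.CH D.yC⟩} : Set D.Hb)) ≤ 72 := by
  classical
  obtain ⟨-, -, hEy, -⟩ := D.core_facts h2
  set yH : ↥D.H := ⟨D.y, D.CH D.yC⟩
  let K : Subgroup ↥D.H := centralizer ({yH} : Set ↥D.H)
  have hKmem : ∀ {k : ↥D.H}, k ∈ K ↔ Commute (k : G) D.y := fun {k} => by
    rw [mem_centralizer_singleton_iff]
    exact ⟨fun e => congrArg Subtype.val e, fun e => Subtype.ext e.eq⟩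
  have hmap : centralizer ({P.q yH} : Set D.Hb) ≤ K.map P.q := by
    intro w hw
    obtain ⟨h, rfl⟩ := QuotientGroup.mk'_surjective (D.E.subgroupOf D.H) w
    obtain ⟨k, hk, hq⟩ := P.lift_comm yH (Subtype.ext (by rw [SubgroupClass.coe_pow]; exact D.y3))
      (mem_centralizer_singleton_iff.mp hw : Commute (P.q h) (P.q yH))
    exact ⟨k, hKmem.mpr hk, hq⟩
  refine le_trans (card_le_of_le hmap) ?_
  let q' : ↥K →* ↥(K.map P.q) := P.q.subgroupMap K
  have hker : Nat.card ↥q'.ker = 32 := by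
    rw [← hEy]
    refine Nat.card_congr
      { toFun := fun k => ⟨((k : ↥K) : ↥D.H), D.mem_Ey.mpr ⟨P.q_eq_one.mp (congrArg Subtype.val (MonoidHom.mem_ker.mp k.2)),
          hKmem.mp (k : ↥K).2⟩⟩
        invFun := fun e => ⟨⟨⟨e, D.E_le (D.mem_Ey.mp e.2).1⟩, hKmem.mpr (D.mem_Ey.mp e.2).2⟩,
          MonoidHom.mem_ker.mpr (Subtype.ext (P.q_eq_one.mpr (D.mem_Ey.mp e.2).1))⟩
        left_inv := fun k => rfl
        right_inv := fun e => rfl }
  have hK : Nat.card ↥K ≤ 2304 := by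
    set u : ↥D.C := ⟨D.c⁻¹ * D.z * D.c, D.pull_mem D.yz.symm⟩ with hu
    have hu2 : D.φ u * D.φ u = 1 := by
      rw [← map_mul, show u * u = 1 from Subtype.ext (by
        show D.c⁻¹ * D.z * D.c * (D.c⁻¹ * D.z * D.c) = 1
        rw [show D.c⁻¹ * D.z * D.c * (D.c⁻¹ * D.z * D.c) = D.c⁻¹ * (D.z * D.z) * D.c by group, D.zz, mul_one,
          inv_mul_cancel]), map_one]
    have hu1 : D.φ u ≠ 1 := fun e => D.z_ne (D.pull_inj h2 D.z_mem D.yz.symm e)
    let f : ↥K →* ↥Cfsg.Spor.M22 :=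
      D.φ.comp (MonoidHom.mk' (fun k => (⟨D.c⁻¹ * ((k : ↥D.H) : G) * D.c, D.pull_mem (hKmem.mp k.2)⟩ : ↥D.C))
        fun a b => Subtype.ext (by
          show D.c⁻¹ * (((a : ↥D.H) : G) * ((b : ↥D.H) : G)) * D.c = D.c⁻¹ * _ * D.c * (D.c⁻¹ * _ * D.c)
          group))
    have hr : Nat.card ↥f.range ≤ 384 := by
      rw [← cent_invol qmEquiv hu2 hu1]
      refine card_le_of_le ?_
      rintro _ ⟨k, rfl⟩
      rw [mem_centralizer_singleton_iff]
      show D.φ _ * D.φ u = D.φ u * D.φ _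
      rw [← map_mul, ← map_mul]
      refine congrArg D.φ (Subtype.ext ?_)
      show D.c⁻¹ * ((k : ↥D.H) : G) * D.c * (D.c⁻¹ * D.z * D.c) = D.c⁻¹ * D.z * D.c * (D.c⁻¹ * ((k : ↥D.H) : G) * D.c)
      calc D.c⁻¹ * ((k : ↥D.H) : G) * D.c * (D.c⁻¹ * D.z * D.c) = D.c⁻¹ * (((k : ↥D.H) : G) * D.z) * D.c := by group
        _ = D.c⁻¹ * (D.z * ((k : ↥D.H) : G)) * D.c := by rw [(D.memH.mp (k : ↥D.H).2).eq]
        _ = _ := by group
    have hk6 : Nat.card ↥f.ker ≤ 6 := by
      have h6 : Nat.card ↥D.φ.ker = 6 := by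
        have h := card_eq_card_quotient_mul_card_subgroup D.φ.ker
        rw [Nat.card_congr (QuotientGroup.quotientKerEquivOfSurjective D.φ D.φ_surj).toEquiv,
          Cfsg.Lib.Golay.card_M22, D.cardC] at h
        omega
      rw [← h6]
      refine Nat.card_le_card_of_injective (fun k => ⟨⟨D.c⁻¹ * (((k : ↥K) : ↥D.H) : G) * D.c,
        D.pull_mem (hKmem.mp (k : ↥K).2)⟩, MonoidHom.mem_ker.mp k.2⟩) fun a b e => ?_
      have e' := congrArg (fun t : ↥D.φ.ker => ((t : ↥D.C) : G)) e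
      simp only [mul_left_inj, mul_right_inj] at e'
      exact Subtype.ext (Subtype.ext (Subtype.ext e'))
    have h := card_eq_card_quotient_mul_card_subgroup f.ker
    rw [Nat.card_congr (QuotientGroup.quotientKerEquivRange f).toEquiv] at h
    rw [h]
    calc Nat.card ↥f.range * Nat.card ↥f.ker ≤ 384 * 6 := Nat.mul_le_mul hr hk6
      _ = 2304 := by norm_num
  have h := card_eq_card_quotient_mul_card_subgroup q'.ker
  rw [Nat.card_congr (QuotientGroup.quotientKerEquivOfSurjective q' (P.q.subgroupMap_surjective K)).toEquiv, hker] at h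
  omega

theorem card_cent_y_C : 36 ≤ Nat.card ↥(centralizer ({P.q ⟨D.y, D.CH D.yC⟩} : Set D.Hb) ⊓
    centralizer ({P.q P.xs} : Set D.Hb)) := by
  classical
  set T := centralizer ({D.φ ⟨D.y, D.yC⟩} : Set ↥Cfsg.Spor.M22) with hT
  have hT36 : 36 ≤ Nat.card ↥T := three_cent qmEquiv D.φy3 D.φy_ne
  set Pre := T.comap D.φ with hPre
  have hker6 : Nat.card ↥Pre = 6 * Nat.card ↥T := by
    have h1 := Pre.card_mul_index
    have h3 := T.card_mul_index
    rw [hPre, index_comap_of_surjective _ D.φ_surj, D.cardC] at h1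
    rw [Cfsg.Lib.Golay.card_M22] at h3
    refine Nat.eq_of_mul_eq_mul_right (Nat.pos_of_ne_zero T.index_ne_zero_of_finite) ?_
    rw [mul_assoc, h3, ← hPre] at *
    omega
  have hdiff : ∀ k : ↥Pre, ((k : ↥D.C) : G) * D.y * ((k : ↥D.C) : G)⁻¹ * D.y⁻¹ ∈ zpowers D.x := by
    intro k
    have hk : D.φ ((k : ↥D.C) * ⟨D.y, D.yC⟩ * (k : ↥D.C)⁻¹ * (⟨D.y, D.yC⟩ : ↥D.C)⁻¹) = 1 := by
      rw [map_mul, map_mul, map_mul, map_inv, map_inv, mem_centralizer_singleton_iff.mp k.2, mul_inv_cancel_right,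
        mul_inv_cancel]
    obtain ⟨i, j, hij⟩ := (D.φ_ker _).mp hk
    have hij' : ((k : ↥D.C) : G) * D.y * ((k : ↥D.C) : G)⁻¹ * D.y⁻¹ = D.x ^ i * D.z ^ j := by simpa using hij
    rw [hij']
    rcases D.z_pow j with e | e
    · rw [e, mul_one]; exact npow_mem_zpowers D.x i
    · exfalso
      set k0 : G := ((k : ↥D.C) : G)
      have he : k0 * D.y * k0⁻¹ = D.x ^ i * D.z * D.y := by rw [← e, ← hij', inv_mul_cancel_right]
      have h3 := conj_pow (i := 3) (a := k0) (b := D.y)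
      rw [he, D.y3, mul_one, mul_inv_cancel, ((D.yx.symm.pow_left i).mul_left D.yz.symm).mul_pow,
        (D.xz.pow_left i).mul_pow, ← pow_mul, mul_comm i 3, pow_mul, D.x3, one_pow, one_mul, D.y3, mul_one, pow_succ,
        pow_two, D.zz, one_mul] at h3
      exact D.z_ne h3
  let f : ↥Pre →* ↥(zpowers D.x) :=
    MonoidHom.mk' (fun k => ⟨_, hdiff k⟩) fun a b => Subtype.ext (by
      obtain ⟨n, hn'⟩ := mem_zpowers_iff.mp (hdiff b)
      set a0 : G := ((a : ↥D.C) : G)
      set b0 : G := ((b : ↥D.C) : G)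
      show a0 * b0 * D.y * (a0 * b0)⁻¹ * D.y⁻¹ = a0 * D.y * a0⁻¹ * D.y⁻¹ * (b0 * D.y * b0⁻¹ * D.y⁻¹)
      have ha : Commute a0 (D.x ^ n) := (D.memC.mp (a : ↥D.C).2).zpow_right n
      have hy : Commute D.y (D.x ^ n) := D.yx.zpow_right n
      calc a0 * b0 * D.y * (a0 * b0)⁻¹ * D.y⁻¹ = a0 * (b0 * D.y * b0⁻¹ * D.y⁻¹) * D.y * a0⁻¹ * D.y⁻¹ := by group
        _ = D.x ^ n * (a0 * D.y * a0⁻¹ * D.y⁻¹) := by rw [← hn', ha.eq]; group
        _ = a0 * D.y * a0⁻¹ * D.y⁻¹ * D.x ^ n := by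
            exact (((ha.mul_left hy).mul_left ha.inv_left).mul_left hy.inv_left).symm.eq
        _ = _ := by rw [hn'])
  have hk72 : 72 ≤ Nat.card ↥f.ker := by
    have h := card_eq_card_quotient_mul_card_subgroup f.ker
    rw [Nat.card_congr (QuotientGroup.quotientKerEquivRange f).toEquiv] at h
    have h3 : Nat.card ↥f.range ≤ 3 := by
      rw [← D.ox, ← Nat.card_zpowers]; exact Finite.card_subtype_le _
    have := Nat.mul_le_mul_right (Nat.card ↥f.ker) h3
    omega
  let Φ : ↥f.ker →* D.Hb :=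
    P.q.comp ((Subgroup.inclusion D.CH).comp (Pre.subtype.comp f.ker.subtype))
  have hΦk : Nat.card ↥Φ.ker ≤ 2 := by
    rw [← D.oz, ← Nat.card_zpowers]
    refine Nat.card_le_card_of_injective
      (fun k => ⟨((((k : ↥f.ker) : ↥Pre) : ↥D.C) : G), D.E_inf_C (P.q_eq_one.mp (MonoidHom.mem_ker.mp k.2))
        (((k : ↥f.ker) : ↥Pre) : ↥D.C).2⟩) fun a b e => ?_
    exact Subtype.ext (Subtype.ext (Subtype.ext (Subtype.ext
      (congrArg (fun t : ↥(zpowers D.z) => (t : G)) e))))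
  have hr : Φ.range ≤ centralizer ({P.q ⟨D.y, D.CH D.yC⟩} : Set D.Hb) ⊓ centralizer ({P.q P.xs} : Set D.Hb) := by
    rintro _ ⟨k, rfl⟩
    set k0 : G := (((k : ↥Pre) : ↥D.C) : G)
    have hky : Commute k0 D.y := by
      have h := congrArg Subtype.val (MonoidHom.mem_ker.mp k.2)
      exact mul_inv_eq_iff_eq_mul.mp (mul_inv_eq_one.mp h)
    refine ⟨mem_centralizer_singleton_iff.mpr ?_, mem_centralizer_singleton_iff.mpr ?_⟩
    · exact (Commute.map (Subtype.ext hky.eq : Commute (Subgroup.inclusion D.CH ((k : ↥Pre) : ↥D.C)) ⟨D.y, D.CH D.yC⟩)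
        P.q).eq
    · exact (P.q_comm_C ((k : ↥Pre) : ↥D.C).2).eq
  refine le_trans ?_ (card_le_of_le hr)
  have h := card_eq_card_quotient_mul_card_subgroup Φ.ker
  rw [Nat.card_congr (QuotientGroup.quotientKerEquivRange Φ).toEquiv] at h
  have := Nat.mul_le_mul_left (Nat.card ↥Φ.range) hΦk
  omega

/-- A conjugate commuting with the fused element lies in the subgroup of order three. -/
theorem conj_commuting_y (h2 : Cfsg.IsCharacteristicTwoType G) {h : ↥D.H}
    (hc : Commute (P.q (h * P.xs * h⁻¹)) (P.q ⟨D.y, D.CH D.yC⟩)) : P.q (h * P.xs * h⁻¹) ∈ P.Xb := by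
  refine P.conj_commuting h2 ?_
  set a := P.q (h * P.xs * h⁻¹)
  have ha3 : a ^ 3 = 1 := by rw [← map_pow, conj_pow, P.xs3, mul_one, mul_inv_cancel, map_one]
  set T := centralizer ({P.q ⟨D.y, D.CH D.yC⟩} : Set D.Hb)
  set K := T ⊓ centralizer ({P.q P.xs} : Set D.Hb) with hK
  have haT : a ∈ T := mem_centralizer_singleton_iff.mpr hc.eq
  have hidx : (K.subgroupOf T).index ≤ 2 := by
    have h1 := (K.subgroupOf T).card_mul_index
    rw [Nat.card_congr (subgroupOfEquivOfLe (inf_le_left : K ≤ T)).toEquiv] at h1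
    have h3 : Nat.card ↥T ≤ 72 := P.card_cent_y h2
    have h36 : 36 ≤ Nat.card ↥K := P.card_cent_y_C
    by_contra hlt
    have : Nat.card ↥K * 3 ≤ 72 := le_trans (Nat.mul_le_mul_left _ (show 3 ≤ (K.subgroupOf T).index by omega)) (h1 ▸ h3)
    omega
  have hsq : a * a ∈ K := by
    rcases (show (K.subgroupOf T).index = 1 ∨ (K.subgroupOf T).index = 2 by
      have := (K.subgroupOf T).index_ne_zero_of_finite; omega) with e | e
    · exact mem_subgroupOf.mp (show (⟨a * a, mul_mem haT haT⟩ : ↥T) ∈ K.subgroupOf T by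
        rw [index_eq_one.mp e]; exact mem_top _)
    · exact mem_subgroupOf.mp (mul_self_mem_of_index_two e ⟨a, haT⟩)
  have hc2 : Commute (a * a) (P.q P.xs) := mem_centralizer_singleton_iff.mp (mem_inf.mp hsq).2
  have := hc2.mul_left hc2
  rwa [show a * a * (a * a) = a by rw [← mul_assoc, show a * a * a = a ^ 3 by simp [pow_succ], ha3, one_mul]] at this

/-- A conjugate commuting with the element of order eleven lies in the subgroup of order three. -/
theorem conj_commuting_eleven (h2 : Cfsg.IsCharacteristicTwoType G) {h : ↥D.H}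
    (hc : Commute (P.q (h * P.xs * h⁻¹)) (P.q P.la)) : P.q (h * P.xs * h⁻¹) ∈ P.Xb := by
  refine P.conj_commuting h2 ?_
  set a := h * P.xs * h⁻¹ with ha
  let X := P.g a
  have hX : ∀ v < 4096, X (mv A v) = mv A (X v) := fun v hv => by
    have e : P.q (a * P.la) = P.q (P.la * a) := by rw [map_mul P.q a P.la, map_mul P.q P.la a, hc.eq]
    show P.g a (mv A v) = mv A (P.g a v)
    rw [← P.g_la hv, ← P.g_mul, P.g_of_q e hv, P.g_mul, P.g_la (P.g_lt a v)]
  have hXx : ∀ x y, X (x ^^^ y) = X x ^^^ X y := P.g_xor a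
  have hpoly : ∀ v < 4096, X (X v) ^^^ X v ^^^ v = 0 := fun v hv => P.g_poly h hv
  have hAl : ∀ x, mv A x < 4096 := mv_lt (n := 12) Cfsg.Lib.JankoFour.mats_lt.1
  obtain ⟨hbas, hr, hrl, hAlt, hOlt⟩ := eleven_basis
  set v := X 1 with hv
  have hv10 : v < 1024 := by
    have hA1 : ∀ x < 4096, mv A x ^^^ x < 1024 := fun x hx => by
      have e : mv A x ^^^ x = mv ((List.range 12).map fun k => mv A (2 ^ k) ^^^ 2 ^ k) x := by
        refine Cfsg.Lib.JankoFour.mv_ext (f := fun x => mv A x ^^^ x) (fun a b => by simp only [mv_xor]; ac_rfl)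
          (by simp [mv_zero]) ?_ x hx
        decide +kernel
      rw [e]
      refine mv_lt (n := 10) (fun m hm => ?_) x
      obtain ⟨k, hk, rfl⟩ := List.mem_map.mp hm
      have h' := List.all_eq_true.mp hAlt k hk
      simpa [Nat.blt] using h'
    rw [hv, ← hr, hXx, hX _ hrl]
    exact hA1 _ (P.g_lt a _)
  have heb : ∀ i, X ((mv A)^[i] 1) = (mv A)^[i] v ∧ (mv A)^[i] 1 < 4096 := by
    intro i
    induction i with
    | zero => exact ⟨rfl, by norm_num⟩
    | succ i ih => simp only [Function.iterate_succ_apply']; exact ⟨by rw [hX _ ih.2, ih.1], hAl _⟩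
  have hmap : ∀ L : List ℕ, ∀ c, X (mv L c) = mv (L.map X) c := fun L c =>
    (Cfsg.Lib.JankoFour.mv_map hXx (P.g_zero a) L c).symm
  have hY : ∀ x < 1024, X x = mv (yMat v) x := by
    refine lin_ext (· ^^^ ·) 10 hXx (mv_xor _) (by rw [mv_zero]; exact P.g_zero a) fun k hk => ?_
    rw [mv_two_pow]
    conv_lhs => rw [← beq_iff_eq.mp (List.all_eq_true.mp hbas k (List.mem_range.mpr hk)), hmap]
    rw [show (yMat v).getD k 0 = mv (eBasis v) (mv Data.CA (2 ^ k)) by
      rw [yMat, List.getD_eq_getElem?_getD, List.getElem?_map, List.getElem?_range hk]; rfl]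
    refine congrArg (fun L => mv L _) ?_
    rw [eBasis, eBasis, List.map_map]
    exact List.map_congr_left fun i _ => (heb i).1
  have hcand := List.all_eq_true.mp eleven_cand v (List.mem_range.mpr hv10)
  simp only [Bool.or_eq_true, Bool.not_eq_true', beq_eq_false_iff_ne] at hcand
  replace hcand := hcand.resolve_left (fun hne => hne (by
    have h1 := hpoly 1 (by norm_num)
    rwa [← hv, hY v hv10] at h1))
  obtain ⟨hfix, hA1024, hO1, hO2, hO3⟩ := eleven_fixed
  have h1024 : X 1024 = 2048 ∨ X 1024 = 3072 := by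
    have hf : mv A (X 1024) = X 1024 := by rw [← hX 1024 (by norm_num), hA1024]
    have h := List.all_eq_true.mp hfix (X 1024) (List.mem_range.mpr (P.g_lt a _))
    simp only [hf, beq_self_eq_true, Bool.not_true, Bool.false_or, List.contains_iff_mem, List.mem_cons,
      List.not_mem_nil, or_false] at h
    have hp := hpoly 1024 (by norm_num)
    rcases h with e | e | e | e
    · rw [e, show X 0 = 0 from P.g_zero a] at hp; norm_num at hp
    · rw [e, e] at hp; norm_num at hp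
    · exact Or.inl e
    · exact Or.inr e
  have h2048 : X 2048 = mv OM (X 1024) := by
    have hp := hpoly 1024 (by norm_num)
    rcases h1024 with e | e
    · rw [e] at hp ⊢
      rw [Nat.xor_eq_zero_iff] at hp
      have h' := congrArg (· ^^^ 2048) hp
      simp only [Nat.xor_assoc, Nat.xor_self, Nat.xor_zero] at h'
      rw [h', hO2]; rfl
    · rw [e] at hp ⊢
      have e3 : X 3072 = X 1024 ^^^ X 2048 := hXx 1024 2048
      rw [e3, e, Nat.xor_right_comm, Nat.xor_assoc (3072 : ℕ)] at hp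
      rw [hO3]
      have e4 : X 2048 ^^^ 1024 = 0 := by
        rw [← hp]; ac_rfl
      exact Nat.xor_eq_zero_iff.mp e4
  have hall : ∀ x < 4096, P.g (a * P.xs) x = P.g (P.xs * a) x := by
    refine lin_ext (· ^^^ ·) 12 (P.g_xor _) (P.g_xor _) (by rw [P.g_zero, P.g_zero]) fun k hk => ?_
    have h2k : 2 ^ k < 4096 := Nat.pow_lt_pow_right (a := 2) (by norm_num) hk
    rw [P.g_mul a P.xs, P.g_mul P.xs a, P.g_xs h2k, P.g_xs (P.g_lt a _)]
    show X (mv OM (2 ^ k)) = mv OM (X (2 ^ k))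
    by_cases hk10 : k < 10
    · have hO : mv OM (2 ^ k) < 1024 := by
        have h' := List.all_eq_true.mp hOlt k (List.mem_range.mpr hk10)
        simpa [Nat.blt] using h'
      rw [hY _ hO, hY _ (Nat.pow_lt_pow_right (a := 2) (n := 10) (by norm_num) hk10)]
      exact beq_iff_eq.mp (List.all_eq_true.mp hcand k (List.mem_range.mpr hk10))
    · rcases (show k = 10 ∨ k = 11 by omega) with rfl | rfl
      · rw [show (2 : ℕ) ^ 10 = 1024 from rfl, hO1]; exact h2048
      · rw [show (2 : ℕ) ^ 11 = 2048 from rfl, hO2, show X 3072 = X 1024 ^^^ X 2048 from hXx 1024 2048, h2048]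
        rcases h1024 with e | e <;> rw [e]
        · rw [hO2, hO3]; rfl
        · rw [hO3, hO1]; rfl
  have := P.q_eq_of_g hall
  rwa [map_mul, map_mul] at this

/-- A conjugate commuting with the element of order seven lies in the subgroup of order three. -/
theorem conj_commuting_seven (h2 : Cfsg.IsCharacteristicTwoType G) {h : ↥D.H}
    (hc : Commute (P.q (h * P.xs * h⁻¹)) (P.q (P.wordElem Data.word7))) : P.q (h * P.xs * h⁻¹) ∈ P.Xb := by
  obtain ⟨hw, hwlt⟩ := seven_word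
  obtain ⟨hW7, hUB, hVB, hW6, hO6, hb, hinv, c1, c2, c3, c4⟩ := seven_basis
  set s := P.wordElem Data.word7 with hs
  have hs7 : ∀ v < 4096, P.g s v = mv Data.W7 v := fun v hv => by
    rw [hs, P.g_word _ (fun i hi => by simpa [Nat.blt] using List.all_eq_true.mp hwlt i hi) v hv, hw]
  have lt12 : ∀ {M : List ℕ}, (M.all fun m => Nat.blt m 4096) = true → ∀ x, mv M x < 4096 := fun {M} hM x =>
    mv_lt (n := 12) (fun m hm => by simpa [Nat.blt] using List.all_eq_true.mp hM m hm) x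
  have lt6 : ∀ {M : List ℕ}, (M.all fun m => Nat.blt m 64) = true → ∀ x, mv M x < 64 := fun {M} hM x =>
    mv_lt (n := 6) (fun m hm => by simpa [Nat.blt] using List.all_eq_true.mp hM m hm) x
  have lW := lt12 hW7
  have lU := lt12 hUB
  have lV := lt12 hVB
  have hU : ∀ c < 64, mv Data.W7 (mv Data.UB c) = mv Data.UB (mv Data.W6 c) ∧
      mv OM (mv Data.UB c) = mv Data.UB (mv Data.O6 c) ∧ p7 (mv Data.UB c) = 0 ∧ q7 (mv Data.VB c) = 0 ∧
      mv Data.PI (mv Data.UB c) = c := by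
    have hk : ∀ k < 6, _ := fun k hk => List.all_eq_true.mp hb k (List.mem_range.mpr hk)
    simp only [Bool.and_eq_true, beq_iff_eq] at hk
    intro c hc
    refine ⟨?_, ?_, ?_, ?_, ?_⟩
    · exact lin_ext (f := fun c => mv Data.W7 (mv Data.UB c)) (g := fun c => mv Data.UB (mv Data.W6 c)) (· ^^^ ·) 6
        (fun a b => by simp only [mv_xor]) (fun a b => by simp only [mv_xor]) (by simp [mv_zero])
        (fun j hj => (hk j hj).1.1.1.1) c hc
    · exact lin_ext (f := fun c => mv OM (mv Data.UB c)) (g := fun c => mv Data.UB (mv Data.O6 c)) (· ^^^ ·) 6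
        (fun a b => by simp only [mv_xor]) (fun a b => by simp only [mv_xor]) (by simp [mv_zero])
        (fun j hj => (hk j hj).1.1.1.2) c hc
    · exact lin_ext (f := fun c => p7 (mv Data.UB c)) (g := fun _ => 0) (· ^^^ ·) 6
        (fun a b => by simp only [p7, mv_xor]; ac_rfl) (fun a b => rfl) (by simp [p7, mv_zero])
        (fun j hj => (hk j hj).1.1.2) c hc
    · exact lin_ext (f := fun c => q7 (mv Data.VB c)) (g := fun _ => 0) (· ^^^ ·) 6
        (fun a b => by simp only [q7, mv_xor]; ac_rfl) (fun a b => rfl) (by simp [q7, mv_zero])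
        (fun j hj => (hk j hj).1.2) c hc
    · exact lin_ext (f := fun c => mv Data.PI (mv Data.UB c)) (g := id) (· ^^^ ·) 6
        (fun a b => by simp only [mv_xor]) (fun a b => rfl) (by simp [mv_zero])
        (fun j hj => (hk j hj).2) c hc
  have hsp : ∀ x < 4096, (p7 x = 0 → ∃ c < 64, mv Data.UB c = x) ∧ (q7 x = 0 → mv Data.PI x % 64 = 0) := fun x hx => by
    have h := List.all_eq_true.mp seven_scan x (List.mem_range.mpr hx)
    simp only [Bool.and_eq_true, Bool.or_eq_true, Bool.not_eq_true', beq_eq_false_iff_ne, beq_iff_eq] at h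
    exact ⟨fun e => ⟨_, Nat.mod_lt _ (by norm_num), h.1.resolve_left (fun r => r e)⟩,
      fun e => h.2.resolve_left (fun r => r e)⟩
  have hcoord : ∀ x < 4096, mv (Data.UB ++ Data.VB) (mv Data.PI x) = x :=
    lin_ext (g := id) (f := fun x => mv (Data.UB ++ Data.VB) (mv Data.PI x)) (· ^^^ ·) 12
      (fun a b => by simp only [mv_xor]) (fun a b => rfl) (by simp [mv_zero])
      (fun j hj => beq_iff_eq.mp (List.all_eq_true.mp hinv j (List.mem_range.mpr hj)))
  have happ : ∀ c, c < 4096 → mv (Data.UB ++ Data.VB) c = mv Data.UB (c % 64) ^^^ mv Data.VB (c / 64) := by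
    intro c hc
    have h1 : ∀ j < 12, mv (Data.UB ++ Data.VB) (2 ^ j) = mv Data.UB (2 ^ j % 64) ^^^ mv Data.VB (2 ^ j / 64) := by
      decide +kernel
    exact lin_ext (f := mv (Data.UB ++ Data.VB)) (g := fun c => mv Data.UB (c % 64) ^^^ mv Data.VB (c / 64)) (· ^^^ ·) 12
      (mv_xor _) (fun a b => by
        rw [show (64 : ℕ) = 2 ^ 6 from rfl, Nat.xor_mod_two_pow, ← Nat.shiftRight_eq_div_pow, ← Nat.shiftRight_eq_div_pow,
          ← Nat.shiftRight_eq_div_pow, Nat.shiftRight_xor_distrib, mv_xor, mv_xor]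
        ac_rfl)
      (by simp [mv_zero]) h1 c hc
  -- elements commuting with the element of order seven
  have hcomW : ∀ k : ↥D.H, Commute (P.q k) (P.q s) → ∀ x < 4096, P.g k (mv Data.W7 x) = mv Data.W7 (P.g k x) := by
    intro k hk x hx
    have e : P.q (k * s) = P.q (s * k) := by rw [map_mul, map_mul, hk.eq]
    rw [← hs7 x hx, ← P.g_mul, P.g_of_q e hx, P.g_mul, hs7 _ (P.g_lt k x)]
  have faith : ∀ k : ↥D.H, Commute (P.q k) (P.q s) → (∀ c < 64, P.g k (mv Data.UB c) = mv Data.UB c) → P.q k = 1 := by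
    intro k hk hfix
    rw [← map_one P.q]
    refine P.q_eq_of_g fun x hx => ?_
    rw [P.g_one hx]
    have hkW := hcomW k hk
    have hV : ∀ d < 64, P.g k (mv Data.VB d) = mv Data.VB d := fun d hd => by
      set r := P.g k (mv Data.VB d) ^^^ mv Data.VB d with hr'
      have hrl : r < 4096 := Nat.xor_lt_two_pow (n := 12) (P.g_lt _ _) (lV d)
      have hqr : q7 r = 0 := by
        have e : q7 (P.g k (mv Data.VB d)) = 0 := by
          simp only [q7]
          rw [← hkW _ (lV d), ← hkW _ (lW _), ← hkW _ (lW _), ← P.g_xor, ← P.g_xor]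
          have := (hU d hd).2.2.2.1
          simp only [q7] at this
          rw [this, P.g_zero]
        have e2 : q7 r = q7 (P.g k (mv Data.VB d)) ^^^ q7 (mv Data.VB d) := by
          rw [hr']; simp only [q7, mv_xor]; ac_rfl
        rw [e2, e, (hU d hd).2.2.2.1]; rfl
      have h0 := (hsp r hrl).2 hqr
      have hPIl : mv Data.PI r < 4096 := lt12 (by decide +kernel) r
      have hrc : r = mv Data.VB (mv Data.PI r / 64) := by
        conv_lhs => rw [← hcoord r hrl, happ _ hPIl, h0, mv_zero, Nat.zero_xor]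
      by_contra hne
      have hr0 : mv Data.PI r / 64 ≠ 0 := fun e => hne (by
        rw [e, mv_zero, hr', Nat.xor_eq_zero_iff] at hrc
        exact hrc)
      have hlt : mv Data.PI r / 64 < 64 := by omega
      have h := List.all_eq_true.mp seven_pairing _ (List.mem_range.mpr hlt)
      simp only [Bool.or_eq_true, beq_iff_eq, List.any_eq_true] at h
      obtain ⟨u, hu, hpu⟩ := h.resolve_left hr0
      obtain ⟨i, hi, hui⟩ := List.getElem_of_mem hu
      have hu6 : ∀ i, (hi : i < Data.UB.length) → Data.UB[i] = mv Data.UB (2 ^ i) ∧ 2 ^ i < 64 := by decide +kernel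
      obtain ⟨hu1, hu2⟩ := hu6 i hi
      rw [← hui, hu1, ← hrc, hr'] at hpu
      rw [Cfsg.Lib.JankoFour.pB_xor_right] at hpu
      have hinvk := P.g_pB k (lU (2 ^ i)) (lV d)
      rw [hfix _ hu2] at hinvk
      rw [hinvk, Bool.xor_self] at hpu
      exact Bool.false_ne_true hpu
    have hPI : mv Data.PI x < 4096 := lt12 (by decide +kernel) x
    conv_lhs => rw [← hcoord x hx, happ _ hPI, P.g_xor, hfix _ (Nat.mod_lt _ (by norm_num)),
      hV _ (by omega), ← happ _ hPI, hcoord x hx]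
  -- the restriction
  set a := h * P.xs * h⁻¹ with ha
  have hc' : Commute (P.q a) (P.q s) := hc
  let X : ℕ → ℕ := fun c => mv Data.PI (P.g a (mv Data.UB c)) % 64
  have hXspec : ∀ c < 64, P.g a (mv Data.UB c) = mv Data.UB (X c) ∧ X c < 64 := fun c hc => by
    have hp : p7 (P.g a (mv Data.UB c)) = 0 := by
      simp only [p7]
      rw [← hcomW a hc' _ (lU c), ← hcomW a hc' _ (lW _), ← hcomW a hc' _ (lW _), ← P.g_xor, ← P.g_xor]
      have := (hU c hc).2.2.1
      simp only [p7] at this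
      rw [this, P.g_zero]
    obtain ⟨d, hd, he⟩ := (hsp _ (P.g_lt a _)).1 hp
    refine ⟨?_, Nat.mod_lt _ (by norm_num)⟩
    show _ = mv Data.UB (mv Data.PI (P.g a (mv Data.UB c)) % 64)
    rw [← he, (hU d hd).2.2.2.2, Nat.mod_eq_of_lt hd]
  have hUinj : ∀ c < 64, ∀ d < 64, mv Data.UB c = mv Data.UB d → c = d := fun c hc d hd e => by
    rw [← (hU c hc).2.2.2.2, e, (hU d hd).2.2.2.2]
  have hXx : ∀ p q, p < 64 → q < 64 → X (p ^^^ q) = X p ^^^ X q := fun p q hp hq =>
    hUinj _ (hXspec _ (Nat.xor_lt_two_pow (n := 6) hp hq)).2 _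
      (Nat.xor_lt_two_pow (n := 6) (hXspec _ hp).2 (hXspec _ hq).2) (by
        rw [← (hXspec _ (Nat.xor_lt_two_pow (n := 6) hp hq)).1, mv_xor, P.g_xor, (hXspec _ hp).1, (hXspec _ hq).1,
          mv_xor])
  have hXW : ∀ c < 64, X (mv Data.W6 c) = mv Data.W6 (X c) := fun c hc =>
    hUinj _ (hXspec _ (lt6 hW6 c)).2 _ (lt6 hW6 _) (by
      rw [← (hXspec _ (lt6 hW6 c)).1, ← (hU c hc).1, hcomW a hc' _ (lU c), (hXspec c hc).1,
        (hU _ (hXspec c hc).2).1])
  set M := xMat (X 1) (X 8) with hM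
  have hX0 : X 0 = 0 := by
    show mv Data.PI (P.g a (mv Data.UB 0)) % 64 = 0
    rw [mv_zero, P.g_zero, mv_zero]
  have hXM : ∀ c < 64, X c = mv M c := by
    intro c hc
    have e2 : X 2 = mv Data.W6 (X 1) := by rw [← c1]; exact hXW 1 (by norm_num)
    have e4 : X 4 = mv Data.W6 (X 2) := by rw [← c2]; exact hXW 2 (by norm_num)
    have e16 : X 16 = mv Data.W6 (X 8) := by rw [← c3]; exact hXW 8 (by norm_num)
    have e32 : X 32 = mv Data.W6 (X 16) := by rw [← c4]; exact hXW 16 (by norm_num)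
    have key : ∀ n ≤ 6, ∀ c < 2 ^ n, X c = mv M c := by
      intro n
      induction n with
      | zero => intro _ c hc; rw [show c = 0 by simpa using hc, hX0, mv_zero]
      | succ n ih =>
        intro hn c hc
        by_cases hlt : c < 2 ^ n
        · exact ih (by omega) c hlt
        have hb64 : 2 ^ n < 64 := Nat.pow_lt_pow_right (a := 2) (n := 6) (by norm_num) (by omega)
        have hy : c ^^^ 2 ^ n < 2 ^ n := by
          refine Nat.lt_pow_two_of_testBit _ fun i hi => ?_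
          rw [Nat.testBit_xor, Nat.testBit_two_pow]
          rcases hi.eq_or_lt with rfl | hlt'
          · have hbit : c.testBit n = true := by
              rw [Nat.testBit_eq_decide_div_mod_eq]
              have : c / 2 ^ n = 1 := Nat.div_eq_of_lt_le (by omega) (by rw [pow_succ] at hc; omega)
              simp [this]
            simp [hbit]
          · simp [hlt'.ne, Nat.testBit_lt_two_pow (lt_of_lt_of_le hc (Nat.pow_le_pow_right two_pos hlt'))]
        have he : c = (c ^^^ 2 ^ n) ^^^ 2 ^ n := by rw [Nat.xor_assoc, Nat.xor_self, Nat.xor_zero]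
        rw [he, hXx _ _ (lt_trans hy hb64) hb64, mv_xor, ih (by omega) _ hy]
        congr 1
        have hn6 : n < 6 := by omega
        interval_cases n
        · simp [hM, xMat, mv, mv_zero]
        · simp [hM, xMat, mv, mv_zero, e2]
        · simp [hM, xMat, mv, mv_zero, e4, e2]
        · simp [hM, xMat, mv, mv_zero]
        · simp [hM, xMat, mv, mv_zero, e16]
        · simp [hM, xMat, mv, mv_zero, e32, e16]
    exact key 6 le_rfl c hc
  have hcand := List.all_eq_true.mp (List.all_eq_true.mp seven_cand (X 1) (List.mem_range.mpr (hXspec 1 (by norm_num)).2))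
    (X 8) (List.mem_range.mpr (hXspec 8 (by norm_num)).2)
  simp only [← hM, Bool.or_eq_true, Bool.not_eq_true', beq_iff_eq, List.any_eq_true] at hcand
  have hid6 : ∀ u ∈ id6, u < 64 := by decide +kernel
  have hpoly : (id6.all fun u => mv M (mv M u) ^^^ mv M u ^^^ u == 0) = true := by
    refine List.all_eq_true.mpr fun u hu => beq_iff_eq.mpr ?_
    have hu' := hid6 u hu
    have h1 := (hXspec u hu').2
    rw [← hXM u hu', ← hXM _ h1]
    refine hUinj _ (Nat.xor_lt_two_pow (n := 6) (Nat.xor_lt_two_pow (n := 6) (hXspec _ h1).2 h1) hu') _ (by norm_num) ?_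
    rw [mv_xor, mv_xor, ← (hXspec _ h1).1, ← (hXspec u hu').1, ha, P.g_poly h (lU u), mv_zero]
  have hxsW : Commute (P.q P.xs) (P.q s) := (P.q_comm_C (P.wordElem_mem _)).symm
  have hxsU : ∀ c < 64, P.g P.xs (mv Data.UB c) = mv Data.UB (mv Data.O6 c) := fun c hc => by
    rw [P.g_xs (lU c), (hU c hc).2.1]
  rcases hcand with ((hbad | hO) | hO2) | ⟨wd, hwd, hok⟩
  · rw [hpoly] at hbad; exact absurd hbad (by simp)
  · -- the scalar itself
    refine ⟨1, ?_⟩
    show P.q P.xs ^ (1 : ℤ) = P.q a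
    rw [zpow_one, ← inv_mul_eq_one, ← map_inv, ← map_mul]
    refine faith _ (by rw [map_mul, map_inv]; exact hxsW.inv_left.mul_left hc') fun c hc => ?_
    rw [P.g_mul, (hXspec c hc).1, hXM c hc, hO, ← hxsU c hc, ← P.g_mul, inv_mul_cancel, P.g_one (lU c)]
  · refine ⟨2, ?_⟩
    show P.q P.xs ^ (2 : ℤ) = P.q a
    rw [zpow_two, ← map_mul, ← inv_mul_eq_one, ← map_inv, ← map_mul]
    refine faith _ (by rw [map_mul, map_inv, map_mul]; exact (hxsW.mul_left hxsW).inv_left.mul_left hc') fun c hc => ?_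
    rw [P.g_mul, (hXspec c hc).1, hXM c hc, hO2, mv_mm, ← hxsU _ (lt6 hO6 c), ← hxsU c hc, ← P.g_mul P.xs P.xs,
      ← P.g_mul, inv_mul_cancel, P.g_one (lU c)]
  -- the word of order nine
  exfalso
  let v : List ℕ → ↥D.H := fun w => (w.map fun i => if i = 0 then P.xs else a).prod
  have hv1 : ∀ w : List ℕ, Commute (P.q (v w)) (P.q s) ∧ ∀ c < 64, P.g (v w) (mv Data.UB c) =
      mv Data.UB (mv (vMat M w) c) ∧ mv (vMat M w) c < 64 := by
    intro w
    induction w with
    | nil =>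
      refine ⟨by simp [v], fun c hc => ?_⟩
      have e : mv (vMat M []) c = c := mv_id6 hc
      rw [e]
      exact ⟨P.g_one (lU c), hc⟩
    | cons i r ih =>
      have hv' : v (i :: r) = (if i = 0 then P.xs else a) * v r := by simp [v]
      refine ⟨?_, fun c hc => ?_⟩
      · rw [hv', map_mul]
        split_ifs
        exacts [hxsW.mul_left ih.1, hc'.mul_left ih.1]
      obtain ⟨i1, i2⟩ := ih.2 c hc
      have hv'' : vMat M (i :: r) = mm (if i == 0 then Data.O6 else M) (vMat M r) := rfl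
      rw [hv', P.g_mul, i1, hv'', mv_mm]
      by_cases hi : i = 0
      · subst hi; simp only [if_pos, beq_self_eq_true]; exact ⟨hxsU _ i2, lt6 hO6 _⟩
      · simp only [hi, if_false, beq_eq_false_iff_ne.mpr hi, Bool.false_eq_true]
        rw [← hXM _ i2]
        exact hXspec _ i2
  simp only [wordOK, Bool.and_eq_true, beq_iff_eq, Bool.not_eq_true', beq_eq_false_iff_ne] at hok
  obtain ⟨⟨hcO, h9⟩, h3⟩ := hok
  set V := vMat M wd with hV
  obtain ⟨hvs, hvU⟩ := hv1 wd
  set k0 := v wd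
  have hcx : Commute (P.q k0) (P.q P.xs) := by
    have h1 : P.q ((P.xs * k0)⁻¹ * (k0 * P.xs)) = 1 := by
      refine faith _ (by simp only [map_mul, map_inv]; exact (hxsW.mul_left hvs).inv_left.mul_left (hvs.mul_left hxsW))
        fun c hc => ?_
      rw [P.g_mul _ (k0 * P.xs), P.g_mul k0 P.xs, hxsU c hc, (hvU _ (lt6 hO6 c)).1, ← mv_mm V Data.O6 c, hcO, mv_mm,
        ← hxsU _ (hvU c hc).2, ← (hvU c hc).1, ← P.g_mul P.xs k0, ← P.g_mul, inv_mul_cancel, P.g_one (lU c)]
    rw [map_mul, map_inv, inv_mul_eq_one, map_mul, map_mul] at h1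
    exact h1.symm
  have hcube : ∀ (k : ↥D.H) (N : List ℕ), (∀ c < 64, P.g k (mv Data.UB c) = mv Data.UB (mv N c) ∧ mv N c < 64) →
      ∀ c < 64, P.g (k ^ 3) (mv Data.UB c) = mv Data.UB (mv (cube N) c) ∧ mv (cube N) c < 64 := by
    intro k N hN c hc
    obtain ⟨a1, b1⟩ := hN c hc
    obtain ⟨a2, b2⟩ := hN _ b1
    obtain ⟨a3, b3⟩ := hN _ b2
    rw [cube, mv_mm, mv_mm]
    refine ⟨?_, b3⟩
    rw [show k ^ 3 = k * (k * k) by simp [pow_succ, mul_assoc], P.g_mul, P.g_mul, a1, a2, a3]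
  have hk9 : P.q k0 ^ 9 = 1 := by
    rw [← map_pow]
    refine faith _ (by rw [map_pow]; exact hvs.pow_left 9) fun c hc => ?_
    rw [show k0 ^ 9 = (k0 ^ 3) ^ 3 by rw [← pow_mul], (hcube _ _ (hcube _ _ hvU) c hc).1, h9]
    rw [mv_id6 hc]
  obtain ⟨k, hk, hqk⟩ := P.lift_C hcx
  have hkE : (k : G) ^ 9 ∈ zpowers D.z := by
    refine D.E_inf_C ?_ (pow_mem hk 9)
    rw [← SubgroupClass.coe_pow, ← P.q_eq_one, map_pow, hqk, hk9]
  have hk18 : ((k : G) ^ 2) ^ 9 = 1 := by
    rcases (Cfsg.Lib.LargeExtra.mem_zpowers_two D.zz).mp hkE with r | r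
    · rw [← pow_mul, mul_comm, pow_mul, r, one_pow]
    · rw [← pow_mul, mul_comm, pow_mul, r, pow_two, D.zz]
  have hk6 := (D.three_class (pow_mem hk 2) hk18).1
  have hk3 : P.q k0 ^ 3 = 1 := by
    have h6 : P.q k0 ^ 6 = 1 := by
      rw [← hqk, ← map_pow, P.q_eq_one, SubgroupClass.coe_pow, show (6 : ℕ) = 2 * 3 by norm_num, pow_mul, hk6]
      exact one_mem _
    have h12 : P.q k0 ^ 12 = 1 := by rw [show (12 : ℕ) = 6 * 2 by norm_num, pow_mul, h6, one_pow]
    rwa [show (12 : ℕ) = 9 + 3 by norm_num, pow_add, hk9, one_mul] at h12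
  rw [← map_pow] at hk3
  refine h3 ?_
  have hlen : (cube V).length = 6 := by
    have hl : ∀ w, (vMat M w).length = 6 := by
      intro w
      induction w with
      | nil => rfl
      | cons i r ih => simp [vMat, mm, ih]
    simp [cube, mm, hV, hl]
  refine List.ext_getElem (by rw [hlen]; rfl) fun j hj hj' => ?_
  have hj6 : j < 6 := by rwa [hlen] at hj
  have hid : ∀ j < 6, id6.getD j 0 = 2 ^ j ∧ 2 ^ j < 64 := by decide +kernel
  obtain ⟨hid1, hid2⟩ := hid j hj6
  rw [← List.getD_eq_getElem _ 0 hj, ← List.getD_eq_getElem _ 0 hj', hid1, ← mv_two_pow]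
  refine hUinj _ (hcube _ _ hvU _ hid2).2 _ hid2 ?_
  rw [← (hcube _ _ hvU _ hid2).1, P.g_of_q (hk3.trans (map_one P.q).symm) (lU _), P.g_one (lU _)]

end Geo

end Cfsg.Lib.JankoSixCover
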